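/-
Noetherian normal domains are the intersection of their localisations at height one primes;
consequences for linear forms and for reflexive modules.
-/
import Mathlib.RingTheory.Ideal.KrullsHeightTheorem
import Mathlib.RingTheory.IntegralClosure.IntegrallyClosed
import Mathlib.RingTheory.Ideal.AssociatedPrime.Basic
import Mathlib.RingTheory.Localization.FractionRing
import Mathlib.LinearAlgebra.Dual.Defs

universe u

namespace Groth.RefRank

variable {A : Type*} [CommRing A] [IsDomain A]

/-- If `p * y ⊆ (b)` for a prime `p` of a normal domain and `b ∤ y`, some element of `p` generates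
`p` up to an element outside `p`. -/
theorem exists_generator_up_to [IsNoetherianRing A] [IsIntegrallyClosed A] {p : Ideal A} [p.IsPrime]
    (hp : p ≠ ⊥) {b y : A} (hb : b ≠ 0) (hy : ¬ b ∣ y) (hpy : ∀ q ∈ p, b ∣ q * y) :
    ∃ π ∈ p, ∃ s ∉ p, ∀ q ∈ p, ∃ t, s * q = t * π := by
  let K := FractionRing A
  have hinj := IsFractionRing.injective A K
  have hbK : algebraMap A K b ≠ 0 := fun h => hb (hinj (h.trans (map_zero _).symm))
  by_cases h : ∀ q ∈ p, ∀ t, q * y = b * t → t ∈ p
  · exfalso
    let N : Submodule A K := Submodule.map (Algebra.linearMap A K) p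
    have hN : N.FG := Submodule.FG.map _ (IsNoetherian.noetherian p)
    set z : K := algebraMap A K y / algebraMap A K b
    have hzN : ∀ n ∈ N, z • n ∈ N := by
      rintro _ ⟨q, hq, rfl⟩
      obtain ⟨t, ht⟩ := hpy q hq
      refine ⟨t, h q hq t ht, ?_⟩
      simp only [Algebra.linearMap_apply, smul_eq_mul, z]
      rw [div_mul_eq_mul_div, eq_div_iff hbK, ← map_mul, ← map_mul]
      congr 1
      linear_combination -ht
    have hint : IsIntegral A z := by
      refine isIntegral_of_smul_mem_submodule N ?_ hN z hzN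
      intro hN0
      obtain ⟨q, hq, hq0⟩ := Submodule.exists_mem_ne_zero_of_ne_bot hp
      exact hq0 (hinj ((show algebraMap A K q ∈ (⊥ : Submodule A K) from
        hN0 ▸ ⟨q, hq, rfl⟩ : algebraMap A K q = 0).trans (map_zero _).symm))
    obtain ⟨c, hc⟩ := IsIntegrallyClosed.isIntegral_iff.mp hint
    refine hy ⟨c, hinj ?_⟩
    rw [map_mul, hc, mul_div_cancel₀ _ hbK]
  · simp only [not_forall] at h
    obtain ⟨π, hπ, s, hπs, hs⟩ := h
    refine ⟨π, hπ, s, hs, fun q hq => ?_⟩
    obtain ⟨t, ht⟩ := hpy q hq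
    refine ⟨t, ?_⟩
    have : b * (s * q) = b * (t * π) := by linear_combination π * ht - q * hπs
    exact mul_left_cancel₀ hb this

/-- A prime of a Noetherian normal domain which is associated to a principal ideal has height one. -/
theorem height_eq_one_of_colon [IsNoetherianRing A] [IsIntegrallyClosed A] {p : Ideal A} [p.IsPrime]
    (hp : p ≠ ⊥) {b y : A} (hb : b ≠ 0) (hy : ¬ b ∣ y) (hpy : ∀ q ∈ p, b ∣ q * y) :
    p.height = 1 := by
  obtain ⟨π, hπ, s, hs, hgen⟩ := exists_generator_up_to hp hb hy hpy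
  refine le_antisymm ?_ ?_
  · refine Ideal.height_le_one_of_isPrincipal_of_mem_minimalPrimes (Ideal.span {π}) p
      ⟨⟨‹_›, (Ideal.span_singleton_le_iff_mem p).mpr hπ⟩, fun q ⟨hq, hπq⟩ hqp x hx => ?_⟩
    obtain ⟨t, ht⟩ := hgen x hx
    have : s * x ∈ q := ht ▸ q.mul_mem_left t (hπq (Ideal.mem_span_singleton_self π))
    exact (hq.mem_or_mem this).resolve_left fun h => hs (hqp h)
  · rw [Order.one_le_iff_pos, pos_iff_ne_zero, Ne, Ideal.height_eq_zero_iff,
      IsDomain.minimalPrimes_eq_singleton_bot, Set.mem_singleton_iff]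
    exact hp

/-- A Noetherian normal domain is the intersection of its localisations at height one primes. -/
theorem dvd_of_height_one [IsNoetherianRing A] [IsIntegrallyClosed A] {a b : A} (hb : b ≠ 0)
    (h : ∀ p : Ideal A, p.IsPrime → p.height = 1 → ∃ s ∉ p, b ∣ s * a) : b ∣ a := by
  by_contra hba
  obtain ⟨p, hp, hle⟩ := exists_le_isAssociatedPrime_of_isNoetherianRing A
    (Ideal.Quotient.mk (Ideal.span {b}) a)
    (fun h0 => hba (Ideal.mem_span_singleton.mp (Ideal.Quotient.eq_zero_iff_mem.mp h0)))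
  have hle' : ∀ r : A, b ∣ r * a → r ∈ p := fun r hr => hle (by
    rw [Submodule.mem_colon_singleton, Submodule.mem_bot, Algebra.smul_def,
      Ideal.Quotient.algebraMap_eq, ← map_mul, Ideal.Quotient.eq_zero_iff_mem,
      Ideal.mem_span_singleton]
    exact hr)
  obtain ⟨hpp, y', hy'⟩ := isAssociatedPrime_iff.mp hp
  obtain ⟨y, rfl⟩ := Ideal.Quotient.mk_surjective y'
  have hmem : ∀ r : A, r ∈ p ↔ b ∣ r * y := fun r => by
    rw [hy', Submodule.mem_colon_singleton, Submodule.mem_bot, Algebra.smul_def,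
      Ideal.Quotient.algebraMap_eq, ← map_mul, Ideal.Quotient.eq_zero_iff_mem,
      Ideal.mem_span_singleton]
  have hpb : p ≠ ⊥ := fun e => hb (by simpa [e] using hle' b (Dvd.intro a rfl))
  have hny : ¬ b ∣ y := fun hd => hpp.ne_top ((Ideal.eq_top_iff_one p).mpr ((hmem 1).mpr (by
    rwa [one_mul])))
  obtain ⟨s, hs, hd⟩ := h p hpp (height_eq_one_of_colon hpb hb hny fun q hq => (hmem q).mp hq)
  exact hs (hle' s hd)

/-- An element of the fraction field lying in every localisation at a height one prime lies in the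
normal Noetherian domain. -/
theorem mem_range_of_height_one [IsNoetherianRing A] [IsIntegrallyClosed A] {K : Type*} [Field K]
    [Algebra A K] [IsFractionRing A K] (z : K)
    (h : ∀ p : Ideal A, p.IsPrime → p.height = 1 →
      ∃ s ∉ p, algebraMap A K s * z ∈ Set.range (algebraMap A K)) :
    z ∈ Set.range (algebraMap A K) := by
  obtain ⟨a, ⟨b, hb⟩, rfl⟩ := IsLocalization.exists_mk'_eq (nonZeroDivisors A) z
  obtain ⟨c, rfl⟩ : b ∣ a := by
    refine dvd_of_height_one (nonZeroDivisors.ne_zero hb) fun p hp hp1 => ?_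
    obtain ⟨s, hs, c, hc⟩ := h p hp hp1
    refine ⟨s, hs, c, IsFractionRing.injective A K ?_⟩
    rw [map_mul, map_mul, hc, mul_left_comm, IsLocalization.mk'_spec'_mk]
  refine ⟨c, ?_⟩
  rw [IsLocalization.eq_mk'_iff_mul_eq, ← map_mul, mul_comm]

/-- A linear form is divisible by `b` as soon as it is so at every height one prime. -/
theorem exists_smul_eq_of_height_one [IsNoetherianRing A] [IsIntegrallyClosed A] {M : Type*}
    [AddCommGroup M] [Module A M] (φ : M →ₗ[A] A) {b : A} (hb : b ≠ 0)
    (h : ∀ p : Ideal A, p.IsPrime → p.height = 1 → ∀ m, ∃ s ∉ p, b ∣ s * φ m) :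
    ∃ ψ : M →ₗ[A] A, b • ψ = φ := by
  choose ψ hψ using fun m => dvd_of_height_one hb fun p hp hp1 => h p hp hp1 m
  exact ⟨{ toFun := ψ
           map_add' := fun x y => mul_left_cancel₀ hb (by rw [mul_add, ← hψ, ← hψ, ← hψ, map_add])
           map_smul' := fun r x => mul_left_cancel₀ hb (by
             rw [RingHom.id_apply, smul_eq_mul, mul_left_comm, ← hψ, ← hψ, map_smul, smul_eq_mul]) },
    LinearMap.ext fun m => (hψ m).symm⟩

end Groth.RefRank
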