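/-
Locally closed points and closed points of locally Noetherian schemes.
-/
import Mathlib.AlgebraicGeometry.Noetherian
import Mathlib.RingTheory.Ideal.KrullsHeightTheorem
import Mathlib.RingTheory.Ideal.Quotient.Noetherian
import Mathlib.Topology.Constructible
import Mathlib.Topology.KrullDimension

universe u

open AlgebraicGeometry CategoryTheory TopologicalSpace Topology

namespace Groth.RefRank

/-- In a Noetherian domain, if a nonzero element lies in all nonzero primes, these are maximal. -/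
theorem isMaximal_of_mem_all_primes {B : Type*} [CommRing B] [IsDomain B] [IsNoetherianRing B]
    {f : B} (hf : f ≠ 0) (h : ∀ q : Ideal B, q.IsPrime → q ≠ ⊥ → f ∈ q) {q : Ideal B} [q.IsPrime]
    (hq : q ≠ ⊥) : q.IsMaximal := by
  classical
  have key : ∀ q : Ideal B, q.IsPrime → q ≠ ⊥ → q.height ≤ 1 := by
    intro q hqp hq0
    have hfin := Ideal.finite_minimalPrimes_of_isNoetherianRing B (Ideal.span {f})
    have hsub : (q : Set B) ⊆ ⋃ r ∈ (hfin.toFinset : Set (Ideal B)), (r : Set B) := by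
      intro a ha
      rcases eq_or_ne a 0 with rfl | ha0
      · obtain ⟨r, hr, -⟩ := Ideal.exists_minimalPrimes_le (I := Ideal.span {f}) (J := q)
          ((Ideal.span_singleton_le_iff_mem q).mpr (h q hqp hq0))
        exact Set.mem_biUnion (hfin.mem_toFinset.mpr hr) r.zero_mem
      obtain ⟨r, hr, -⟩ := Ideal.exists_minimalPrimes_le (I := Ideal.span {a}) (J := q)
        ((Ideal.span_singleton_le_iff_mem q).mpr ha)
      have har : a ∈ r := hr.1.2 (Ideal.mem_span_singleton_self a)
      have hr0 : r ≠ ⊥ := fun e => ha0 (by simpa [e] using har)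
      refine Set.mem_biUnion (x := r) (hfin.mem_toFinset.mpr
        ⟨⟨hr.1.1, (Ideal.span_singleton_le_iff_mem r).mpr (h r hr.1.1 hr0)⟩, fun s hs hsr => ?_⟩) har
      by_contra hne
      have : r.IsPrime := hr.1.1
      have : s.IsPrime := hs.1
      have hlt : s < r := lt_of_le_not_ge hsr hne
      have h1 := Ideal.height_strict_mono_of_isPrime hlt
      have h2 := Ideal.height_le_one_of_isPrincipal_of_mem_minimalPrimes _ r hr
      have h3 : s.height = 0 := Order.lt_one_iff.mp (lt_of_lt_of_le h1 h2)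
      rw [Ideal.height_eq_zero_iff, IsDomain.minimalPrimes_eq_singleton_bot, Set.mem_singleton_iff] at h3
      exact hf (by simpa [h3] using hs.2 (Ideal.mem_span_singleton_self f))
    obtain ⟨r, hr, hqr⟩ := (Ideal.subset_union_prime (f := id) ⊥ ⊥ fun r hr _ _ =>
      (hfin.mem_toFinset.mp hr).1.1).mp hsub
    exact (Ideal.height_mono hqr).trans
      (Ideal.height_le_one_of_isPrincipal_of_mem_minimalPrimes _ r (hfin.mem_toFinset.mp hr))
  obtain ⟨m, hm, hqm⟩ := Ideal.exists_le_maximal q ‹q.IsPrime›.ne_top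
  rcases eq_or_lt_of_le hqm with e | hlt
  · exact e ▸ hm
  · exfalso
    have := hm.isPrime
    have hm0 : m ≠ ⊥ := fun e => hq (le_bot_iff.mp (e ▸ hqm))
    have h1 := Ideal.height_strict_mono_of_isPrime hlt
    have h3 : q.height = 0 := Order.lt_one_iff.mp (lt_of_lt_of_le h1 (key m hm.isPrime hm0))
    rw [Ideal.height_eq_zero_iff, IsDomain.minimalPrimes_eq_singleton_bot, Set.mem_singleton_iff] at h3
    exact hq h3

variable {X : Scheme.{u}}

/-- A specialization of a locally closed point, other than the point itself, is closed. -/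
theorem isClosed_singleton_of_specializes [IsLocallyNoetherian X] {x y : X}
    (hx : IsLocallyClosed ({x} : Set X)) (hxy : x ⤳ y) (hne : y ≠ x) : IsClosed ({y} : Set X) := by
  obtain ⟨U, Z, hU, hZ, hUZ⟩ := hx
  have hxUZ : x ∈ U ∩ Z := hUZ ▸ Set.mem_singleton x
  refine isClosed_of_closure_subset fun z hz => ?_
  have hyz : y ⤳ z := specializes_iff_mem_closure.mpr hz
  obtain ⟨_, ⟨V, hV', rfl⟩, hzV, -⟩ :=
    X.isBasis_affineOpens.exists_subset_of_mem_open (Set.mem_univ z) isOpen_univ
  have hV : IsAffineOpen V := hV'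
  have hyV : y ∈ V := hyz.mem_open V.2 hzV
  have hxV : x ∈ V := hxy.mem_open V.2 hyV
  have : IsNoetherianRing Γ(X, V) := IsLocallyNoetherian.component_noetherian ⟨V, hV⟩
  let px := hV.primeIdealOf ⟨x, hxV⟩
  let py := hV.primeIdealOf ⟨y, hyV⟩
  let pz := hV.primeIdealOf ⟨z, hzV⟩
  have hle : ∀ {a b : X} (ha : a ∈ V) (hb : b ∈ V), a ⤳ b →
      (hV.primeIdealOf ⟨a, ha⟩).asIdeal ≤ (hV.primeIdealOf ⟨b, hb⟩).asIdeal := by
    intro a b ha hb hab
    refine (PrimeSpectrum.le_iff_specializes _ _).mpr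
      (hV.fromSpec.isOpenEmbedding.isInducing.specializes_iff.mp ?_)
    rw [hV.fromSpec_primeIdealOf, hV.fromSpec_primeIdealOf]
    exact hab
  obtain ⟨_, ⟨_, ⟨f, rfl⟩, rfl⟩, hfx, hfU⟩ := PrimeSpectrum.isBasis_basic_opens.exists_subset_of_mem_open
    (show px ∈ hV.fromSpec ⁻¹' U by
      change hV.fromSpec px ∈ U
      rw [hV.fromSpec_primeIdealOf]; exact hxUZ.1) (hU.preimage hV.fromSpec.continuous)
  have : px.asIdeal.IsPrime := px.2
  let π := Ideal.Quotient.mk px.asIdeal
  have hmem : ∀ q : Ideal (Γ(X, V) ⧸ px.asIdeal), q.IsPrime → q ≠ ⊥ → π f ∈ q := by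
    intro q hq hq0
    by_contra hfq
    let w : PrimeSpectrum Γ(X, V) := ⟨q.comap π, Ideal.IsPrime.comap π⟩
    have hw : hV.fromSpec w ∈ U := hfU (show w ∈ (PrimeSpectrum.basicOpen f : Set _) from hfq)
    have hsp : x ⤳ hV.fromSpec w := by
      have h2 := ((PrimeSpectrum.le_iff_specializes px w).mp
        (show px.asIdeal ≤ q.comap π from fun a ha => by
          rw [Ideal.mem_comap, show π a = 0 from Ideal.Quotient.eq_zero_iff_mem.mpr ha]
          exact q.zero_mem)).map hV.fromSpec.continuous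
      rwa [hV.fromSpec_primeIdealOf] at h2
    have hwx : hV.fromSpec w ∈ ({x} : Set X) := hUZ ▸ ⟨hw, hsp.mem_closed hZ hxUZ.2⟩
    have e : w = px := by
      apply hV.fromSpec.isOpenEmbedding.injective
      rw [hV.fromSpec_primeIdealOf]; exact hwx
    refine hq0 ?_
    rw [← Ideal.map_comap_of_surjective π Ideal.Quotient.mk_surjective q,
      show q.comap π = px.asIdeal from congrArg PrimeSpectrum.asIdeal e, Ideal.map_quotient_self]
  have hyne : py.asIdeal.map π ≠ ⊥ := fun h0 => by
    rw [Ideal.map_eq_bot_iff_le_ker, Ideal.mk_ker] at h0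
    have e : py = px := PrimeSpectrum.ext (le_antisymm h0 (hle hxV hyV hxy))
    have := congrArg hV.fromSpec e
    rw [hV.fromSpec_primeIdealOf, hV.fromSpec_primeIdealOf] at this
    exact hne this
  have hxy' : px.asIdeal ≤ py.asIdeal := hle hxV hyV hxy
  have : py.asIdeal.IsPrime := py.2
  have : (py.asIdeal.map π).IsPrime :=
    Ideal.map_isPrime_of_surjective Ideal.Quotient.mk_surjective (Ideal.mk_ker.trans_le hxy')
  have hmax := isMaximal_of_mem_all_primes
    (fun h0 => hfx (Ideal.Quotient.eq_zero_iff_mem.mp h0)) hmem hyne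
  have : (py.asIdeal).IsMaximal := by
    have := Ideal.comap_isMaximal_of_surjective π Ideal.Quotient.mk_surjective (K := py.asIdeal.map π)
    rwa [Ideal.comap_map_of_surjective π Ideal.Quotient.mk_surjective, ← RingHom.ker_eq_comap_bot,
      Ideal.mk_ker, sup_eq_left.mpr hxy'] at this
  have e : py = pz := PrimeSpectrum.ext (this.eq_of_le pz.2.ne_top (hle hyV hzV hyz))
  have h2 := congrArg hV.fromSpec e
  rw [hV.fromSpec_primeIdealOf, hV.fromSpec_primeIdealOf] at h2
  exact h2.symm

/-- The closure of a locally closed point has dimension at most one. -/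
theorem dim_closure_le_one [IsLocallyNoetherian X] {x : X} (hx : IsLocallyClosed ({x} : Set X)) :
    topologicalKrullDim (closure ({x} : Set X)) ≤ 1 := by
  refine Order.krullDim_le_one_iff.mpr fun C => ?_
  let C' : Set X := Subtype.val '' (C : Set ↥(closure ({x} : Set X)))
  have hC' : IsIrreducible C' := C.2.image _ continuous_subtype_val.continuousOn
  have hC'cl : IsClosed C' := isClosed_closure.isClosedEmbedding_subtypeVal.isClosedMap _ C.3
  obtain ⟨g, hg⟩ := QuasiSober.sober hC' hC'cl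
  obtain ⟨g', hg', hgg⟩ := hg.mem
  have hgY : g ∈ closure ({x} : Set X) := hgg ▸ g'.2
  by_cases hgx : g = x
  · right
    intro D hCD w _
    have : (w : X) ∈ C' := by rw [← hg.def, hgx]; exact w.2
    obtain ⟨w', hw', e⟩ := this
    exact Subtype.ext e ▸ hw'
  · left
    intro D hDC w hw
    have hcl := isClosed_singleton_of_specializes hx (specializes_iff_mem_closure.mpr hgY) hgx
    have hsub : ∀ v ∈ (C : Set ↥(closure ({x} : Set X))), (v : X) = g := fun v hv => by
      have : (v : X) ∈ closure ({g} : Set X) := hg.def ▸ ⟨v, hv, rfl⟩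
      rwa [hcl.closure_eq] at this
    obtain ⟨d, hd⟩ := D.2.nonempty
    have e : w = d := Subtype.ext ((hsub w hw).trans (hsub d (hDC hd)).symm)
    exact e ▸ hd

/-- Every nonempty closed subset of a locally Noetherian scheme contains a closed point. -/
theorem exists_isClosed_singleton [IsLocallyNoetherian X] {Z : Set X} (hZ : IsClosed Z)
    (hne : Z.Nonempty) : ∃ x ∈ Z, IsClosed ({x} : Set X) := by
  obtain ⟨z, hz⟩ := hne
  obtain ⟨_, ⟨V, hV', rfl⟩, hzV, -⟩ :=
    X.isBasis_affineOpens.exists_subset_of_mem_open (Set.mem_univ z) isOpen_univ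
  have hV : IsAffineOpen V := hV'
  have : CompactSpace {v : X // v ∈ V} := isCompact_iff_compactSpace.mp hV.isCompact
  obtain ⟨x, hxZ, hx⟩ := IsClosed.exists_closed_singleton (X := {v : X // v ∈ V})
    (S := Subtype.val ⁻¹' Z) (hZ.preimage continuous_subtype_val) ⟨⟨z, hzV⟩, hz⟩
  by_cases hc : IsClosed ({x.1} : Set X)
  · exact ⟨x.1, hxZ, hc⟩
  obtain ⟨T, hT, hTe⟩ := isClosed_induced_iff.mp hx
  have hloc : IsLocallyClosed ({x.1} : Set X) := by
    refine ⟨V, T, V.2, hT, ?_⟩
    ext w
    constructor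
    · rintro rfl
      exact ⟨x.2, (Set.ext_iff.mp hTe x).mpr rfl⟩
    · rintro ⟨hwV, hwT⟩
      exact congrArg Subtype.val ((Set.ext_iff.mp hTe ⟨w, hwV⟩).mp hwT)
  obtain ⟨y, hy, hyne⟩ : ∃ y ∈ closure ({x.1} : Set X), y ≠ x.1 := by
    by_contra h
    simp only [not_exists, not_and, not_not] at h
    exact hc (closure_subset_iff_isClosed.mp h)
  exact ⟨y, hZ.closure_subset_iff.mpr (Set.singleton_subset_iff.mpr hxZ) hy,
    isClosed_singleton_of_specializes hloc (specializes_iff_mem_closure.mpr hy) hyne⟩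

/-- Every nonempty locally constructible subset of a scheme contains a locally closed point. -/
theorem exists_isLocallyClosed_singleton {E : Set X} (hE : IsLocallyConstructible E)
    (hne : E.Nonempty) : ∃ x ∈ E, IsLocallyClosed ({x} : Set X) := by
  obtain ⟨e, he⟩ := hne
  obtain ⟨W, hW, hWo, hWc⟩ := hE e
  obtain ⟨_, ⟨V, hV', rfl⟩, heV, hVW⟩ :=
    X.isBasis_affineOpens.exists_subset_of_mem_open (mem_of_mem_nhds hW) hWo
  have hV : IsAffineOpen V := hV'
  let inc : {v : X // v ∈ V} → ↥W := fun v => ⟨v.1, hVW v.2⟩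
  have hinc : IsOpenEmbedding inc :=
    IsOpenEmbedding.of_comp inc hWo.isOpenEmbedding_subtypeVal V.2.isOpenEmbedding_subtypeVal
  have hcV : IsConstructible (inc ⁻¹' (Subtype.val ⁻¹' E)) :=
    IsConstructible.preimage_of_isOpenEmbedding (f := inc) hinc hWc
  have hem : Topology.IsOpenEmbedding hV.fromSpec := hV.fromSpec.isOpenEmbedding
  have hb : IsTopologicalBasis (Set.range fun f : Γ(X, V) =>
      (Subtype.val ⁻¹' (X.basicOpen f : Set X) : Set {v : X // v ∈ V})) := by
    refine isTopologicalBasis_of_isOpen_of_nhds ?_ fun a O haO hO => ?_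
    · rintro _ ⟨f, rfl⟩; exact (X.basicOpen f).2.preimage continuous_subtype_val
    · obtain ⟨f, hf, hf'⟩ := hV.exists_basicOpen_le
        (V := ⟨Subtype.val '' O, V.2.isOpenMap_subtype_val _ hO⟩) ⟨a.1, a, haO, rfl⟩ a.2
      refine ⟨_, ⟨f, rfl⟩, hf', fun v hv => ?_⟩
      obtain ⟨v', hv', e⟩ := hf hv
      exact Subtype.ext e ▸ hv'
  have hcpt : ∀ f : Γ(X, V), IsCompact (Subtype.val ⁻¹' (X.basicOpen f : Set X) : Set {v : X // v ∈ V}) := by
    intro f
    rw [Subtype.isCompact_iff, Set.image_preimage_eq_inter_range, Subtype.range_coe_subtype]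
    have : (X.basicOpen f : Set X) ∩ {v | v ∈ V} = X.basicOpen f :=
      Set.inter_eq_left.mpr fun v hv => X.basicOpen_le f hv
    rw [this]
    exact (hV.basicOpen f).isCompact
  have : CompactSpace {v : X // v ∈ V} := isCompact_iff_compactSpace.mp hV.isCompact
  have : QuasiSeparatedSpace {v : X // v ∈ V} :=
    (isQuasiSeparated_iff_quasiSeparatedSpace (V : Set X) V.2).mp hV.isQuasiSeparated
  have key : ∀ (s : Set {v : X // v ∈ V}), IsConstructible s → s.Nonempty →
      ∃ v ∈ s, IsLocallyClosed ({v.1} : Set X) := by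
    intro s hs
    induction s, hs using IsConstructible.induction_of_isTopologicalBasis _ hb hcpt with
    | sdiff f T hT =>
      intro hne
      have hclosed : IsClosed (⋃ j ∈ T, (Subtype.val ⁻¹' (X.basicOpen j : Set X) : Set {v : X // v ∈ V}))ᶜ :=
        (isOpen_biUnion fun j _ => (X.basicOpen j).2.preimage continuous_subtype_val).isClosed_compl
      have hK : IsCompact ((Subtype.val ⁻¹' (X.basicOpen f : Set X) : Set {v : X // v ∈ V}) \
          ⋃ j ∈ T, (Subtype.val ⁻¹' (X.basicOpen j : Set X) : Set {v : X // v ∈ V})) :=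
        (hcpt f).inter_right hclosed
      have := isCompact_iff_compactSpace.mp hK
      obtain ⟨v, -, hv⟩ := IsClosed.exists_closed_singleton isClosed_univ
        (show (Set.univ : Set ↥((Subtype.val ⁻¹' (X.basicOpen f : Set X) : Set {v : X // v ∈ V}) \
          ⋃ j ∈ T, (Subtype.val ⁻¹' (X.basicOpen j : Set X) : Set {v : X // v ∈ V}))).Nonempty from
          ⟨⟨hne.choose, hne.choose_spec⟩, trivial⟩)
      obtain ⟨C, hC, hCe⟩ := isClosed_induced_iff.mp hv
      obtain ⟨C', hC', hC'e⟩ := isClosed_induced_iff.mp (hC.inter hclosed)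
      refine ⟨v.1, v.2, X.basicOpen f, C', (X.basicOpen f).2, hC', ?_⟩
      ext w
      constructor
      · rintro rfl
        exact ⟨v.2.1, (Set.ext_iff.mp hC'e v.1).mpr ⟨(Set.ext_iff.mp hCe v).mpr rfl, v.2.2⟩⟩
      · rintro ⟨hwf, hwC⟩
        have h1 := (Set.ext_iff.mp hC'e ⟨w, X.basicOpen_le f hwf⟩).mp hwC
        exact congrArg (fun t => t.1.1) ((Set.ext_iff.mp hCe ⟨⟨w, X.basicOpen_le f hwf⟩, hwf, h1.2⟩).mp h1.1)
    | union s _ t _ h1 h2 =>
      intro hne
      rcases Set.union_nonempty.mp hne with h | h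
      · obtain ⟨v, hv, hl⟩ := h1 h; exact ⟨v, Or.inl hv, hl⟩
      · obtain ⟨v, hv, hl⟩ := h2 h; exact ⟨v, Or.inr hv, hl⟩
  obtain ⟨v, hv, hl⟩ := key _ hcV ⟨⟨e, heV⟩, he⟩
  exact ⟨v.1, hv, hl⟩

end Groth.RefRank
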