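/-
Sections of the sheaf Hom over an affine open are the linear maps between the sections; the sheaf Hom
of coherent modules is coherent.
-/
import Groth.Agent.QCohMod.Coherent
import Groth.Agent.CohTwo.Glue
import Groth.Prelude.Def_RefHull
import Mathlib.Algebra.Module.FinitePresentation

universe u

open CategoryTheory CategoryTheory.Limits AlgebraicGeometry TopologicalSpace Opposite

namespace Groth.RefRank

open Groth.QCohMod

variable {X : Scheme.{u}} {F G : X.Modules}

theorem mod_section_ext (M : X.Modules) {U : X.Opens} {s t : Γ(M, U)}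
    (h : ∀ (x : X) (hx : x ∈ U), germ M x hx s = germ M x hx t) : s = t :=
  TopCat.Presheaf.section_ext ⟨M.presheaf, M.isSheaf⟩ U s t h

theorem hom_ext_sec {U : X.Opens} {g g' : Γ(RefHull.homSh F G, U)}
    (h : ∀ x : U, g.1 x = g'.1 x) : g = g' :=
  Subtype.ext (funext h)

theorem res_val {U V : X.Opens} (h : V ≤ U) (g : Γ(RefHull.homSh F G, U)) (x : V) :
    (res (RefHull.homSh F G) h g).1 x = g.1 ⟨x.1, h x.2⟩ := rfl

theorem smul_val {U : X.Opens} (r : Γ(X, U)) (g : Γ(RefHull.homSh F G, U)) (x : U) :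
    (r • g).1 x = X.presheaf.germ U x.1 x.2 r • g.1 x := rfl

theorem exists_applySec {U : X.Opens} (g : Γ(RefHull.homSh F G, U)) {V : X.Opens} (h : V ≤ U)
    (m : Γ(F, V)) :
    ∃ n : Γ(G, V), ∀ (x : X) (hx : x ∈ V), germ G x hx n = g.1 ⟨x, h hx⟩ (germ F x hx m) := by
  choose W hxW j n hn using fun x : V => RefHull.isLocSect_of_mem g V (homOfLE h) m x
  obtain ⟨s, hs⟩ := CohTwo.exists_glue G W (fun x => (j x).le) (fun x hx => ⟨⟨x, hx⟩, hxW _⟩) n
    (fun x y => mod_section_ext G fun z hz => by
      erw [germ_res, germ_res]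
      exact ((hn x ⟨z, hz.1⟩).symm.trans (hn y ⟨z, hz.2⟩)))
  refine ⟨s, fun x hx => ?_⟩
  rw [← germ_res G (j ⟨x, hx⟩).le x (hxW ⟨x, hx⟩) s]
  erw [hs ⟨x, hx⟩]
  exact (hn ⟨x, hx⟩ ⟨x, hxW _⟩).symm

/-- The section obtained by applying a section of the sheaf Hom to a section. -/
noncomputable def applySec {U : X.Opens} (g : Γ(RefHull.homSh F G, U)) {V : X.Opens} (h : V ≤ U)
    (m : Γ(F, V)) : Γ(G, V) := (exists_applySec g h m).choose

theorem germ_applySec {U : X.Opens} (g : Γ(RefHull.homSh F G, U)) {V : X.Opens} (h : V ≤ U)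
    (m : Γ(F, V)) (x : X) (hx : x ∈ V) :
    germ G x hx (applySec g h m) = g.1 ⟨x, h hx⟩ (germ F x hx m) :=
  (exists_applySec g h m).choose_spec x hx

theorem res_applySec {U : X.Opens} (g : Γ(RefHull.homSh F G, U)) {V W : X.Opens} (h : V ≤ U)
    (h' : W ≤ V) (m : Γ(F, V)) :
    res G h' (applySec g h m) = applySec g (h'.trans h) (res F h' m) :=
  mod_section_ext G fun x hx => by rw [germ_res, germ_applySec, germ_applySec, germ_res]

/-- A section of the sheaf Hom over `U` as a linear map between the sections over `U`. -/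
noncomputable def secToLin {U : X.Opens} (g : Γ(RefHull.homSh F G, U)) :
    Γ(F, U) →ₗ[Γ(X, U)] Γ(G, U) where
  toFun m := applySec g le_rfl m
  map_add' m m' := mod_section_ext G fun x hx => by
    simp only [map_add, germ_applySec]
  map_smul' r m := mod_section_ext G fun x hx => by
    rw [RingHom.id_apply, germ_smul, germ_applySec, germ_applySec, germ_smul]
    exact map_smul (g.1 ⟨x, hx⟩) _ _

theorem germ_secToLin {U : X.Opens} (g : Γ(RefHull.homSh F G, U)) (m : Γ(F, U)) (x : X) (hx : x ∈ U) :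
    germ G x hx (secToLin g m) = g.1 ⟨x, hx⟩ (germ F x hx m) :=
  germ_applySec g le_rfl m x hx

theorem secToLin_res {U V : X.Opens} (h : V ≤ U) (g : Γ(RefHull.homSh F G, U)) (m : Γ(F, U)) :
    secToLin (res (RefHull.homSh F G) h g) (res F h m) = res G h (secToLin g m) :=
  mod_section_ext G fun x hx => by
    rw [germ_secToLin, germ_res, germ_res, germ_secToLin]
    rfl

/-- The stalk maps of a section of the sheaf Hom are determined by the germs of sections over an
affine neighbourhood. -/
theorem stalkHom_ext [F.IsQuasicoherent] {U : X.Opens} (hU : IsAffineOpen U) {x : X} (hx : x ∈ U)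
    {f f' : RefHull.StalkHom F G x} (h : ∀ m : Γ(F, U), f (germ F x hx m) = f' (germ F x hx m)) :
    f = f' := by
  refine LinearMap.ext fun t => ?_
  obtain ⟨a, m, ha, hm⟩ := exists_smul_germ_eq F hU x hx t
  have hu : IsUnit (X.presheaf.germ U x hx a) := (Scheme.mem_basicOpen X a x hx).mp ha
  refine hu.smul_left_cancel.mp ?_
  rw [← map_smul, ← map_smul, hm, h]

theorem secToLin_injective [F.IsQuasicoherent] {U : X.Opens} (hU : IsAffineOpen U) :
    Function.Injective (secToLin : Γ(RefHull.homSh F G, U) → (Γ(F, U) →ₗ[Γ(X, U)] Γ(G, U))) :=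
  fun g g' h => hom_ext_sec fun ⟨x, hx⟩ => stalkHom_ext hU hx fun m => by
    rw [← germ_secToLin g m x hx, ← germ_secToLin g' m x hx, h]

theorem exists_mul_germ_eq {U : X.Opens} (hU : IsAffineOpen U) {x : X} (hx : x ∈ U)
    (r : X.presheaf.stalk x) : ∃ r₁ c : Γ(X, U), x ∈ X.basicOpen c ∧
      X.presheaf.germ U x hx c * r = X.presheaf.germ U x hx r₁ := by
  let _ := TopCat.Presheaf.algebra_section_stalk X.presheaf ⟨x, hx⟩
  have := hU.isLocalization_stalk ⟨x, hx⟩
  obtain ⟨r₁, ⟨c, hc⟩, rfl⟩ := IsLocalization.exists_mk'_eq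
    (hU.primeIdealOf ⟨x, hx⟩).asIdeal.primeCompl r
  exact ⟨r₁, c, (mem_basicOpen_iff_notMem_primeIdealOf hU c x hx).mpr hc,
    IsLocalization.mk'_spec' (X.presheaf.stalk x) r₁ ⟨c, hc⟩⟩

theorem exists_stalkHom [F.IsQuasicoherent] {U : X.Opens} (hU : IsAffineOpen U) {x : X} (hx : x ∈ U)
    (φ : Γ(F, U) →ₗ[Γ(X, U)] Γ(G, U)) :
    ∃ f : RefHull.StalkHom F G x, ∀ m, f (germ F x hx m) = germ G x hx (φ m) := by
  have hunit : ∀ a : Γ(X, U), x ∈ X.basicOpen a → IsUnit (X.presheaf.germ U x hx a) :=
    fun a ha => (Scheme.mem_basicOpen X a x hx).mp ha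
  have wd : ∀ (a b : Γ(X, U)) (m n : Γ(F, U)), x ∈ X.basicOpen a → x ∈ X.basicOpen b →
      X.presheaf.germ U x hx b • germ F x hx m = X.presheaf.germ U x hx a • germ F x hx n →
      X.presheaf.germ U x hx b • germ G x hx (φ m) = X.presheaf.germ U x hx a • germ G x hx (φ n) := by
    intro a b m n _ _ e
    rw [← germ_smul, ← germ_smul, ← sub_eq_zero, ← map_sub] at e
    obtain ⟨c, hc, hc0⟩ := exists_smul_eq_zero_of_germ_eq_zero F hU x hx _ e
    refine (hunit c hc).smul_left_cancel.mp ?_
    rw [← germ_smul, ← germ_smul, ← germ_smul, ← germ_smul]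
    refine congrArg (germ G x hx) ?_
    rw [← map_smul, ← map_smul, ← map_smul, ← map_smul]
    rw [smul_sub, sub_eq_zero] at hc0
    rw [hc0]
  choose a m ha hm using exists_smul_germ_eq F hU x hx
  let f0 : F.presheaf.stalk x → G.presheaf.stalk x := fun t =>
    (↑(hunit _ (ha t)).unit⁻¹ : X.presheaf.stalk x) • germ G x hx (φ (m t))
  have key : ∀ (b : Γ(X, U)) (n : Γ(F, U)) (t : F.presheaf.stalk x), x ∈ X.basicOpen b →
      X.presheaf.germ U x hx b • t = germ F x hx n →
      X.presheaf.germ U x hx b • f0 t = germ G x hx (φ n) := by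
    intro b n t hb e
    refine (hunit _ (ha t)).smul_left_cancel.mp ?_
    rw [smul_comm]
    simp only [f0, smul_smul, IsUnit.mul_val_inv, mul_one]
    refine wd _ _ _ _ (ha t) hb ?_
    rw [← hm, ← e, smul_comm]
  clear_value f0
  refine ⟨{ toFun := f0, map_add' := fun s t => ?_, map_smul' := fun r t => ?_ }, fun n => ?_⟩
  · have hb : x ∈ X.basicOpen (a s * a t) := by
      rw [Scheme.basicOpen_mul]; exact ⟨ha s, ha t⟩
    refine (hunit _ hb).smul_left_cancel.mp ?_
    rw [key _ (a t • m s + a s • m t) (s + t) hb ?_, smul_add, key _ (a t • m s) s hb ?_,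
      key _ (a s • m t) t hb ?_, ← map_add, ← map_add]
    · rw [map_mul, germ_smul, mul_smul, ← hm, smul_comm]
    · rw [map_mul, germ_smul, mul_comm, mul_smul, ← hm, smul_comm]
    · rw [map_mul, smul_add, map_add, germ_smul, germ_smul, ← hm, ← hm, smul_smul, smul_smul,
        mul_comm (X.presheaf.germ U x hx (a s))]
  · obtain ⟨r₁, c, hc, hcr⟩ := exists_mul_germ_eq hU hx r
    have hb : x ∈ X.basicOpen (c * a t) := by
      rw [Scheme.basicOpen_mul]; exact ⟨hc, ha t⟩
    refine (hunit _ hb).smul_left_cancel.mp ?_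
    have e1 : X.presheaf.germ U x hx (c * a t) • (r • t) = germ F x hx (r₁ • m t) := by
      rw [germ_smul, ← hcr, ← hm, map_mul, smul_smul, smul_smul]
      congr 1; ring
    have e2 := key _ _ t (ha t) (hm t)
    refine (key _ _ (r • t) hb e1).trans ?_
    rw [RingHom.id_apply, map_smul φ, germ_smul, ← hcr, ← e2, map_mul, smul_smul, smul_smul]
    congr 1; ring
  · change f0 (germ F x hx n) = _
    have := key 1 n (germ F x hx n) (by rw [Scheme.basicOpen_of_isUnit _ isUnit_one]; exact hx)
      (by rw [map_one, one_smul])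
    rwa [map_one, one_smul] at this

/-- Every linear map between the sections over an affine open comes from a section of the sheaf
Hom. -/
theorem secToLin_surjective [F.IsQuasicoherent] {U : X.Opens} (hU : IsAffineOpen U) :
    Function.Surjective (secToLin : Γ(RefHull.homSh F G, U) → (Γ(F, U) →ₗ[Γ(X, U)] Γ(G, U))) := by
  intro φ
  choose f hf using fun x : U => exists_stalkHom hU x.2 φ
  have hloc : RefHull.IsLocSect F G f := by
    intro V i m x
    have hxU : x.1 ∈ U := i.le x.2
    obtain ⟨a, hxa, haV⟩ := exists_basicOpen_mem hU hxU x.2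
    obtain ⟨k, t, ht⟩ := exists_pow_smul_eq_res F hU a (res F haV m)
    have hau : IsUnit (resFun X (X.basicOpen_le a) a ^ k) :=
      (RingedSpace.isUnit_res_basicOpen _ a).pow k
    refine ⟨X.basicOpen a, hxa, homOfLE haV,
      (↑hau.unit⁻¹ : Γ(X, X.basicOpen a)) • res G (X.basicOpen_le a) (φ t), fun y => ?_⟩
    change f ⟨y.1, X.basicOpen_le a y.2⟩ (germ F y.1 (haV y.2) m) =
      germ G y.1 y.2 ((↑hau.unit⁻¹ : Γ(X, X.basicOpen a)) • res G (X.basicOpen_le a) (φ t))
    refine ((hau.map (X.presheaf.germ (X.basicOpen a) y.1 y.2).hom)).smul_left_cancel.mp ?_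
    rw [← map_smul]
    rw [← germ_res F haV y.1 y.2 m]
    rw [← germ_smul, ← germ_smul, ← ht, germ_res, smul_smul, IsUnit.mul_val_inv, one_smul, germ_res]
    exact hf ⟨y.1, X.basicOpen_le a y.2⟩ t
  refine ⟨⟨f, hloc⟩, LinearMap.ext fun m => mod_section_ext G fun x hx => ?_⟩
  exact (germ_secToLin (G := G) ⟨f, hloc⟩ m x hx).trans (hf ⟨x, hx⟩ m)

theorem secToLin_add {U : X.Opens} (g g' : Γ(RefHull.homSh F G, U)) :
    secToLin (g + g') = secToLin g + secToLin g' :=
  LinearMap.ext fun m => mod_section_ext G fun x hx => by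
    rw [LinearMap.add_apply, map_add, germ_secToLin, germ_secToLin, germ_secToLin]
    rfl

theorem secToLin_smul {U : X.Opens} (r : Γ(X, U)) (g : Γ(RefHull.homSh F G, U)) :
    secToLin (r • g) = r • secToLin g :=
  LinearMap.ext fun m => mod_section_ext G fun x hx => by
    rw [LinearMap.smul_apply, germ_smul, germ_secToLin, germ_secToLin, smul_val]
    rfl

/-- Sections of the sheaf Hom over an affine open are the linear maps between the sections. -/
noncomputable def secLinEquiv [F.IsQuasicoherent] {U : X.Opens} (hU : IsAffineOpen U) :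
    Γ(RefHull.homSh F G, U) ≃ₗ[Γ(X, U)] (Γ(F, U) →ₗ[Γ(X, U)] Γ(G, U)) :=
  LinearEquiv.ofBijective { toFun := secToLin, map_add' := secToLin_add, map_smul' := secToLin_smul }
    ⟨secToLin_injective hU, secToLin_surjective hU⟩

/-- The sheaf Hom of coherent modules on a locally Noetherian scheme is quasi-coherent. -/
theorem isQuasicoherent_homSh [IsLocallyNoetherian X] (hF : Coh.IsCoh F) [G.IsQuasicoherent] :
    (RefHull.homSh F G).IsQuasicoherent := by
  have := hF.1
  refine isQCoh_of_forall_affine _ (fun U hU a s => ?_) (fun U hU a t ht => ?_)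
  · have : IsNoetherianRing Γ(X, U) := IsLocallyNoetherian.component_noetherian ⟨U, hU⟩
    have : Module.Finite Γ(X, U) Γ(F, U) := finite_sections F hF.2 hU
    have : Module.FinitePresentation Γ(X, U) Γ(F, U) := Module.finitePresentation_of_finite _ _
    let le := X.basicOpen_le a
    let _ : Module Γ(X, U) Γ(G, X.basicOpen a) := Module.compHom _ (resFun X le)
    let rG : Γ(G, U) →ₗ[Γ(X, U)] Γ(G, X.basicOpen a) :=
      { toFun := res G le, map_add' := map_add _, map_smul' := fun r m => res_smul G le r m }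
    have hloc : IsLocalizedModule (Submonoid.powers a) rG := by
      refine ⟨fun ⟨_, k, hk⟩ => ?_, fun y => ?_, fun {m₁ m₂} h => ?_⟩
      · rw [Module.End.isUnit_iff]
        subst hk
        have hu : IsUnit (resFun X le (a ^ k)) := by
          rw [map_pow]; exact (RingedSpace.isUnit_res_basicOpen _ a).pow k
        exact hu.smul_bijective
      · obtain ⟨k, m, hm⟩ := exists_pow_smul_eq_res G hU a y
        refine ⟨⟨m, ⟨a ^ k, k, rfl⟩⟩, ?_⟩
        change resFun X le (a ^ k) • y = res G le m
        rw [hm, map_pow]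
      · obtain ⟨k, hk⟩ := exists_pow_smul_eq_zero G hU a (m₁ - m₂)
          (by rw [map_sub]; exact sub_eq_zero.mpr h)
        exact ⟨⟨a ^ k, k, rfl⟩, sub_eq_zero.mp ((smul_sub _ _ _).symm.trans hk)⟩
    let ψ : Γ(F, U) →ₗ[Γ(X, U)] Γ(G, X.basicOpen a) :=
      { toFun := fun m => secToLin s (res F le m)
        map_add' := fun m m' => by rw [map_add, map_add]
        map_smul' := fun r m => by
          rw [res_smul, map_smul]; rfl }
    obtain ⟨h, ⟨_, k, rfl⟩, hh⟩ :=
      Module.FinitePresentation.exists_lift_of_isLocalizedModule (Submonoid.powers a) rG ψ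
    obtain ⟨t, ht⟩ := secToLin_surjective hU h
    refine ⟨k, t, hom_ext_sec fun ⟨y, hy⟩ => stalkHom_ext hU (le hy) fun m => ?_⟩
    have e := congrArg (germ G y hy) (LinearMap.congr_fun hh m)
    change germ G y hy (res G le (h m)) =
      germ G y hy (resFun X le (a ^ k) • secToLin s (res F le m)) at e
    rw [germ_res, ← ht, germ_secToLin, germ_smul, germ_secToLin, germ_res, map_pow] at e
    rw [smul_val]
    exact e
  · have : Module.Finite Γ(X, U) Γ(F, U) := finite_sections F hF.2 hU
    obtain ⟨T, hT⟩ := (inferInstance : Module.Finite Γ(X, U) Γ(F, U)).fg_top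
    have hk : ∀ m ∈ T, ∃ k : ℕ, a ^ k • secToLin t m = 0 := fun m _ => by
      refine exists_pow_smul_eq_zero G hU a _ ?_
      rw [← secToLin_res, ht]
      exact mod_section_ext G fun x hx => by rw [germ_secToLin, map_zero]; rfl
    choose! k hk using hk
    refine ⟨T.sup k, secToLin_injective hU ?_⟩
    rw [secToLin_smul, show secToLin (0 : Γ(RefHull.homSh F G, U)) = 0 from (secLinEquiv hU).map_zero]
    refine LinearMap.ext_on hT fun m hm => ?_
    have : a ^ T.sup k = a ^ (T.sup k - k m) * a ^ k m := by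
      rw [← pow_add, Nat.sub_add_cancel (Finset.le_sup hm)]
    rw [LinearMap.smul_apply, this, mul_smul, hk m hm, smul_zero]
    rfl

/-- The sheaf Hom of coherent modules on a locally Noetherian scheme is coherent. -/
theorem isCoh_homSh [IsLocallyNoetherian X] (hF : Coh.IsCoh F) (hG : Coh.IsCoh G) :
    Coh.IsCoh (RefHull.homSh F G) := by
  have := hF.1
  have := hG.1
  refine (isCoh_iff _).mpr ⟨isQuasicoherent_homSh hF, fun U hU => ?_⟩
  have : IsNoetherianRing Γ(X, U) := IsLocallyNoetherian.component_noetherian ⟨U, hU⟩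
  have : Module.Finite Γ(X, U) Γ(F, U) := finite_sections F hF.2 hU
  have : Module.Finite Γ(X, U) Γ(G, U) := finite_sections G hG.2 hU
  exact Module.Finite.equiv (secLinEquiv hU).symm

end Groth.RefRank
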