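/-
The locus where a morphism of coherent modules is bijective on stalks is open.
-/
import Groth.Agent.CohTwo.SupportLocal
import Groth.Prelude.Def_RefPow

universe u

open CategoryTheory CategoryTheory.Limits AlgebraicGeometry TopologicalSpace Opposite

namespace Groth.RefRank

variable {X : Scheme.{u}}

theorem stalkMapₗ_bijective_iff {M N : X.Modules} (φ : M ⟶ N) (x : X) :
    Function.Bijective (RefHull.stalkMapₗ φ x) ↔ Function.Bijective ((QCohMod.stalk x).map φ) :=
  Iff.rfl

/-- The points where a morphism of coherent modules is bijective on stalks form an open set. -/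
theorem isOpen_bijective_stalkMap [IsLocallyNoetherian X] {M N : X.Modules} (hM : Coh.IsCoh M)
    (hN : Coh.IsCoh N) (φ : M ⟶ N) :
    IsOpen {x : X | Function.Bijective (RefHull.stalkMapₗ φ x)} := by
  refine isOpen_iff_forall_mem_open.mpr fun x hx => ?_
  obtain ⟨U, hxU, hU⟩ := CohTwo.exists_injective_nhd hM hN φ x
    ((stalkMapₗ_bijective_iff φ x).mp hx).1
  obtain ⟨V, hxV, hV⟩ := CohTwo.exists_surjective_nhd hM hN φ x
    ((stalkMapₗ_bijective_iff φ x).mp hx).2
  refine ⟨(U ⊓ V : X.Opens), fun y hy => (stalkMapₗ_bijective_iff φ y).mpr ⟨?_, ?_⟩,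
    (U ⊓ V).2, ⟨hxU, hxV⟩⟩
  · exact (AddCommGrpCat.mono_iff_injective _).1 (hU y hy.1)
  · exact (AddCommGrpCat.epi_iff_surjective _).1 (hV y hy.2)

theorem isOpen_isoLocus [IsLocallyNoetherian X] {F : X.Modules} (hF : Coh.IsCoh F)
    (s : Coh.structureModule X ⟶ F) : IsOpen (RefPow.isoLocus s) :=
  isOpen_bijective_stalkMap QCohMod.isCoh_unit hF s

end Groth.RefRank
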