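/-
Stalks of the sheaf Hom of coherent modules; reflexivity is a stalkwise condition.
-/
import Groth.Agent.RefRank.HomSec
import Groth.Agent.RefRank.IsoLocus
import Groth.Agent.RefRank.ClosedPoints
import Groth.Agent.Divisors.AssocNzd
import Groth.Agent.QCohMod.SupportPullback
import Groth.Agent.S6875
import Groth.Prelude.Def_TorSh

universe u

open CategoryTheory CategoryTheory.Limits AlgebraicGeometry TopologicalSpace Opposite

namespace Groth.RefRank

open Groth.QCohMod

variable {X : Scheme.{u}}

theorem evalStalk_smul_germ {F G : X.Modules} {U : X.Opens} {x : X} (hx : x ∈ U) {a : Γ(X, U)}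
    {g : Γ(RefHull.homSh F G, U)} {θ : (RefHull.homSh F G).presheaf.stalk x}
    (hθ : X.presheaf.germ U x hx a • θ = germ (RefHull.homSh F G) x hx g) :
    X.presheaf.germ U x hx a • RefHull.evalStalk F G x θ = g.1 ⟨x, hx⟩ := by
  rw [← map_smul, hθ]
  exact RefHull.evalStalk_germ F G x hx g

/-- Evaluation at a point identifies the stalk of the sheaf Hom of coherent modules on a locally
Noetherian scheme with the linear maps between the stalks. -/
theorem evalStalk_bijective [IsLocallyNoetherian X] {F G : X.Modules} (hF : Coh.IsCoh F)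
    [G.IsQuasicoherent] (x : X) : Function.Bijective (RefHull.evalStalk F G x) := by
  classical
  have := hF.1
  have hH : (RefHull.homSh F G).IsQuasicoherent := isQuasicoherent_homSh hF
  obtain ⟨U, hU, hx⟩ := exists_affine_mem x
  have : IsNoetherianRing Γ(X, U) := IsLocallyNoetherian.component_noetherian ⟨U, hU⟩
  have : Module.Finite Γ(X, U) Γ(F, U) := finite_sections F hF.2 hU
  have hunit : ∀ a : Γ(X, U), x ∈ X.basicOpen a → IsUnit (X.presheaf.germ U x hx a) :=
    fun a ha => (Scheme.mem_basicOpen X a x hx).mp ha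
  constructor
  · refine (injective_iff_map_eq_zero _).mpr fun θ hθ => ?_
    obtain ⟨a, g, ha, hg⟩ := exists_smul_germ_eq (RefHull.homSh F G) hU x hx θ
    have h0 : g.1 ⟨x, hx⟩ = 0 := by
      rw [← evalStalk_smul_germ hx hg, hθ, smul_zero]
    obtain ⟨T, hT⟩ := (inferInstance : Module.Finite Γ(X, U) Γ(F, U)).fg_top
    have hs : ∀ m : Γ(F, U), ∃ s : Γ(X, U), x ∈ X.basicOpen s ∧ s • secToLin g m = 0 := fun m => by
      refine exists_smul_eq_zero_of_germ_eq_zero G hU x hx _ ?_
      rw [germ_secToLin, h0]
      rfl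
    choose s hs hs0 using hs
    have hp : IsUnit (X.presheaf.germ U x hx (∏ m ∈ T, s m)) := by
      rw [map_prod]; exact IsUnit.prod_iff.mpr fun m _ => hunit _ (hs m)
    have hg0 : (∏ m ∈ T, s m) • g = 0 := by
      refine secToLin_injective hU ?_
      rw [secToLin_smul, show secToLin (0 : Γ(RefHull.homSh F G, U)) = 0 from (secLinEquiv hU).map_zero]
      refine LinearMap.ext_on hT fun m hm => ?_
      rw [LinearMap.smul_apply, ← Finset.prod_erase_mul T s hm, mul_smul, hs0, smul_zero]
      rfl
    refine (hunit a ha).smul_eq_zero.mp (hp.smul_eq_zero.mp ?_)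
    rw [hg, ← germ_smul, hg0, map_zero]
  · intro φ
    let _ := stalkModule F x hx
    let _ := stalkModule G x hx
    have := isLocalizedModule_germ G hU x hx
    have : Module.FinitePresentation Γ(X, U) Γ(F, U) := Module.finitePresentation_of_finite _ _
    obtain ⟨h, ⟨s, hs⟩, hh⟩ := Module.FinitePresentation.exists_lift_of_isLocalizedModule
      (hU.primeIdealOf ⟨x, hx⟩).asIdeal.primeCompl (germₗ G x hx)
      ({ toFun := fun m => φ (germ F x hx m)
         map_add' := fun m m' => by rw [map_add, map_add]
         map_smul' := fun r m => by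
          rw [RingHom.id_apply, germ_smul, map_smul]
          rfl } : Γ(F, U) →ₗ[Γ(X, U)] G.presheaf.stalk x)
    obtain ⟨g, hg⟩ := secToLin_surjective hU h
    have hsu := hunit s ((mem_basicOpen_iff_notMem_primeIdealOf hU s x hx).mpr hs)
    refine ⟨(↑hsu.unit⁻¹ : X.presheaf.stalk x) • germ (RefHull.homSh F G) x hx g, ?_⟩
    rw [map_smul, show RefHull.evalStalk F G x (germ (RefHull.homSh F G) x hx g) = g.1 ⟨x, hx⟩ from
      RefHull.evalStalk_germ F G x hx g]
    refine stalkHom_ext hU hx fun m => ?_
    have e : germ G x hx (h m) = X.presheaf.germ U x hx s • φ (germ F x hx m) :=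
      LinearMap.congr_fun hh m
    rw [LinearMap.smul_apply, ← germ_secToLin, hg, e, smul_smul, IsUnit.val_inv_mul, one_smul]

/-- The stalk of the sheaf Hom of coherent modules as linear maps between the stalks. -/
noncomputable def homStalkEquiv [IsLocallyNoetherian X] {F G : X.Modules} (hF : Coh.IsCoh F)
    [G.IsQuasicoherent] (x : X) :
    (RefHull.homSh F G).presheaf.stalk x ≃ₗ[X.presheaf.stalk x] RefHull.StalkHom F G x :=
  LinearEquiv.ofBijective (RefHull.evalStalk F G x) (evalStalk_bijective hF x)

theorem homStalkEquiv_apply [IsLocallyNoetherian X] {F G : X.Modules} (hF : Coh.IsCoh F)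
    [G.IsQuasicoherent] (x : X) (θ : (RefHull.homSh F G).presheaf.stalk x) :
    homStalkEquiv hF x θ = RefHull.evalStalk F G x θ := rfl

section Structure

/-- The germ of the section `1` of the structure module. -/
noncomputable def oneGerm (x : X) : (Coh.structureModule X).presheaf.stalk x :=
  germ (Coh.structureModule X) (U := ⊤) x trivial
    (show Γ(Coh.structureModule X, (⊤ : X.Opens)) from (1 : Γ(X, ⊤)))

theorem smul_oneGerm {U : X.Opens} (x : X) (hx : x ∈ U) (t : Γ(X, U)) :
    X.presheaf.germ U x hx t • oneGerm x =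
      germ (Coh.structureModule X) x hx (show Γ(Coh.structureModule X, U) from t) := by
  rw [oneGerm, ← germ_res (Coh.structureModule X) (le_top : U ≤ ⊤) x hx, ← germ_smul]
  refine congrArg (germ (Coh.structureModule X) x hx) ?_
  have h : t * X.presheaf.map (homOfLE le_top).op (1 : Γ(X, ⊤)) = t := by rw [map_one, mul_one]
  exact h

/-- The stalk of the structure module is free on the germ of `1`. -/
noncomputable def oneEquiv (x : X) :
    X.presheaf.stalk x ≃ₗ[X.presheaf.stalk x] (Coh.structureModule X).presheaf.stalk x :=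
  LinearEquiv.ofBijective (LinearMap.toSpanSingleton _ _ (oneGerm x)) (by
    refine ⟨(injective_iff_map_eq_zero _).mpr fun a ha => ?_, fun z => ?_⟩
    · have h := (Divisors.smul_structure_germ_iff (V := ⊤) (x := x) trivial (1 : Γ(X, ⊤)) a).mp ha
      rwa [map_one, mul_one] at h
    · obtain ⟨V, hxV, t, rfl⟩ := exists_germ (Coh.structureModule X) x z
      exact ⟨X.presheaf.germ V x hxV (show Γ(X, V) from t), smul_oneGerm x hxV _⟩)

theorem oneEquiv_apply (x : X) (a : X.presheaf.stalk x) : oneEquiv x a = a • oneGerm x := rfl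

end Structure

instance (X : Scheme.{u}) : (Coh.structureModule X).IsQuasicoherent :=
  Divisors.isQCoh_structureModule X

section Dual

variable [IsLocallyNoetherian X] {F : X.Modules}

/-- The stalk of the dual of a coherent module is the dual of the stalk. -/
noncomputable def dualEquiv (hF : Coh.IsCoh F) (x : X) :
    (RefHull.dual F).presheaf.stalk x ≃ₗ[X.presheaf.stalk x]
      Module.Dual (X.presheaf.stalk x) (F.presheaf.stalk x) :=
  (homStalkEquiv hF x).trans ((oneEquiv x).symm.congrRight)

theorem oneEquiv_dualEquiv (hF : Coh.IsCoh F) (x : X) (θ : (RefHull.dual F).presheaf.stalk x)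
    (v : F.presheaf.stalk x) :
    oneEquiv x (dualEquiv hF x θ v) = RefHull.evalStalk F (Coh.structureModule X) x θ v :=
  (oneEquiv x).apply_symm_apply _

theorem isCoh_dual (hF : Coh.IsCoh F) : Coh.IsCoh (RefHull.dual F) := isCoh_homSh hF isCoh_unit

theorem isCoh_ddual (hF : Coh.IsCoh F) : Coh.IsCoh (RefHull.ddual F) := isCoh_dual (isCoh_dual hF)

omit [IsLocallyNoetherian X] in
theorem evalStalk_bidualMap (F : X.Modules) (x : X) (v : F.presheaf.stalk x) :
    RefHull.evalStalk (RefHull.dual F) (Coh.structureModule X) x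
      (RefHull.stalkMapₗ (RefHull.bidualMap F) x v) = RefHull.bidualAt F x v := by
  obtain ⟨U, hx, m, rfl⟩ := exists_germ F x v
  erw [RefHull.stalkMapₗ_germ, RefHull.evalStalk_germ]
  rfl

/-- The biduality map is bijective at a point iff the stalk there is a reflexive module. -/
theorem bijective_bidual_iff (hF : Coh.IsCoh F) (x : X) :
    Function.Bijective (RefHull.stalkMapₗ (RefHull.bidualMap F) x) ↔ RefHull.IsReflexiveAt F x := by
  let E := (homStalkEquiv (G := Coh.structureModule X) (isCoh_dual hF) x).trans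
    ((dualEquiv hF x).arrowCongr (oneEquiv x).symm)
  have e : ∀ v, E (RefHull.stalkMapₗ (RefHull.bidualMap F) x v) =
      Module.Dual.eval (X.presheaf.stalk x) (F.presheaf.stalk x) v := fun v => LinearMap.ext fun φ => by
    change (oneEquiv x).symm (homStalkEquiv (isCoh_dual hF) x _ ((dualEquiv hF x).symm φ)) = φ v
    rw [homStalkEquiv_apply, evalStalk_bidualMap, RefHull.bidualAt_apply, LinearEquiv.symm_apply_eq,
      ← oneEquiv_dualEquiv hF, LinearEquiv.apply_symm_apply]
  have hcomp : (Module.Dual.eval (X.presheaf.stalk x) (F.presheaf.stalk x) : _ → _) =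
      E ∘ RefHull.stalkMapₗ (RefHull.bidualMap F) x := funext fun v => (e v).symm
  constructor
  · intro h
    exact ⟨hcomp ▸ E.bijective.comp h⟩
  · intro h
    have := h.1
    rw [hcomp] at this
    exact (Function.Bijective.of_comp_iff' E.bijective _).mp this

omit [IsLocallyNoetherian X] in
theorem isIso_iff_bijective_stalk {M N : X.Modules} (φ : M ⟶ N) :
    IsIso φ ↔ ∀ x, Function.Bijective (RefHull.stalkMapₗ φ x) := by
  refine ⟨fun h x => ?_, fun h => isIso_of_stalk φ fun x => ?_⟩
  · exact (stalkMapₗ_bijective_iff φ x).mpr ((ConcreteCategory.isIso_iff_bijective _).mp inferInstance)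
  · exact (ConcreteCategory.isIso_iff_bijective _).mpr ((stalkMapₗ_bijective_iff φ x).mp (h x))

theorem isReflexive_iff_forall (hF : Coh.IsCoh F) :
    RefHull.IsReflexive F ↔ ∀ x, RefHull.IsReflexiveAt F x :=
  (isIso_iff_bijective_stalk _).trans (forall_congr' fun x => bijective_bidual_iff hF x)

theorem isReflexive_iff_forall_closed (hF : Coh.IsCoh F) :
    RefHull.IsReflexive F ↔ ∀ x : X, IsClosed ({x} : Set X) → RefHull.IsReflexiveAt F x := by
  refine ⟨fun h x _ => (isReflexive_iff_forall hF).mp h x, fun h => (isIso_iff_bijective_stalk _).mpr fun x => ?_⟩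
  by_contra hx
  obtain ⟨y, hy, hyc⟩ := exists_isClosed_singleton
    (isOpen_bijective_stalkMap hF (isCoh_ddual hF) (RefHull.bidualMap F)).isClosed_compl ⟨x, hx⟩
  exact hy ((bijective_bidual_iff hF y).mpr (h y hyc))

end Dual

theorem finite_stalkModule [IsLocallyNoetherian X] {G : X.Modules} (hG : Coh.IsCoh G) (x : X) :
    Module.Finite (X.presheaf.stalk x) (G.presheaf.stalk x) :=
  have := hG.1
  QCohMod.finite_stalk G hG.2 x

/-- The sheaf Hom into a reflexive coherent module is reflexive on an integral scheme. -/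
theorem isReflexive_homSh [IsIntegral X] [IsLocallyNoetherian X] {F G : X.Modules}
    (hF : Coh.IsCoh F) (hG : Coh.IsCoh G) (hGr : RefHull.IsReflexive G) :
    RefHull.IsReflexive (RefHull.homSh F G) := by
  refine (isReflexive_iff_forall (isCoh_homSh hF hG)).mpr fun x => ?_
  have := hG.1
  have : IsNoetherianRing (X.presheaf.stalk x) := inferInstance
  have := finite_stalkModule hF x
  have := finite_stalkModule hG x
  have : Module.IsReflexive (X.presheaf.stalk x) (G.presheaf.stalk x) :=
    (isReflexive_iff_forall hG).mp hGr x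
  have := Groth.Agent.S6875.result (X.presheaf.stalk x) (F.presheaf.stalk x) (G.presheaf.stalk x)
  exact Module.equiv (homStalkEquiv hF x).symm

/-- Evaluation of the sheaf Hom at a point is injective when the source has finite type. -/
theorem evalStalk_injective_of_ft {F G : X.Modules} [F.IsQuasicoherent] (hF : CohB1.IsFT F)
    [G.IsQuasicoherent] (x : X) : Function.Injective (RefHull.evalStalk F G x) := by
  classical
  refine (injective_iff_map_eq_zero _).mpr fun θ hθ => ?_
  obtain ⟨V, hxV, g₀, rfl⟩ := exists_germ (RefHull.homSh F G) x θ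
  obtain ⟨⟨U, hU'⟩, hx, hle⟩ := Divisors.exists_affine_le x V hxV
  have hU : IsAffineOpen U := hU'
  rw [← germ_res (RefHull.homSh F G) hle x hx]
  obtain ⟨g, hgdef⟩ : ∃ g, res (RefHull.homSh F G) hle g₀ = g := ⟨_, rfl⟩
  rw [hgdef]
  rw [← germ_res (RefHull.homSh F G) hle x hx, hgdef] at hθ
  have h0 : g.1 ⟨x, hx⟩ = 0 := (RefHull.evalStalk_germ F G x hx g).symm.trans hθ
  have := finite_sections F hF hU
  obtain ⟨T, hT⟩ := (inferInstance : Module.Finite Γ(X, U) Γ(F, U)).fg_top
  have hs : ∀ m : Γ(F, U), ∃ s : Γ(X, U), x ∈ X.basicOpen s ∧ s • secToLin g m = 0 := fun m => by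
    refine exists_smul_eq_zero_of_germ_eq_zero G hU x hx _ ?_
    rw [germ_secToLin, h0]
    rfl
  choose s hs hs0 using hs
  have hp : IsUnit (X.presheaf.germ U x hx (∏ m ∈ T, s m)) := by
    rw [map_prod]
    exact IsUnit.prod_iff.mpr fun m _ => (Scheme.mem_basicOpen X (s m) x hx).mp (hs m)
  have hg0 : (∏ m ∈ T, s m) • g = 0 := by
    refine secToLin_injective hU ?_
    rw [secToLin_smul, show secToLin (0 : Γ(RefHull.homSh F G, U)) = 0 from (secLinEquiv hU).map_zero]
    refine LinearMap.ext_on hT fun m hm => ?_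
    rw [LinearMap.smul_apply, ← Finset.prod_erase_mul T s hm, mul_smul, hs0, smul_zero]
    rfl
  refine hp.smul_eq_zero.mp ?_
  rw [← germ_smul, hg0, map_zero]

theorem isTorsionFree_homSh {F G : X.Modules} [F.IsQuasicoherent] (hF : CohB1.IsFT F)
    [G.IsQuasicoherent] (hG : TorSh.IsTorsionFree G) : TorSh.IsTorsionFree (RefHull.homSh F G) := by
  intro x
  have := hG x
  refine ⟨fun r hr θ θ' h => evalStalk_injective_of_ft hF x ?_⟩
  have h' := congrArg (RefHull.evalStalk F G x) h
  dsimp only at h'
  rw [map_smul, map_smul] at h'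
  exact LinearMap.ext fun v => hr.isSMulRegular (LinearMap.congr_fun h' v)

end Groth.RefRank
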