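/-
Specialization maps between stalks of quasi-coherent modules, and the primes of a local ring as
generizations.
-/
import Groth.Agent.RefRank.Stalk
import Groth.Agent.Divisors.EffCartierDim
import Groth.Prelude.Def_Pi1
import Mathlib.AlgebraicGeometry.FunctionField
import Mathlib.RingTheory.DiscreteValuationRing.TFAE
import Mathlib.RingTheory.KrullDimension.LocalRing

universe u

open CategoryTheory CategoryTheory.Limits AlgebraicGeometry TopologicalSpace Opposite

namespace Groth.RefRank

open Groth.QCohMod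

variable {X : Scheme.{u}}

/-- The specialization map between the local rings. -/
noncomputable abbrev rspec {x y : X} (h : y ⤳ x) : X.presheaf.stalk x →+* X.presheaf.stalk y :=
  (X.presheaf.stalkSpecializes h).hom

/-- The specialization map between the stalks of a module. -/
noncomputable abbrev mspec (F : X.Modules) {x y : X} (h : y ⤳ x) :
    F.presheaf.stalk x →+ F.presheaf.stalk y :=
  (F.presheaf.stalkSpecializes h).hom

theorem rspec_germ {x y : X} (h : y ⤳ x) {U : X.Opens} (hx : x ∈ U) (t : Γ(X, U)) :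
    rspec h (X.presheaf.germ U x hx t) = X.presheaf.germ U y (h.mem_open U.2 hx) t :=
  TopCat.Presheaf.germ_stalkSpecializes_apply X.presheaf hx h t

theorem mspec_germ (F : X.Modules) {x y : X} (h : y ⤳ x) {U : X.Opens} (hx : x ∈ U) (m : Γ(F, U)) :
    mspec F h (germ F x hx m) = germ F y (h.mem_open U.2 hx) m :=
  TopCat.Presheaf.germ_stalkSpecializes_apply F.presheaf hx h m

theorem rspec_rspec {x y z : X} (h : y ⤳ x) (h' : z ⤳ y) (a : X.presheaf.stalk x) :
    rspec h' (rspec h a) = rspec (h'.trans h) a := by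
  obtain ⟨U, hx, t, rfl⟩ := TopCat.Presheaf.exists_germ_eq X.presheaf a
  rw [rspec_germ, rspec_germ, rspec_germ]

theorem mspec_mspec (F : X.Modules) {x y z : X} (h : y ⤳ x) (h' : z ⤳ y) (v : F.presheaf.stalk x) :
    mspec F h' (mspec F h v) = mspec F (h'.trans h) v := by
  obtain ⟨U, hx, m, rfl⟩ := exists_germ F x v
  rw [mspec_germ, mspec_germ, mspec_germ]

theorem mspec_smul (F : X.Modules) {x y : X} (h : y ⤳ x) (a : X.presheaf.stalk x)
    (v : F.presheaf.stalk x) : mspec F h (a • v) = rspec h a • mspec F h v := by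
  obtain ⟨V, hxV, r, rfl⟩ := TopCat.Presheaf.exists_germ_eq X.presheaf a
  obtain ⟨W, hxW, m, rfl⟩ := exists_germ F x v
  rw [← TopCat.Presheaf.germ_res_apply X.presheaf (homOfLE (inf_le_left : V ⊓ W ≤ V)) x ⟨hxV, hxW⟩ r,
    ← germ_res F (inf_le_right : V ⊓ W ≤ W) x ⟨hxV, hxW⟩ m, ← germ_smul, mspec_germ, mspec_germ,
    rspec_germ, germ_smul]

theorem stalkMapₗ_mspec {F G : X.Modules} (φ : F ⟶ G) {x y : X} (h : y ⤳ x) (v : F.presheaf.stalk x) :
    RefHull.stalkMapₗ φ y (mspec F h v) = mspec G h (RefHull.stalkMapₗ φ x v) := by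
  obtain ⟨U, hx, m, rfl⟩ := exists_germ F x v
  refine (congrArg (RefHull.stalkMapₗ φ y) (mspec_germ F h hx m)).trans ?_
  refine (RefHull.stalkMapₗ_germ φ y _ m).trans ?_
  exact (congrArg (mspec G h) (RefHull.stalkMapₗ_germ φ x hx m)).trans (mspec_germ G h hx _) |>.symm

/-- Every element of the stalk at a generization is a fraction of elements of the stalk. -/
theorem exists_smul_eq_mspec (F : X.Modules) [F.IsQuasicoherent] {x y : X} (h : y ⤳ x)
    (u : F.presheaf.stalk y) :
    ∃ (a : X.presheaf.stalk x) (v : F.presheaf.stalk x),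
      IsUnit (rspec h a) ∧ rspec h a • u = mspec F h v := by
  obtain ⟨U, hU, hx⟩ := exists_affine_mem x
  obtain ⟨a, m, ha, hm⟩ := exists_smul_germ_eq F hU y (h.mem_open U.2 hx) u
  refine ⟨X.presheaf.germ U x hx a, germ F x hx m, ?_, ?_⟩
  · rw [rspec_germ]; exact (Scheme.mem_basicOpen X a y _).mp ha
  · rw [rspec_germ, mspec_germ]; exact hm

/-- An element of the stalk vanishing at a generization is killed by a function invertible there. -/
theorem exists_smul_eq_zero_of_mspec (F : X.Modules) [F.IsQuasicoherent] {x y : X} (h : y ⤳ x)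
    {v : F.presheaf.stalk x} (hv : mspec F h v = 0) :
    ∃ a : X.presheaf.stalk x, IsUnit (rspec h a) ∧ a • v = 0 := by
  obtain ⟨U, hU, hx⟩ := exists_affine_mem x
  obtain ⟨c, m, hc, hm⟩ := exists_smul_germ_eq F hU x hx v
  have hc' : IsUnit (X.presheaf.germ U x hx c) := (Scheme.mem_basicOpen X c x hx).mp hc
  have h0 : germ F y (h.mem_open U.2 hx) m = 0 := by
    rw [← mspec_germ F h hx, ← hm, mspec_smul, hv, smul_zero]
  obtain ⟨a, ha, ham⟩ := exists_smul_eq_zero_of_germ_eq_zero F hU y (h.mem_open U.2 hx) m h0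
  refine ⟨X.presheaf.germ U x hx a * X.presheaf.germ U x hx c, ?_, ?_⟩
  · rw [map_mul, rspec_germ]
    exact ((Scheme.mem_basicOpen X a y _).mp ha).mul (hc'.map _)
  · rw [mul_smul, hm, ← germ_smul, ham, map_zero]

/-- A prime of the local ring at `x` is the prime of a generization of `x`. -/
theorem exists_generization_of_prime {x : X} (q : Ideal (X.presheaf.stalk x)) [q.IsPrime] :
    ∃ (y : X) (h : y ⤳ x), (∀ r, IsUnit (rspec h r) ↔ r ∉ q) ∧
      ringKrullDim (X.presheaf.stalk y) = (q.height : WithBot ℕ∞) := by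
  obtain ⟨U, hU, hx⟩ := exists_affine_mem x
  let _ := TopCat.Presheaf.algebra_section_stalk X.presheaf ⟨x, hx⟩
  have := hU.isLocalization_stalk ⟨x, hx⟩
  let p : PrimeSpectrum Γ(X, U) :=
    ⟨q.comap (algebraMap Γ(X, U) (X.presheaf.stalk x)), Ideal.IsPrime.comap _⟩
  have hyU : hU.fromSpec p ∈ U := hU.opensRange_fromSpec.le ⟨p, rfl⟩
  have hpy : hU.primeIdealOf ⟨hU.fromSpec p, hyU⟩ = p := by
    apply hU.fromSpec.isOpenEmbedding.injective
    exact hU.fromSpec_primeIdealOf ⟨_, hyU⟩
  have hle : p.asIdeal ≤ (hU.primeIdealOf ⟨x, hx⟩).asIdeal := fun a ha => by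
    by_contra hax
    exact ‹q.IsPrime›.ne_top (Ideal.eq_top_of_isUnit_mem _ ha (IsLocalization.map_units _
      (⟨a, hax⟩ : (hU.primeIdealOf ⟨x, hx⟩).asIdeal.primeCompl)))
  have hyx : hU.fromSpec p ⤳ x := by
    have h2 := ((PrimeSpectrum.le_iff_specializes p _).mp hle).map hU.fromSpec.continuous
    rwa [hU.fromSpec_primeIdealOf] at h2
  have hunit : ∀ a : Γ(X, U), IsUnit (X.presheaf.germ U (hU.fromSpec p) hyU a) ↔
      algebraMap Γ(X, U) (X.presheaf.stalk x) a ∉ q := fun a => by
    rw [← Scheme.mem_basicOpen X a _ hyU, mem_basicOpen_iff_notMem_primeIdealOf hU a _ hyU, hpy]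
    rfl
  refine ⟨hU.fromSpec p, hyx, fun r => ?_, ?_⟩
  · obtain ⟨r₁, c, hc, hcr⟩ := exists_mul_germ_eq hU hx r
    have hcu : IsUnit (X.presheaf.germ U x hx c) := (Scheme.mem_basicOpen X c x hx).mp hc
    have e := congrArg (rspec hyx) hcr
    rw [map_mul, rspec_germ, rspec_germ] at e
    have hc' : IsUnit (X.presheaf.germ U (hU.fromSpec p) (hyx.mem_open U.2 hx) c) := by
      rw [← rspec_germ hyx hx]; exact hcu.map _
    constructor
    · intro h hr
      refine (hunit r₁).mp (e ▸ hc'.mul h) ?_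
      change X.presheaf.germ U x hx r₁ ∈ q
      rw [← hcr]
      exact q.mul_mem_left _ hr
    · intro hr
      refine isUnit_of_mul_isUnit_right (x := X.presheaf.germ U _ (hyx.mem_open U.2 hx) c) ?_
      rw [e]
      refine (hunit r₁).mpr fun h => hr ?_
      have h' : X.presheaf.germ U x hx r₁ ∈ q := h
      rw [← hcr] at h'
      exact (‹q.IsPrime›.mem_or_mem h').resolve_left fun h'' =>
        ‹q.IsPrime›.ne_top (Ideal.eq_top_of_isUnit_mem _ h'' hcu)
  · rw [Divisors.ringKrullDim_stalk_eq_height hU hyU, hpy]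
    exact_mod_cast IsLocalization.height_under (hU.primeIdealOf ⟨x, hx⟩).asIdeal.primeCompl q

section Integral

variable [IsIntegral X]

theorem genSpec (x : X) : genericPoint ↥X ⤳ x := (genericPoint_spec ↥X).specializes (Set.mem_univ x)

theorem rspec_gen_injective (x : X) : Function.Injective (rspec (genSpec x)) := by
  refine (injective_iff_map_eq_zero _).mpr fun a ha => ?_
  obtain ⟨U, hx, t, rfl⟩ := TopCat.Presheaf.exists_germ_eq X.presheaf a
  rw [rspec_germ] at ha
  have : t = 0 := germ_injective_of_isIntegral X _ _ (ha.trans (map_zero _).symm)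
  rw [this, map_zero]

theorem rspec_injective {x y : X} (h : y ⤳ x) : Function.Injective (rspec h) := by
  intro a b hab
  refine rspec_gen_injective x ?_
  have := congrArg (rspec (genSpec y)) hab
  rwa [rspec_rspec, rspec_rspec] at this

theorem isUnit_gen_iff {a : X.presheaf.stalk (genericPoint ↥X)} : IsUnit a ↔ a ≠ 0 := by
  let _ : Field (X.presheaf.stalk (genericPoint ↥X)) := inferInstanceAs (Field X.functionField)
  exact isUnit_iff_ne_zero

theorem isDiscreteValuationRing_stalk [IsLocallyNoetherian X] (hX : Pi1.IsNormalScheme X) {x : X}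
    (hx : ringKrullDim (X.presheaf.stalk x) = 1) : IsDiscreteValuationRing (X.presheaf.stalk x) := by
  have := (hX x).2
  have hnf : ¬ IsField (X.presheaf.stalk x) := fun h => by
    have := h.toField
    rw [ringKrullDim_eq_zero_of_isField h] at hx
    exact zero_ne_one hx
  have hK : Ring.KrullDimLE 1 (X.presheaf.stalk x) := Ring.krullDimLE_iff.mpr hx.le
  refine ((IsDiscreteValuationRing.TFAE _ hnf).out 3 0 rfl rfl).mp ⟨inferInstance,
    IsLocalRing.maximalIdeal _, ⟨fun h => hnf (IsLocalRing.isField_iff_maximalIdeal_eq.mpr h),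
      inferInstance⟩, fun p hp => ?_⟩
  exact IsLocalRing.eq_maximalIdeal (Ring.krullDimLE_one_iff_of_noZeroDivisors.mp hK p hp.1 hp.2)

end Integral

end Groth.RefRank
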