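/-
Reflexive coherent modules on normal schemes are determined in codimension one: elements of the
generic stalk and morphisms extend.
-/
import Groth.Agent.RefRank.Gen
import Groth.Agent.RefRank.Algebra

universe u

open CategoryTheory CategoryTheory.Limits AlgebraicGeometry TopologicalSpace Opposite

namespace Groth.RefRank

open Groth.QCohMod

/-- In a reflexive module over a normal Noetherian domain, divisibility by `a` is checked at the
height one primes. -/
theorem exists_smul_eq_of_isReflexive {A : Type*} [CommRing A] [IsDomain A] [IsNoetherianRing A]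
    [IsIntegrallyClosed A] {M : Type*} [AddCommGroup M] [Module A M] [Module.IsReflexive A M]
    {a : A} (ha : a ≠ 0) (v : M)
    (h : ∀ q : Ideal A, q.IsPrime → q.height = 1 → ∃ s ∉ q, ∃ v', s • v = a • v') :
    ∃ v₀, a • v₀ = v := by
  obtain ⟨ψ, hψ⟩ := exists_smul_eq_of_height_one (Module.Dual.eval A M v) ha fun q hq hq1 θ => by
    obtain ⟨s, hs, v', hv'⟩ := h q hq hq1
    refine ⟨s, hs, θ v', ?_⟩
    rw [Module.Dual.eval_apply, ← smul_eq_mul, ← map_smul, hv', map_smul, smul_eq_mul]
  obtain ⟨v₀, rfl⟩ := (Module.bijective_dual_eval A M).2 ψ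
  exact ⟨v₀, (Module.bijective_dual_eval A M).1 (by rw [map_smul]; exact hψ)⟩

variable {X : Scheme.{u}}

theorem applySec_add {F G : X.Modules} {U : X.Opens} (g : Γ(RefHull.homSh F G, U)) {V : X.Opens}
    (h : V ≤ U) (m m' : Γ(F, V)) : applySec g h (m + m') = applySec g h m + applySec g h m' :=
  mod_section_ext G fun x hx => by
    rw [map_add, germ_applySec, germ_applySec, germ_applySec, map_add, map_add]

theorem applySec_smul {F G : X.Modules} {U : X.Opens} (g : Γ(RefHull.homSh F G, U)) {V : X.Opens}
    (h : V ≤ U) (r : Γ(X, V)) (m : Γ(F, V)) : applySec g h (r • m) = r • applySec g h m :=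
  mod_section_ext G fun x hx => by
    rw [germ_smul, germ_applySec, germ_applySec, germ_smul, map_smul]

/-- The morphism defined by a global section of the sheaf Hom. -/
theorem exists_hom_of_sec {F G : X.Modules} (g : Γ(RefHull.homSh F G, ⊤)) :
    ∃ φ : F ⟶ G, ∀ x : X, RefHull.stalkMapₗ φ x = g.1 ⟨x, trivial⟩ := by
  refine ⟨⟨PresheafOfModules.homMk
    { app := fun U => AddCommGrpCat.ofHom
        (AddMonoidHom.mk' (fun m => applySec g (le_top : U.unop ≤ ⊤) m) (applySec_add g le_top))
      naturality := fun {U V} i => by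
        ext m
        exact (res_applySec g le_top i.unop.le m).symm }
    (fun U r m => applySec_smul g le_top r m)⟩, fun x => LinearMap.ext fun v => ?_⟩
  obtain ⟨U, hx, m, rfl⟩ := exists_germ F x v
  refine (RefHull.stalkMapₗ_germ _ x hx m).trans ?_
  exact germ_applySec g le_top m x hx

variable [IsIntegral X] [IsLocallyNoetherian X]

theorem mspec_gen_injective {F : X.Modules} (hF : Coh.IsCoh F) (hFr : RefHull.IsReflexive F) (x : X) :
    Function.Injective (mspec F (genSpec x)) := by
  refine (injective_iff_map_eq_zero _).mpr fun v hv => ?_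
  have := hF.1
  obtain ⟨a, ha, hav⟩ := exists_smul_eq_zero_of_mspec F (genSpec x) hv
  have : Module.IsReflexive (X.presheaf.stalk x) (F.presheaf.stalk x) :=
    (isReflexive_iff_forall hF).mp hFr x
  have ha0 : a ≠ 0 := fun h => isUnit_gen_iff.mp ha (by rw [h, map_zero])
  exact (isRegular_iff_ne_zero.mpr ha0).isSMulRegular (hav.trans (smul_zero a).symm)

/-- An element of the generic stalk of a reflexive module coming from all generizations of
codimension one of `x` comes from the stalk at `x`. -/
theorem mem_range_mspec (hX : Pi1.IsNormalScheme X) {F : X.Modules} (hF : Coh.IsCoh F)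
    (hFr : RefHull.IsReflexive F) {x : X} (w : F.presheaf.stalk (genericPoint ↥X))
    (h : ∀ y : X, y ⤳ x → ringKrullDim (X.presheaf.stalk y) = 1 →
      w ∈ Set.range (mspec F (genSpec y))) :
    w ∈ Set.range (mspec F (genSpec x)) := by
  have := hF.1
  have := (hX x).2
  have : Module.IsReflexive (X.presheaf.stalk x) (F.presheaf.stalk x) :=
    (isReflexive_iff_forall hF).mp hFr x
  obtain ⟨a, v, ha, hav⟩ := exists_smul_eq_mspec F (genSpec x) w
  have ha0 : a ≠ 0 := fun h => isUnit_gen_iff.mp ha (by rw [h, map_zero])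
  obtain ⟨v₀, hv₀⟩ := exists_smul_eq_of_isReflexive ha0 v fun q hq hq1 => by
    obtain ⟨y, hy, hu, hdim⟩ := exists_generization_of_prime q
    obtain ⟨z, hz⟩ := h y hy (by rw [hdim, hq1]; rfl)
    obtain ⟨b, v', hb, hbz⟩ := exists_smul_eq_mspec F hy z
    refine ⟨b, (hu b).mp hb, v', mspec_gen_injective hF hFr x ?_⟩
    have e := congrArg (mspec F (genSpec y)) hbz
    rw [mspec_smul, mspec_mspec, rspec_rspec, hz] at e
    rw [mspec_smul, mspec_smul, ← hav, ← e, smul_smul, smul_smul, mul_comm]
  refine ⟨v₀, ha.smul_left_cancel.mp ?_⟩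
  rw [← mspec_smul, hv₀, hav]

/-- A linear map between generic stalks into a reflexive module extends to a morphism as soon as it
preserves the stalks at the points of codimension one. -/
theorem exists_hom_of_codim_one (hX : Pi1.IsNormalScheme X) {G F : X.Modules} (hF : Coh.IsCoh F)
    (hFr : RefHull.IsReflexive F)
    (T : G.presheaf.stalk (genericPoint ↥X) →ₗ[X.presheaf.stalk (genericPoint ↥X)]
      F.presheaf.stalk (genericPoint ↥X))
    (h : ∀ y : X, ringKrullDim (X.presheaf.stalk y) = 1 →
      Set.MapsTo T (Set.range (mspec G (genSpec y))) (Set.range (mspec F (genSpec y)))) :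
    ∃ ψ : G ⟶ F, RefHull.stalkMapₗ ψ (genericPoint ↥X) = T := by
  have key : ∀ (x : X) (v : G.presheaf.stalk x), T (mspec G (genSpec x) v) ∈
      Set.range (mspec F (genSpec x)) := fun x v =>
    mem_range_mspec hX hF hFr _ fun y hy hy1 => h y hy1
      ⟨mspec G hy v, mspec_mspec G hy (genSpec y) v⟩
  choose f hf using key
  let f' : ∀ x : X, RefHull.StalkHom G F x := fun x =>
    { toFun := f x
      map_add' := fun v w => mspec_gen_injective hF hFr x (by
        rw [map_add, hf, hf, hf, map_add, map_add])
      map_smul' := fun a v => mspec_gen_injective hF hFr x (by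
        rw [RingHom.id_apply, mspec_smul, hf, hf, mspec_smul, map_smul]) }
  have hloc : RefHull.IsLocSect G F (U := ⊤) (fun x => f' x.1) := by
    intro V i m x
    obtain ⟨W, hxW, n, hn⟩ := exists_germ F x.1 (f x.1 (germ G x.1 x.2 m))
    refine ⟨W ⊓ V, ⟨hxW, x.2⟩, homOfLE inf_le_right, res F inf_le_left n, fun y => ?_⟩
    refine mspec_gen_injective hF hFr y.1 ?_
    have hy1 : mspec G (genSpec y.1) (germ G y.1 y.2.2 m) = mspec G (genSpec x.1) (germ G x.1 x.2 m) := by
      rw [mspec_germ, mspec_germ]
    refine ((hf y.1 _).trans (congrArg T hy1)).trans ?_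
    refine (hf x.1 _).symm.trans ?_
    rw [← hn, mspec_germ]
    refine ((congrArg (mspec F (genSpec y.1)) (germ_res F inf_le_left y.1 y.2 n)).trans ?_).symm
    exact mspec_germ F _ _ _
  obtain ⟨ψ, hψ⟩ := exists_hom_of_sec (F := G) (G := F)
    (show Γ(RefHull.homSh G F, ⊤) from ⟨fun x => f' x.1, hloc⟩)
  refine ⟨ψ, LinearMap.ext fun v => ?_⟩
  rw [hψ]
  change f _ v = T v
  have h1 := hf (genericPoint ↥X) v
  have e : ∀ (M : X.Modules) (u : M.presheaf.stalk (genericPoint ↥X)),
      mspec M (genSpec (genericPoint ↥X)) u = u := fun M u => by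
    obtain ⟨U, hU, m, rfl⟩ := exists_germ M _ u
    exact mspec_germ M _ hU m
  rwa [e, e] at h1

omit [IsLocallyNoetherian X] in
/-- Morphisms into a module without sections vanishing at the generic point are determined there. -/
theorem hom_ext_gen {F G : X.Modules} (hF : ∀ x, Function.Injective (mspec F (genSpec x)))
    {ψ ψ' : G ⟶ F}
    (h : RefHull.stalkMapₗ ψ (genericPoint ↥X) = RefHull.stalkMapₗ ψ' (genericPoint ↥X)) : ψ = ψ' := by
  refine Scheme.Modules.hom_ext _ _ fun U => ?_
  ext m
  refine mod_section_ext F fun x hx => hF x ?_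
  refine ((congrArg (mspec F (genSpec x)) (RefHull.stalkMapₗ_germ ψ x hx m).symm).trans ?_).trans
    (congrArg (mspec F (genSpec x)) (RefHull.stalkMapₗ_germ ψ' x hx m))
  rw [← stalkMapₗ_mspec, ← stalkMapₗ_mspec, h]

omit [IsIntegral X] in
theorem isReflexive_structureModule : RefHull.IsReflexive (Coh.structureModule X) :=
  (isReflexive_iff_forall isCoh_unit).mpr fun x => Module.equiv (oneEquiv x)

theorem isReflexive_dual {F : X.Modules} (hF : Coh.IsCoh F) : RefHull.IsReflexive (RefHull.dual F) :=
  isReflexive_homSh hF isCoh_unit isReflexive_structureModule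

theorem isReflexive_ddual {F : X.Modules} (hF : Coh.IsCoh F) :
    RefHull.IsReflexive (RefHull.ddual F) :=
  isReflexive_dual (isCoh_dual hF)

/-- Over a discrete valuation ring or a field the map of a finite module into its double dual is
surjective. -/
theorem dualEval_surjective {R M : Type*} [CommRing R] [IsDomain R] [IsPrincipalIdealRing R]
    [AddCommGroup M] [Module R M] [Module.Finite R M] : Function.Surjective (Module.Dual.eval R M) := by
  intro Φ
  let p := Submodule.torsion R M
  have : Module.IsTorsionFree R (M ⧸ p) := inferInstance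
  have : Module.Free R (M ⧸ p) := Module.free_of_finite_type_torsion_free'
  have hkill : ∀ φ : Module.Dual R M, p ≤ LinearMap.ker φ := fun φ t ht => by
    obtain ⟨⟨a, ha⟩, hat⟩ := ht
    have h := congrArg φ hat
    rw [map_zero] at h
    have h' : φ (a • t) = 0 := h
    rw [map_smul, smul_eq_mul, mul_eq_zero] at h'
    exact h'.resolve_left (nonZeroDivisors.ne_zero ha)
  obtain ⟨u, hu⟩ := (Module.bijective_dual_eval R (M ⧸ p)).2 (Φ.comp p.mkQ.dualMap)
  obtain ⟨v, rfl⟩ := p.mkQ_surjective u
  refine ⟨v, LinearMap.ext fun φ => ?_⟩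
  have := LinearMap.congr_fun hu (p.liftQ φ (hkill φ))
  rw [Module.Dual.eval_apply, Submodule.mkQ_apply, Submodule.liftQ_apply, LinearMap.comp_apply] at this
  rw [Module.Dual.eval_apply, this]
  refine congrArg Φ (LinearMap.ext fun m => ?_)
  rw [LinearMap.dualMap_apply, Submodule.mkQ_apply, Submodule.liftQ_apply]

/-- The map into the reflexive hull is surjective at the points of codimension one and at the
generic point, and bijective at the latter. -/
theorem bidual_surjective_of_pid {F : X.Modules} (hF : Coh.IsCoh F) (x : X)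
    [IsPrincipalIdealRing (X.presheaf.stalk x)] :
    Function.Surjective (RefHull.stalkMapₗ (RefHull.bidualMap F) x) := by
  have := finite_stalkModule hF x
  let E := (homStalkEquiv (G := Coh.structureModule X) (isCoh_dual hF) x).trans
    ((dualEquiv hF x).arrowCongr (oneEquiv x).symm)
  intro w
  obtain ⟨v, hv⟩ := dualEval_surjective (E w)
  exact ⟨v, E.injective ((dual_eval_eq hF x v).trans hv)⟩
where
  dual_eval_eq {F : X.Modules} (hF : Coh.IsCoh F) (x : X) (v : F.presheaf.stalk x) :
      ((homStalkEquiv (G := Coh.structureModule X) (isCoh_dual hF) x).trans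
        ((dualEquiv hF x).arrowCongr (oneEquiv x).symm)) (RefHull.stalkMapₗ (RefHull.bidualMap F) x v) =
      Module.Dual.eval (X.presheaf.stalk x) (F.presheaf.stalk x) v := LinearMap.ext fun φ => by
    change (oneEquiv x).symm (homStalkEquiv (isCoh_dual hF) x _ ((dualEquiv hF x).symm φ)) = φ v
    rw [homStalkEquiv_apply, evalStalk_bidualMap, RefHull.bidualAt_apply, LinearEquiv.symm_apply_eq,
      ← oneEquiv_dualEquiv hF, LinearEquiv.apply_symm_apply]

theorem bidual_gen_bijective {F : X.Modules} (hF : Coh.IsCoh F) :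
    Function.Bijective (RefHull.stalkMapₗ (RefHull.bidualMap F) (genericPoint ↥X)) := by
  let _ : Field (X.presheaf.stalk (genericPoint ↥X)) := inferInstanceAs (Field X.functionField)
  have := finite_stalkModule hF (genericPoint ↥X)
  refine (bijective_bidual_iff hF _).mpr ?_
  exact inferInstanceAs (Module.IsReflexive (X.presheaf.stalk (genericPoint ↥X))
    (F.presheaf.stalk (genericPoint ↥X)))

/-- A linear map between generic stalks extends to a morphism into the reflexive hull iff it maps
the stalks at points of codimension one into each other. -/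
theorem extends_to_ddual_iff (hX : Pi1.IsNormalScheme X) {F G : X.Modules} (hF : Coh.IsCoh F)
    (T : G.presheaf.stalk (genericPoint ↥X) →ₗ[X.presheaf.stalk (genericPoint ↥X)]
      F.presheaf.stalk (genericPoint ↥X)) :
    (∃ ψ : G ⟶ RefHull.ddual F, RefHull.stalkMapₗ ψ (genericPoint ↥X) =
        (RefHull.stalkMapₗ (RefHull.bidualMap F) (genericPoint ↥X)).comp T) ↔
      ∀ y : X, ringKrullDim (X.presheaf.stalk y) = 1 →
        Set.MapsTo T (Set.range (mspec G (genSpec y))) (Set.range (mspec F (genSpec y))) := by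
  constructor
  · rintro ⟨ψ, hψ⟩ y hy _ ⟨v, rfl⟩
    have := isDiscreteValuationRing_stalk hX hy
    obtain ⟨u, hu⟩ := bidual_surjective_of_pid hF y (RefHull.stalkMapₗ ψ y v)
    refine ⟨u, (bidual_gen_bijective hF).1 ?_⟩
    rw [stalkMapₗ_mspec, hu, ← stalkMapₗ_mspec, hψ]
    rfl
  · intro h
    refine exists_hom_of_codim_one hX (isCoh_ddual hF) (isReflexive_ddual hF) _ fun y hy => ?_
    rintro _ ⟨v, rfl⟩
    obtain ⟨u, hu⟩ := h y hy ⟨v, rfl⟩
    refine ⟨RefHull.stalkMapₗ (RefHull.bidualMap F) y u, ?_⟩
    rw [← stalkMapₗ_mspec, hu]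
    rfl

end Groth.RefRank
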