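/-
Reflexive modules extend uniquely across closed subsets along which the structure sheaf has depth at
least two.
-/
import Groth.Agent.RefRank.Ext
import Groth.Agent.Misc7.DepthTwoExtend
import Groth.Agent.SchemeMorphisms.AssRestrict
import Groth.Agent.S2252
import Groth.Agent.LocCohBase.Depth
import Groth.Agent.LocCohBase.CM

universe u

open CategoryTheory CategoryTheory.Limits AlgebraicGeometry TopologicalSpace Opposite

namespace Groth.RefRank

open Groth.QCohMod

variable {X : Scheme.{u}}

/-- Reflexivity transfers along semilinear equivalences. -/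
theorem isReflexive_of_semilinear {R S M N : Type*} [CommRing R] [CommRing S] [AddCommGroup M]
    [Module R M] [AddCommGroup N] [Module S N] (σ : R ≃+* S) (e : M ≃+ N)
    (he : ∀ r m, e (r • m) = σ r • e m) [Module.IsReflexive R M] : Module.IsReflexive S N := by
  have he' : ∀ s n, e.symm (s • n) = σ.symm s • e.symm n := fun s n => e.injective (by simp [he])
  let F : Module.Dual R M → Module.Dual S N := fun φ =>
    { toFun := fun n => σ (φ (e.symm n))
      map_add' := fun a b => by simp
      map_smul' := fun s n => by simp [he'] }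
  let T : Module.Dual S N → Module.Dual R M := fun ψ =>
    { toFun := fun m => σ.symm (ψ (e m))
      map_add' := fun a b => by simp
      map_smul' := fun r m => by simp [he] }
  have hFT : ∀ ψ, F (T ψ) = ψ := fun ψ => LinearMap.ext fun n => by simp [F, T]
  constructor
  refine ⟨fun a b hab => e.symm.injective ((Module.bijective_dual_eval R M).1 (LinearMap.ext fun φ => ?_)),
    fun Φ => ?_⟩
  · have := LinearMap.congr_fun hab (F φ)
    simpa [F] using this
  · let Φ' : Module.Dual R (Module.Dual R M) :=
      { toFun := fun φ => σ.symm (Φ (F φ))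
        map_add' := fun a b => by
          rw [← map_add, ← map_add]
          congr 2
          exact LinearMap.ext fun n => by simp [F]
        map_smul' := fun r φ => by
          rw [show F (r • φ) = σ r • F φ from LinearMap.ext fun n => by simp [F]]
          simp }
    obtain ⟨m, hm⟩ := (Module.bijective_dual_eval R M).2 Φ'
    refine ⟨e m, LinearMap.ext fun ψ => ?_⟩
    have := LinearMap.congr_fun hm (T ψ)
    simp only [Module.Dual.eval_apply, Φ', LinearMap.coe_mk, AddHom.coe_mk, hFT] at this
    rw [Module.Dual.eval_apply]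
    exact σ.symm.injective this

theorem isReflexiveAt_restrict_iff {Y : Scheme.{u}} (f : Y ⟶ X) [IsOpenImmersion f] (M : X.Modules)
    (y : Y) : Module.IsReflexive (Y.presheaf.stalk y) ((M.restrict f).presheaf.stalk y) ↔
      Module.IsReflexive (X.presheaf.stalk (f y)) (M.presheaf.stalk (f y)) := by
  let e := SchemeMorphisms.restrictStalkEquiv f M y
  let σ : Y.presheaf.stalk y ≃+* X.presheaf.stalk (f y) :=
    (asIso (f.stalkMap y)).commRingCatIsoToRingEquiv.symm
  have he : ∀ r m, e (r • m) = σ r • e m := fun r m => SchemeMorphisms.restrictStalkEquiv_smul f M y r m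
  constructor
  · intro h
    have := h
    exact isReflexive_of_semilinear σ e he
  · intro h
    have := h
    refine isReflexive_of_semilinear σ.symm e.symm fun r m => e.injective ?_
    rw [he, AddEquiv.apply_symm_apply, AddEquiv.apply_symm_apply, RingEquiv.apply_symm_apply]

/-- Restriction to the part inside `U` is bijective on affine opens. -/
def ResBij (U : X.Opens) (G : X.Modules) : Prop :=
  ∀ W : X.Opens, IsAffineOpen W → Function.Bijective (res G (inf_le_left : W ⊓ U ≤ W))

/-- Sheaf Hom into a module with bijective restrictions has bijective restrictions. -/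
theorem resBij_homSh {U : X.Opens} {A G : X.Modules} [A.IsQuasicoherent]
    (hinj : ∀ W : X.Opens, IsAffineOpen W →
      Function.Injective (res (RefHull.homSh A G) (inf_le_left : W ⊓ U ≤ W)))
    (hG : ResBij U G) : ResBij U (RefHull.homSh A G) := by
  intro W hW
  refine ⟨hinj W hW, fun g => ?_⟩
  obtain ⟨hGi, hGs⟩ := hG W hW
  let inv : Γ(G, W ⊓ U) → Γ(G, W) := Function.surjInv hGs
  have hinv : ∀ n, res G (inf_le_left : W ⊓ U ≤ W) (inv n) = n := Function.surjInv_eq hGs
  let lam : Γ(A, W) →ₗ[Γ(X, W)] Γ(G, W) :=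
    { toFun := fun m => inv (applySec g le_rfl (res A inf_le_left m))
      map_add' := fun a b => hGi (by rw [map_add (res G _), hinv, hinv, hinv, map_add, applySec_add])
      map_smul' := fun r m => hGi (by
        rw [RingHom.id_apply, hinv, res_smul, applySec_smul, res_smul, hinv]) }
  refine ⟨(secLinEquiv hW).symm lam, hom_ext_sec fun ⟨x, hx⟩ => stalkHom_ext hW hx.1 fun m => ?_⟩
  have h : secToLin ((secLinEquiv hW).symm lam) = lam := (secLinEquiv hW).apply_symm_apply lam
  rw [res_val, ← germ_secToLin ((secLinEquiv hW).symm lam) m x hx.1, h,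
    ← germ_res G (inf_le_left : W ⊓ U ≤ W) x hx]
  change germ G x hx (res G _ (inv _)) = _
  rw [hinv, germ_applySec, germ_res]

theorem exists_isWeaklyRegular_pair {R : Type u} [CommRing R] [IsLocalRing R] [IsNoetherianRing R]
    (h : (2 : ℕ∞) ≤ LocCoh.depth R R) :
    ∃ a b : R, a ∈ IsLocalRing.maximalIdeal R ∧ b ∈ IsLocalRing.maximalIdeal R ∧
      RingTheory.Sequence.IsWeaklyRegular R [a, b] := by
  obtain ⟨rs, hlen, hrs, hmem⟩ := (Groth.LocCohBase.le_idealDepth_iff_exists _
    (Groth.LocCohBase.smul_maximalIdeal_ne_top R (IsLocalRing.maximalIdeal.isMaximal R).ne_top) 2).1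
    (by exact_mod_cast h)
  obtain ⟨a, b, rfl⟩ := List.length_eq_two.1 hlen
  exact ⟨a, b, hmem a (by simp), hmem b (by simp), hrs⟩

variable [IsIntegral X] [IsLocallyNoetherian X]

theorem genericPoint_mem_of_depth {U : X.Opens}
    (hU : ∀ x : X, x ∉ U → (2 : ℕ∞) ≤ LocCoh.depth (X.presheaf.stalk x) (X.presheaf.stalk x)) :
    genericPoint ↥X ∈ U := by
  by_contra h
  obtain ⟨a, b, ha, -, hab⟩ := exists_isWeaklyRegular_pair (hU _ h)
  rw [RingTheory.Sequence.isWeaklyRegular_cons_iff] at hab
  rw [IsLocalRing.isField_iff_maximalIdeal_eq.mp (Field.toIsField X.functionField), Submodule.mem_bot] at ha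
  have := hab.1
  rw [ha] at this
  exact one_ne_zero (this (show (0 : X.presheaf.stalk (genericPoint ↥X)) • (1 : X.presheaf.stalk (genericPoint ↥X)) = (0 : X.presheaf.stalk (genericPoint ↥X)) • 0 by simp))

theorem resBij_structure {U : X.Opens}
    (hU : ∀ x : X, x ∉ U → (2 : ℕ∞) ≤ LocCoh.depth (X.presheaf.stalk x) (X.presheaf.stalk x)) :
    ResBij U (Coh.structureModule X) := fun W hW =>
  Groth.Misc7.DepthTwo.bijective_restrict (U := U) (fun z hz => exists_isWeaklyRegular_pair (hU z hz))
    hW rfl (homOfLE inf_le_left)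

omit [IsLocallyNoetherian X] in
theorem res_injective_of_gen {U : X.Opens} (hη : genericPoint ↥X ∈ U) {F : X.Modules}
    (hF : ∀ x, Function.Injective (mspec F (genSpec x))) (W : X.Opens) :
    Function.Injective (res F (inf_le_left : W ⊓ U ≤ W)) := by
  refine fun m m' h => mod_section_ext F fun x hx => hF x ?_
  have hηW : genericPoint ↥X ∈ W := (genSpec x).mem_open W.2 hx
  rw [mspec_germ, mspec_germ, ← germ_res F (inf_le_left : W ⊓ U ≤ W) _ ⟨hηW, hη⟩ m,
    ← germ_res F (inf_le_left : W ⊓ U ≤ W) _ ⟨hηW, hη⟩ m', h]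

/-- Reflexive modules have bijective restrictions. -/
theorem resBij_of_isReflexive {U : X.Opens}
    (hU : ∀ x : X, x ∉ U → (2 : ℕ∞) ≤ LocCoh.depth (X.presheaf.stalk x) (X.presheaf.stalk x))
    {F : X.Modules} (hF : Coh.IsCoh F) (hFr : RefHull.IsReflexive F) : ResBij U F := by
  have hη := genericPoint_mem_of_depth hU
  intro W hW
  refine ⟨res_injective_of_gen hη (mspec_gen_injective hF hFr) W, fun n => ?_⟩
  have := (isCoh_dual hF).1
  obtain ⟨g, hg⟩ := (resBij_homSh (fun W _ => res_injective_of_gen hη
    (mspec_gen_injective (isCoh_ddual hF) (isReflexive_ddual hF)) W) (resBij_structure hU) W hW).2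
    ((RefHull.bidualMap F).app _ n)
  have : IsIso (RefHull.bidualMap F) := hFr
  refine ⟨(inv (RefHull.bidualMap F)).app W g, ?_⟩
  have h1 : res F (inf_le_left : W ⊓ U ≤ W) ((inv (RefHull.bidualMap F)).app W g) =
      (inv (RefHull.bidualMap F)).app (W ⊓ U) (res (RefHull.ddual F) inf_le_left g) :=
    (congr($((inv (RefHull.bidualMap F)).mapPresheaf.naturality (homOfLE inf_le_left).op) g)).symm
  rw [h1]
  refine (congrArg _ hg).trans ?_
  change ((RefHull.bidualMap F ≫ inv (RefHull.bidualMap F)).app _) n = n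
  rw [IsIso.hom_inv_id]
  rfl

theorem isIso_unit_app {U : X.Opens}
    (hU : ∀ x : X, x ∉ U → (2 : ℕ∞) ≤ LocCoh.depth (X.presheaf.stalk x) (X.presheaf.stalk x))
    {F : X.Modules} (hF : Coh.IsCoh F) (hFr : RefHull.IsReflexive F) :
    IsIso ((Scheme.Modules.restrictAdjunction U.ι).unit.app F) := by
  have hb := resBij_of_isReflexive hU hF hFr
  have happ : ∀ W : X.Opens, IsAffineOpen W →
      Function.Bijective (((Scheme.Modules.restrictAdjunction U.ι).unit.app F).app W) := fun W hW => by
    have hle : W ⊓ U = U.ι ''ᵁ U.ι ⁻¹ᵁ W := by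
      rw [Scheme.Hom.image_preimage_eq_opensRange_inf, Scheme.Opens.opensRange_ι, inf_comm]
    have e : ∀ m : Γ(F, W), ((Scheme.Modules.restrictAdjunction U.ι).unit.app F).app W m =
        res F (U.ι.image_preimage_le W) m := fun m => rfl
    rw [funext e]
    have key : ∀ (V : X.Opens) (h : V ≤ W), V = W ⊓ U → Function.Bijective (res F h) := by
      rintro V h rfl
      exact hb W hW
    exact key _ _ hle.symm
  refine (isIso_iff_bijective_stalk _).mpr fun x => ⟨(injective_iff_map_eq_zero _).mpr fun v hv => ?_, fun v => ?_⟩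
  · obtain ⟨V, hx, m, rfl⟩ := exists_germ F x v
    have h1 : germ _ x hx (((Scheme.Modules.restrictAdjunction U.ι).unit.app F).app V m) = 0 :=
      (RefHull.stalkMapₗ_germ _ x hx m).symm.trans hv
    obtain ⟨V', hx', i, j, h2⟩ := TopCat.Presheaf.germ_eq _ x hx hx _ _
      (h1.trans (map_zero (germ _ x hx)).symm)
    obtain ⟨⟨W, hW⟩, hxW, hle⟩ := Divisors.exists_affine_le x V' hx'
    rw [← germ_res F (hle.trans i.le) x hxW m]
    have h3 : ((Scheme.Modules.restrictAdjunction U.ι).unit.app F).app W (res F (hle.trans i.le) m) = 0 := by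
      have hn : ((Scheme.Modules.restrictAdjunction U.ι).unit.app F).app W (res F (hle.trans i.le) m) =
          res _ (hle.trans i.le) (((Scheme.Modules.restrictAdjunction U.ι).unit.app F).app V m) :=
        congr($(((Scheme.Modules.restrictAdjunction U.ι).unit.app F).mapPresheaf.naturality
          (homOfLE (hle.trans i.le)).op) m)
      rw [hn, ← res_res _ i.le hle]
      refine (congrArg (res _ hle) h2).trans ?_
      rw [map_zero, map_zero]
    rw [(happ W hW).1 (h3.trans (map_zero _).symm), map_zero]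
  · obtain ⟨V, hx, n, rfl⟩ := exists_germ _ x v
    obtain ⟨⟨W, hW⟩, hxW, hle⟩ := Divisors.exists_affine_le x V hx
    obtain ⟨m, hm⟩ := (happ W hW).2 (res _ hle n)
    refine ⟨germ F x hxW m, (RefHull.stalkMapₗ_germ _ x hxW m).trans ?_⟩
    exact (congrArg (germ _ x hxW) hm).trans (germ_res _ hle x hxW n)

theorem isCoh_pushforward_reflexive {U : X.Opens}
    (hU : ∀ x : X, x ∉ U → (2 : ℕ∞) ≤ LocCoh.depth (X.presheaf.stalk x) (X.presheaf.stalk x))
    {G : (U : Scheme.{u}).Modules} (hG : Coh.IsCoh G)
    (hGr : ∀ x, Module.IsReflexive ((U : Scheme.{u}).presheaf.stalk x) (G.presheaf.stalk x)) :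
    Coh.IsCoh ((Scheme.Modules.pushforward U.ι).obj G) ∧
      ∀ x, Module.IsReflexive (X.presheaf.stalk x) (((Scheme.Modules.pushforward U.ι).obj G).presheaf.stalk x) := by
  have : Coh.IsQCoh G := hG.1
  obtain ⟨G', hq, hft, ⟨e⟩⟩ := Groth.Agent.S2252.result (X := X) (fun x => by
    obtain ⟨W, hW, hx⟩ := exists_affine_mem x
    have : IsAffine (W : Scheme.{u}) := hW
    have : AlgebraicGeometry.IsNoetherian (W : Scheme.{u}) := ⟨⟩
    exact ⟨W, hx, inferInstanceAs (NoetherianSpace ↥(W : Scheme.{u}))⟩) U G hG.2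
  have hG' : Coh.IsCoh G' := ⟨hq, hft⟩
  have hiso : IsIso ((Scheme.Modules.restrictFunctor U.ι).map (RefHull.bidualMap G')) := by
    refine QCohMod.isIso_of_stalk _ fun y => ?_
    have hr : Module.IsReflexive (X.presheaf.stalk (U.ι y)) (G'.presheaf.stalk (U.ι y)) := by
      refine (isReflexiveAt_restrict_iff U.ι G' y).mp ?_
      have := hGr y
      exact Module.equiv (LinearEquiv.ofBijective (RefHull.stalkMapₗ e.inv y)
        ((isIso_iff_bijective_stalk e.inv).mp inferInstance y))
    have : IsIso ((QCohMod.stalk (U.ι.base y)).map (RefHull.bidualMap G')) :=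
      (ConcreteCategory.isIso_iff_bijective _).mpr
        ((stalkMapₗ_bijective_iff _ _).mp ((bijective_bidual_iff hG' _).mpr hr))
    rw [CohTwo.restrict_stalk_map]
    infer_instance
  have h1 := isIso_unit_app hU (isCoh_ddual hG') (isReflexive_ddual hG')
  let E : RefHull.ddual G' ≅ (Scheme.Modules.pushforward U.ι).obj G :=
    asIso ((Scheme.Modules.restrictAdjunction U.ι).unit.app (RefHull.ddual G')) ≪≫
      (Scheme.Modules.pushforward U.ι).mapIso
        ((asIso ((Scheme.Modules.restrictFunctor U.ι).map (RefHull.bidualMap G'))).symm ≪≫ e)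
  refine ⟨QCohMod.isCoh_of_iso E (isCoh_ddual hG'), fun x => ?_⟩
  have : Module.IsReflexive (X.presheaf.stalk x) ((RefHull.ddual G').presheaf.stalk x) :=
    (isReflexive_iff_forall (isCoh_ddual hG')).mp (isReflexive_ddual hG') x
  exact Module.equiv (LinearEquiv.ofBijective (RefHull.stalkMapₗ E.hom x)
    ((isIso_iff_bijective_stalk E.hom).mp inferInstance x))

end Groth.RefRank
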