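/-
Reflexive modules on normal schemes are the extensions of locally free modules from big opens.
-/
import Groth.Agent.RefRank.Extend
import Groth.Agent.KTheory.LocFree
import Groth.Agent.PropsBasic.LocFree
import Groth.Agent.Calg1.SerreConditions
import Groth.Agent.Ega4Algebra2.CMEquiv
import Groth.Agent.QCohMod.PullbackQCoh

universe u

open CategoryTheory CategoryTheory.Limits AlgebraicGeometry TopologicalSpace Opposite

namespace Groth.RefRank

open Groth.QCohMod

variable {X : Scheme.{u}}

theorem free_of_semilinear {R S M N : Type*} [CommRing R] [CommRing S] [AddCommGroup M]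
    [Module R M] [AddCommGroup N] [Module S N] (σ : R ≃+* S) (e : M ≃+ N)
    (he : ∀ r m, e (r • m) = σ r • e m) [Module.Free R M] : Module.Free S N :=
  letI : Module R N := Module.compHom N σ.toRingHom
  let el : M ≃ₗ[R] N := { e with map_smul' := he }
  Module.Free.of_basis (((Module.Free.chooseBasis R M).map el).mapCoeffs σ fun _ _ => rfl)

theorem free_restrict_iff {Y : Scheme.{u}} (f : Y ⟶ X) [IsOpenImmersion f] (M : X.Modules)
    (y : Y) : Module.Free (Y.presheaf.stalk y) ((M.restrict f).presheaf.stalk y) ↔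
      Module.Free (X.presheaf.stalk (f y)) (M.presheaf.stalk (f y)) := by
  let e := SchemeMorphisms.restrictStalkEquiv f M y
  let σ : Y.presheaf.stalk y ≃+* X.presheaf.stalk (f y) :=
    (asIso (f.stalkMap y)).commRingCatIsoToRingEquiv.symm
  have he : ∀ r m, e (r • m) = σ r • e m := fun r m => SchemeMorphisms.restrictStalkEquiv_smul f M y r m
  constructor
  · intro h
    have := h
    exact free_of_semilinear σ e he
  · intro h
    have := h
    refine free_of_semilinear σ.symm e.symm fun r m => e.injective ?_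
    rw [he, AddEquiv.apply_symm_apply, AddEquiv.apply_symm_apply, RingEquiv.apply_symm_apply]

theorem isCoh_restrict {F : X.Modules} (hF : Coh.IsCoh F) (U : X.Opens) :
    Coh.IsCoh (F.restrict U.ι) := by
  have := hF.1
  exact QCohMod.isCoh_of_iso ((Scheme.Modules.restrictFunctorIsoPullback U.ι).app F).symm
    ⟨inferInstance, QCohMod.isFT_pullback _ F hF.2⟩

/-- The locus where the stalk is free is open. -/
theorem isOpen_free [IsLocallyNoetherian X] {F : X.Modules} (hF : Coh.IsCoh F) :
    IsOpen {x : X | Module.Free (X.presheaf.stalk x) (F.presheaf.stalk x)} := by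
  have := hF.1
  refine isOpen_iff_forall_mem_open.mpr fun x hx => ?_
  have : Module.Free (X.presheaf.stalk x) (F.presheaf.stalk x) := hx
  obtain ⟨U, n, s, hxU, hs⟩ := KTheory.LocFree.exists_basis_of_free_stalk hF x
  have hU : FlatMod.IsFinLocFree (F.restrict U.ι) := KTheory.LocFree.isFinLocFree_iff.2 fun y =>
    ⟨⊤, n, _, trivial, (PicAux.basis'_iff_restrict s).1 hs⟩
  have : (F.restrict U.ι).IsQuasicoherent := inferInstance
  exact ⟨U, fun y hy => (free_restrict_iff U.ι F ⟨y, hy⟩).mp
    (((PropsBasic.LocFree.isFinLocFree_iff _).mp hU).2 ⟨y, hy⟩), U.2, hxU⟩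

theorem two_le_depth_of_normal {A : Type u} [CommRing A] [IsNoetherianRing A] [IsLocalRing A]
    [IsDomain A] [IsIntegrallyClosed A] (h : (2 : WithBot ℕ∞) ≤ ringKrullDim A) :
    (2 : ℕ∞) ≤ LocCoh.depth A A := by
  have hn : ∀ (p : Ideal A) [p.IsPrime], IsDomain (Localization.AtPrime p) ∧
      IsIntegrallyClosed (Localization.AtPrime p) := fun p _ => ⟨inferInstance,
    isIntegrallyClosed_of_isLocalization _ p.primeCompl p.primeCompl_le_nonZeroDivisors⟩
  have h2 := (Groth.Calg1.hasSk_self_iff 2).mp (Groth.Calg1.normal_iff.mp hn).2 (IsLocalRing.maximalIdeal A)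
  have e : A ≃+* Localization.AtPrime (IsLocalRing.maximalIdeal A) :=
    (IsLocalization.atUnits A (IsLocalRing.maximalIdeal A).primeCompl
      (fun a ha => by
        have ha' : a ∉ IsLocalRing.maximalIdeal A := ha
        exact (IsLocalRing.notMem_maximalIdeal.mp ha'))).toRingEquiv
  rw [Groth.Ega4b.depth_eq_of_ringEquiv e]
  refine le_trans (le_min le_rfl ?_) h2
  rw [← IsLocalRing.maximalIdeal_height_eq_ringKrullDim] at h
  exact WithBot.coe_le_coe.mp h

variable [IsIntegral X] [IsLocallyNoetherian X]

theorem depth_of_dim (hX : Pi1.IsNormalScheme X) {x : X}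
    (h : (2 : WithBot ℕ∞) ≤ ringKrullDim (X.presheaf.stalk x)) :
    (2 : ℕ∞) ≤ LocCoh.depth (X.presheaf.stalk x) (X.presheaf.stalk x) :=
  have := (hX x).2
  two_le_depth_of_normal h

/-- A reflexive module is free in codimension one and is the extension of its restriction. -/
theorem exists_bigOpen (hX : Pi1.IsNormalScheme X) {F : X.Modules} (hF : Coh.IsCoh F)
    (hr : RefHull.IsReflexive F) :
    ∃ U : X.Opens, (∀ x : X, x ∉ U → (2 : WithBot ℕ∞) ≤ ringKrullDim (X.presheaf.stalk x)) ∧
      FlatMod.IsFinLocFree (F.restrict U.ι) ∧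
      IsIso ((Scheme.Modules.restrictAdjunction U.ι).unit.app F) := by
  let U : X.Opens := ⟨_, isOpen_free hF⟩
  have hdim : ∀ x : X, x ∉ U → (2 : WithBot ℕ∞) ≤ ringKrullDim (X.presheaf.stalk x) := fun x hx => by
    by_contra hlt
    refine hx ?_
    change Module.Free (X.presheaf.stalk x) (F.presheaf.stalk x)
    have := finite_stalkModule hF x
    have : Module.IsReflexive (X.presheaf.stalk x) (F.presheaf.stalk x) :=
      (isReflexive_iff_forall hF).mp hr x
    have hle : ringKrullDim (X.presheaf.stalk x) ≤ 1 := by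
      obtain ⟨n, hn⟩ := WithBot.ne_bot_iff_exists.mp (ringKrullDim_ne_bot (R := X.presheaf.stalk x))
      rw [← hn] at hlt ⊢
      cases n with
      | top => exact absurd le_top hlt
      | coe k =>
        have : k < 2 := not_le.mp fun h => hlt (by
          change ((2 : ℕ∞) : WithBot ℕ∞) ≤ ((k : ℕ∞) : WithBot ℕ∞)
          exact_mod_cast h)
        exact_mod_cast Nat.le_of_lt_succ this
    have : IsPrincipalIdealRing (X.presheaf.stalk x) := by
      by_cases hf : IsField (X.presheaf.stalk x)
      · refine ⟨fun I => ?_⟩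
        by_cases hI : I = ⊥
        · rw [hI]; exact bot_isPrincipal
        · obtain ⟨a, ha, ha0⟩ := Submodule.exists_mem_ne_zero_of_ne_bot hI
          obtain ⟨b, hb⟩ := hf.mul_inv_cancel ha0
          rw [Ideal.eq_top_of_isUnit_mem I ha (IsUnit.of_mul_eq_one b hb)]
          exact top_isPrincipal
      · refine (isDiscreteValuationRing_stalk hX ?_).toIsPrincipalIdealRing
        refine le_antisymm hle ?_
        by_contra h1
        suffices Ring.KrullDimLE 0 (X.presheaf.stalk x) from hf Ring.KrullDimLE.isField_of_isDomain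
        exact Ring.krullDimLE_iff.mpr (by
          obtain ⟨n, hn⟩ := WithBot.ne_bot_iff_exists.mp (ringKrullDim_ne_bot (R := X.presheaf.stalk x))
          rw [← hn] at h1 ⊢
          have : n < 1 := by exact_mod_cast not_le.mp h1
          rw [ENat.lt_one_iff_eq_zero.mp this]
          exact le_rfl)
    exact Module.free_of_finite_type_torsion_free'
  refine ⟨U, hdim, ?_, isIso_unit_app (fun x hx => depth_of_dim hX (hdim x hx)) hF hr⟩
  refine KTheory.LocFree.isFinLocFree_of_free_stalks (isCoh_restrict hF U) fun y => ?_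
  exact (free_restrict_iff U.ι F y).mpr y.2

theorem isReflexiveAt_of_bigOpen (hX : Pi1.IsNormalScheme X) {F : X.Modules} (hF : Coh.IsCoh F)
    {U : X.Opens} (hdim : ∀ x : X, x ∉ U → (2 : WithBot ℕ∞) ≤ ringKrullDim (X.presheaf.stalk x))
    (hfree : FlatMod.IsFinLocFree (F.restrict U.ι))
    [IsIso ((Scheme.Modules.restrictAdjunction U.ι).unit.app F)] (x : X) :
    Module.IsReflexive (X.presheaf.stalk x) (F.presheaf.stalk x) := by
  have := hF.1
  have hG := isCoh_restrict hF U
  have hGr : ∀ y, Module.IsReflexive ((U : Scheme.{u}).presheaf.stalk y) ((F.restrict U.ι).presheaf.stalk y) := fun y => by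
    have := finite_stalkModule hG y
    have := hG.1
    have := ((PropsBasic.LocFree.isFinLocFree_iff _).mp hfree).2 y
    infer_instance
  have : Module.IsReflexive (X.presheaf.stalk x)
      (((Scheme.Modules.restrictFunctor U.ι ⋙ Scheme.Modules.pushforward U.ι).obj F).presheaf.stalk x) :=
    (isCoh_pushforward_reflexive (fun x hx => depth_of_dim hX (hdim x hx)) hG hGr).2 x
  exact Module.equiv (LinearEquiv.ofBijective
    (RefHull.stalkMapₗ ((Scheme.Modules.restrictAdjunction U.ι).unit.app F) x)
    ((isIso_iff_bijective_stalk _).mp inferInstance x)).symm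

end Groth.RefRank
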