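/-
Orders of rational functions at points of codimension one.
-/
import Groth.Agent.RefRank.Gen
import Groth.Prelude.Def_C1
import Mathlib.AlgebraicGeometry.OrderOfVanishing

universe u

open CategoryTheory CategoryTheory.Limits AlgebraicGeometry TopologicalSpace Opposite

namespace Groth.RefRank

section Algebra

variable {A : Type u} [CommRing A] [IsDomain A] [IsNoetherianRing A] [Ring.KrullDimLE 1 A]
variable {K : Type u} [Field K] [Algebra A K] [IsFractionRing A K]

theorem ordFrac_eq_recZero (f : K) : CycAlg.ordFrac A K f =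
    WithZero.recZeroCoe (motive := fun _ => ℤ) 0 (fun z => Multiplicative.toAdd z) (Ring.ordFrac A f) :=
  dif_pos ⟨inferInstance, inferInstance, inferInstance, inferInstance⟩

theorem ordFrac_mul' {x y : K} (hx : x ≠ 0) (hy : y ≠ 0) :
    CycAlg.ordFrac A K (x * y) = CycAlg.ordFrac A K x + CycAlg.ordFrac A K y := by
  rw [ordFrac_eq_recZero, ordFrac_eq_recZero, ordFrac_eq_recZero, map_mul]
  have hx' : Ring.ordFrac A x ≠ 0 := (map_ne_zero _).2 hx
  have hy' : Ring.ordFrac A y ≠ 0 := (map_ne_zero _).2 hy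
  obtain ⟨a, ha⟩ := WithZero.ne_zero_iff_exists.1 hx'
  obtain ⟨b, hb⟩ := WithZero.ne_zero_iff_exists.1 hy'
  rw [← ha, ← hb, ← WithZero.coe_mul]
  rfl

theorem ordFrac_algebraMap' {a : A} (ha : a ≠ 0) :
    CycAlg.ordFrac A K (algebraMap A K a) = ((Ring.ord A a).toNat : ℤ) := by
  rw [ordFrac_eq_recZero, Ring.ordFrac_eq_ord A ha]
  obtain ⟨m, hm⟩ := ENat.ne_top_iff_exists.1 (Ring.ord_ne_top (mem_nonZeroDivisors_of_ne_zero ha))
  rw [Ring.ordMonoidWithZeroHom_eq_coe A (mem_nonZeroDivisors_of_ne_zero ha) hm.symm, ← hm]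
  rfl

theorem ordFrac_of_isUnit' {a : A} (ha : IsUnit a) : CycAlg.ordFrac A K (algebraMap A K a) = 0 := by
  rw [ordFrac_algebraMap' ha.ne_zero, Ring.ord_of_isUnit ha]
  rfl

theorem ordFrac_one' : CycAlg.ordFrac A K (1 : K) = 0 := by
  rw [← map_one (algebraMap A K)]; exact ordFrac_of_isUnit' isUnit_one

theorem ordFrac_inv' {x : K} (hx : x ≠ 0) : CycAlg.ordFrac A K x⁻¹ = - CycAlg.ordFrac A K x := by
  have := ordFrac_mul' (A := A) hx (inv_ne_zero hx)
  rw [mul_inv_cancel₀ hx, ordFrac_one'] at this
  linarith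

theorem ordFrac_div' {a b : A} (ha : a ≠ 0) (hb : b ≠ 0) :
    CycAlg.ordFrac A K (algebraMap A K a / algebraMap A K b) =
      ((Ring.ord A a).toNat : ℤ) - ((Ring.ord A b).toNat : ℤ) := by
  have ha' : algebraMap A K a ≠ 0 := (map_ne_zero_iff _ (IsFractionRing.injective A K)).mpr ha
  have hb' : algebraMap A K b ≠ 0 := (map_ne_zero_iff _ (IsFractionRing.injective A K)).mpr hb
  rw [div_eq_mul_inv, ordFrac_mul' ha' (inv_ne_zero hb'), ordFrac_inv' hb', ordFrac_algebraMap' ha,
    ordFrac_algebraMap' hb, sub_eq_add_neg]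

/-- In a discrete valuation ring the elements of order zero are the units. -/
theorem exists_unit_of_ordFrac_eq_zero [IsDiscreteValuationRing A] {f : K} (hf : f ≠ 0)
    (h : CycAlg.ordFrac A K f = 0) : ∃ a : A, IsUnit a ∧ algebraMap A K a = f := by
  have key : ∀ a : A, a ≠ 0 → CycAlg.ordFrac A K (algebraMap A K a) = 0 → IsUnit a := by
    intro a ha h0
    rw [ordFrac_algebraMap' ha, Int.natCast_eq_zero, ENat.toNat_eq_zero] at h0
    have h1 := h0.resolve_right (Ring.ord_ne_top (mem_nonZeroDivisors_of_ne_zero ha))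
    unfold Ring.ord at h1
    rw [Module.length_eq_zero_iff, Ideal.Quotient.subsingleton_iff, Ideal.span_singleton_eq_top] at h1
    exact h1
  rcases ValuationRing.isInteger_or_isInteger A f with ⟨a, ha⟩ | ⟨a, ha⟩
  · have ha0 : a ≠ 0 := fun e => hf (by rw [← ha, e, map_zero])
    exact ⟨a, key a ha0 (by rw [ha, h]), ha⟩
  · have ha0 : a ≠ 0 := fun e => hf (inv_eq_zero.mp (by rw [← ha, e, map_zero]))
    have hu := key a ha0 (by rw [ha, ordFrac_inv' hf, h, neg_zero])
    refine ⟨↑hu.unit⁻¹, Units.isUnit _, ?_⟩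
    rw [map_units_inv]
    change (algebraMap A K a)⁻¹ = f
    rw [ha, inv_inv]

/-- The order of vanishing does not change along an isomorphism of pairs (ring, fraction field). -/
theorem ordFrac_transport {B : Type u} [CommRing B] {L : Type u} [Field L] [Algebra B L]
    (q : A →+* B) (hq : Function.Bijective q) (r : K →+* L) (hr : Function.Bijective r)
    (hc : ∀ a, r (algebraMap A K a) = algebraMap B L (q a)) (f : K) :
    CycAlg.ordFrac B L (r f) = CycAlg.ordFrac A K f := by
  rcases eq_or_ne f 0 with rfl | hf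
  · have : ∀ (R : Type u) [CommRing R] (M : Type u) [Field M] [Algebra R M],
        CycAlg.ordFrac R M (0 : M) = 0 := by
      intro R _ M _ _
      unfold CycAlg.ordFrac
      split
      · rw [map_zero]; rfl
      · rfl
    rw [map_zero, this, this]
  let e := RingEquiv.ofBijective q hq
  have : IsDomain B := e.symm.toMulEquiv.isDomain A
  have : IsNoetherianRing B := isNoetherianRing_of_ringEquiv A e
  have : Ring.KrullDimLE 1 B := Ring.krullDimLE_iff.mpr
    ((ringKrullDim_le_of_surjective q hq.2).trans (Ring.krullDimLE_iff.mp inferInstance))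
  have : IsFractionRing B L := by
    let _ : Algebra A L := (r.comp (algebraMap A K)).toAlgebra
    have : IsFractionRing A L :=
      IsLocalization.isLocalization_of_algEquiv (nonZeroDivisors A) (S := K) (P := L)
        (AlgEquiv.ofBijective { toRingHom := r, commutes' := fun _ => rfl } hr)
    refine IsFractionRing.of_ringEquiv_left (R := B) (S := A) e.symm (K := L) fun b => ?_
    change _ = r (algebraMap A K (e.symm b))
    rw [hc]
    exact congrArg _ (e.apply_symm_apply b).symm
  have hord : ∀ a : A, Ring.ord B (q a) = Ring.ord A a := fun a => by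
    let _ : Algebra A B := q.toAlgebra
    unfold Ring.ord
    rw [← Module.length_eq_of_surjective (R := B) (S := A) (M := B ⧸ Ideal.span {q a}) hq.2]
    refine LinearEquiv.length_eq (LinearEquiv.symm ?_)
    refine (Submodule.Quotient.equiv _ _ (AlgEquiv.ofBijective (Algebra.ofId A B) hq).toLinearEquiv ?_).trans
      (Submodule.Quotient.restrictScalarsEquiv A (Ideal.span {q a}))
    refine SetLike.ext fun z => ?_
    rw [Submodule.mem_map, Submodule.restrictScalars_mem, Ideal.mem_span_singleton']
    constructor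
    · rintro ⟨y, hy, rfl⟩
      obtain ⟨c, rfl⟩ := Ideal.mem_span_singleton'.mp hy
      exact ⟨q c, (map_mul q c a).symm⟩
    · rintro ⟨c, rfl⟩
      obtain ⟨c', rfl⟩ := hq.2 c
      exact ⟨c' * a, Ideal.mem_span_singleton'.mpr ⟨c', rfl⟩, map_mul q c' a⟩
  obtain ⟨a, b, hb, rfl⟩ := IsFractionRing.div_surjective (A := A) f
  have hb0 : b ≠ 0 := nonZeroDivisors.ne_zero hb
  have ha0 : a ≠ 0 := fun h => hf (by rw [h, map_zero, zero_div])
  rw [map_div₀, hc, hc, ordFrac_div' ha0 hb0,
    ordFrac_div' ((map_ne_zero_iff q hq.1).mpr ha0) ((map_ne_zero_iff q hq.1).mpr hb0), hord, hord]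

end Algebra

variable {X : Scheme.{u}} [IsIntegral X] [IsLocallyNoetherian X]

/-- The order of a rational function at a point of codimension one. -/
noncomputable def ordK (x : X) (f : X.functionField) : ℤ :=
  CycAlg.ordFrac (X.presheaf.stalk x) X.functionField f

omit [IsLocallyNoetherian X] in
theorem residue_gen_bijective : Function.Bijective (X.residue (genericPoint ↥X)) := by
  have h : IsField (X.presheaf.stalk (genericPoint ↥X)) := Field.toIsField X.functionField
  exact ⟨(RingHom.injective_iff_ker_eq_bot _).mpr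
    ((IsLocalRing.ker_residue).trans (IsLocalRing.isField_iff_maximalIdeal_eq.mp h)),
    Ideal.Quotient.mk_surjective⟩

omit [IsIntegral X] [IsLocallyNoetherian X] in
theorem krullDimLE_of_dim_le {x : X} (hx : ringKrullDim (X.presheaf.stalk x) ≤ 1) :
    Ring.KrullDimLE 1 (X.presheaf.stalk x) := Ring.krullDimLE_iff.mpr hx

theorem ordAt_residue {x : X} (hx : ringKrullDim (X.presheaf.stalk x) ≤ 1) (h : genericPoint ↥X ⤳ x)
    (f : X.functionField) :
    Cyc.ordAt x (genericPoint ↥X) h (X.residue (genericPoint ↥X) f) = ordK x f := by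
  have := krullDimLE_of_dim_le hx
  have hker : RingHom.ker (Cyc.specMap x (genericPoint ↥X) h) = ⊥ :=
    (RingHom.injective_iff_ker_eq_bot _).mp (residue_gen_bijective.1.comp (rspec_gen_injective x))
  refine ordFrac_transport (A := X.presheaf.stalk x) (K := X.functionField)
    (Ideal.Quotient.mk (RingHom.ker (Cyc.specMap x (genericPoint ↥X) h)))
    ⟨(RingHom.injective_iff_ker_eq_bot _).mpr (by rw [Ideal.mk_ker, hker]), Ideal.Quotient.mk_surjective⟩
    (X.residue (genericPoint ↥X)).hom residue_gen_bijective (fun a => rfl) f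

theorem ordK_mul {x : X} (hx : ringKrullDim (X.presheaf.stalk x) ≤ 1) {f g : X.functionField}
    (hf : f ≠ 0) (hg : g ≠ 0) : ordK x (f * g) = ordK x f + ordK x g :=
  have := krullDimLE_of_dim_le hx
  ordFrac_mul' hf hg

theorem ordK_of_isUnit {x : X} (hx : ringKrullDim (X.presheaf.stalk x) ≤ 1) {a : X.presheaf.stalk x}
    (ha : IsUnit a) : ordK x (rspec (genSpec x) a) = 0 :=
  have := krullDimLE_of_dim_le hx
  ordFrac_of_isUnit' (K := X.functionField) ha

theorem ordK_one {x : X} (hx : ringKrullDim (X.presheaf.stalk x) ≤ 1) : ordK x (1 : X.functionField) = 0 :=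
  have := krullDimLE_of_dim_le hx
  ordFrac_one'

theorem ordK_inv {x : X} (hx : ringKrullDim (X.presheaf.stalk x) ≤ 1) {f : X.functionField} (hf : f ≠ 0) :
    ordK x f⁻¹ = - ordK x f :=
  have := krullDimLE_of_dim_le hx
  ordFrac_inv' hf

theorem exists_unit_of_ordK_eq_zero (hX : Pi1.IsNormalScheme X) {x : X}
    (hx : ringKrullDim (X.presheaf.stalk x) = 1) {f : X.functionField} (hf : f ≠ 0)
    (h : ordK x f = 0) : ∃ a, IsUnit a ∧ rspec (genSpec x) a = f :=
  have := krullDimLE_of_dim_le hx.le
  have := isDiscreteValuationRing_stalk hX hx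
  exists_unit_of_ordFrac_eq_zero (A := X.presheaf.stalk x) hf h

omit [IsIntegral X] [IsLocallyNoetherian X] in
theorem coheight_eq_one_iff (x : X) :
    Order.coheight x = 1 ↔ ringKrullDim (X.presheaf.stalk x) = 1 := by
  rw [ringKrullDim_stalk_eq_coheight]
  exact WithBot.coe_eq_one.symm

theorem ord_eq_ordK {x : X} (hx : Order.coheight x = 1) (f : X.functionField) :
    Scheme.ord f x = ordK x f := by
  have := krullDimLE_of_dim_le ((coheight_eq_one_iff x).mp hx).le
  rw [Scheme.ord_eq_ordHom_of_coheight_eq_one hx, ordK, ordFrac_eq_recZero]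
  change Multiplicative.toAdd ((Ring.ordFrac (X.presheaf.stalk x) f).unzeroD 1) = _
  generalize Ring.ordFrac (X.presheaf.stalk x) f = v
  cases v <;> rfl

end Groth.RefRank
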