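/-
Modules of rank one: generators of the generic stalk and of the stalks in codimension one, orders of
rational sections.
-/
import Groth.Agent.RefRank.Ext
import Groth.Agent.RefRank.Ord
import Groth.Agent.PicAux.GenLocusAffine

universe u

open CategoryTheory CategoryTheory.Limits AlgebraicGeometry TopologicalSpace Opposite

namespace Groth.RefRank

open Groth.QCohMod

variable {X : Scheme.{u}}

/-- `t` is a basis of the stalk at `x`. -/
def IsStalkBasis (F : X.Modules) (x : X) (t : F.presheaf.stalk x) : Prop :=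
  Function.Bijective fun a : X.presheaf.stalk x => a • t

theorem IsStalkBasis.span_eq_top {F : X.Modules} {x : X} {t : F.presheaf.stalk x}
    (h : IsStalkBasis F x t) : Submodule.span (X.presheaf.stalk x) {t} = ⊤ :=
  eq_top_iff.mpr fun v _ => by
    obtain ⟨a, rfl⟩ := h.2 v
    exact Submodule.smul_mem _ _ (Submodule.mem_span_singleton_self t)

theorem isStalkBasis_germ_of_gen {F : X.Modules} {U : X.Opens} {s : Γ(F, U)}
    (hs : PicAux.Gen F U s) {x : X} (hx : x ∈ U) : IsStalkBasis F x (germ F x hx s) := by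
  refine ⟨fun a b hab => ?_, fun v => ?_⟩
  · dsimp only at hab
    obtain ⟨Va, ha, ra, rfl⟩ := TopCat.Presheaf.exists_germ_eq X.presheaf a
    obtain ⟨Vb, hb, rb, rfl⟩ := TopCat.Presheaf.exists_germ_eq X.presheaf b
    have hV : x ∈ Va ⊓ Vb ⊓ U := ⟨⟨ha, hb⟩, hx⟩
    have h1 : Va ⊓ Vb ⊓ U ≤ Va := inf_le_left.trans inf_le_left
    have h2 : Va ⊓ Vb ⊓ U ≤ Vb := inf_le_left.trans inf_le_right
    rw [← TopCat.Presheaf.germ_res_apply X.presheaf (homOfLE h1) x hV ra,
      ← TopCat.Presheaf.germ_res_apply X.presheaf (homOfLE h2) x hV rb,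
      ← germ_res F (inf_le_right : Va ⊓ Vb ⊓ U ≤ U) x hV s, ← germ_smul, ← germ_smul] at hab
    obtain ⟨W, hxW, i, j, he⟩ := F.presheaf.germ_eq x hV hV _ _ hab
    have he' : res F i.le (X.presheaf.map (homOfLE h1).op ra • res F inf_le_right s) =
        res F i.le (X.presheaf.map (homOfLE h2).op rb • res F inf_le_right s) := he
    rw [res_smul, res_smul, res_res] at he'
    have h3 : resFun X i.le (X.presheaf.map (homOfLE h1).op ra) =
        resFun X i.le (X.presheaf.map (homOfLE h2).op rb) := (hs W _).1 he'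
    have h4 := congrArg (X.presheaf.germ W x hxW).hom h3
    change X.presheaf.germ W x hxW (X.presheaf.map (homOfLE i.le).op _) =
      X.presheaf.germ W x hxW (X.presheaf.map (homOfLE i.le).op _) at h4
    simpa only [TopCat.Presheaf.germ_res_apply] using h4
  · obtain ⟨V, hxV, m, rfl⟩ := exists_germ F x v
    obtain ⟨r, hr⟩ := (hs (V ⊓ U) inf_le_right).2 (res F inf_le_left m)
    refine ⟨X.presheaf.germ (V ⊓ U) x ⟨hxV, hx⟩ r, ?_⟩
    have h := congrArg (germ F x (U := V ⊓ U) ⟨hxV, hx⟩) hr
    dsimp only at h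
    rw [germ_smul, germ_res] at h
    erw [germ_res] at h
    exact h

theorem gen_of_isStalkBasis {F : X.Modules} {U : X.Opens} {s : Γ(F, U)}
    (hs : ∀ (x : X) (hx : x ∈ U), IsStalkBasis F x (germ F x hx s)) : PicAux.Gen F U s := by
  intro V hV
  have hres : ∀ (x : X) (hx : x ∈ V), germ F x hx (PicAux.res F hV s) = germ F x (hV hx) s :=
    fun x hx => germ_res F hV x hx s
  refine ⟨fun a b hab => Divisors.section_ext fun x hx => (hs x (hV hx)).1 ?_, fun m => ?_⟩
  · have h := congrArg (germ F x hx) hab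
    dsimp only at h
    rwa [germ_smul, germ_smul, hres] at h
  · have key : ∀ x : V, ∃ (W : X.Opens) (_ : x.1 ∈ W) (hW : W ≤ V) (r : Γ(X, W)),
        ∀ (y : X) (hy : y ∈ W), X.presheaf.germ W y hy r • germ F y (hV (hW hy)) s =
          germ F y (hW hy) m := by
      intro x
      obtain ⟨a, ha⟩ := (hs x.1 (hV x.2)).2 (germ F x.1 x.2 m)
      obtain ⟨W, hxW, r, rfl⟩ := TopCat.Presheaf.exists_germ_eq X.presheaf a
      have hx' : x.1 ∈ W ⊓ V := ⟨hxW, x.2⟩
      dsimp only at ha
      rw [← TopCat.Presheaf.germ_res_apply X.presheaf (homOfLE (inf_le_left : W ⊓ V ≤ W)) x.1 hx' r,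
        ← germ_res F ((inf_le_right : W ⊓ V ≤ V).trans hV) x.1 hx' s,
        ← germ_res F (inf_le_right : W ⊓ V ≤ V) x.1 hx' m, ← germ_smul] at ha
      obtain ⟨W', hxW', i, j, he⟩ := F.presheaf.germ_eq x.1 hx' hx' _ _ ha
      refine ⟨W', hxW', i.le.trans inf_le_right,
        resFun X i.le (X.presheaf.map (homOfLE inf_le_left).op r), fun y hy => ?_⟩
      have he' : res F i.le (X.presheaf.map (homOfLE inf_le_left).op r •
          res F ((inf_le_right : W ⊓ V ≤ V).trans hV) s) =
          res F i.le (res F (inf_le_right : W ⊓ V ≤ V) m) := he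
      have h := congrArg (germ F y hy) he'
      rw [res_smul, germ_smul, germ_res, germ_res, germ_res, germ_res] at h
      exact h
    choose W hxW hWV r hr using key
    obtain ⟨t, ht, -⟩ := TopCat.Sheaf.existsUnique_gluing' X.sheaf W V (fun x => homOfLE (hWV x))
      (fun x hx => Opens.mem_iSup.2 ⟨⟨x, hx⟩, hxW _⟩) r fun x y => by
        refine Divisors.section_ext fun z hz => (hs z (hV (hWV x hz.1))).1 ?_
        change X.presheaf.germ _ z hz (X.presheaf.map _ (r x)) • _ =
          X.presheaf.germ _ z hz (X.presheaf.map _ (r y)) • _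
        rw [TopCat.Presheaf.germ_res_apply, TopCat.Presheaf.germ_res_apply, hr, hr]
    refine ⟨t, mod_section_ext F fun x hx => ?_⟩
    have e : X.presheaf.map (homOfLE (hWV ⟨x, hx⟩)).op t = r ⟨x, hx⟩ := ht ⟨x, hx⟩
    have e' := congrArg (X.presheaf.germ (W ⟨x, hx⟩) x (hxW _)).hom e
    rw [TopCat.Presheaf.germ_res_apply] at e'
    rw [germ_smul, hres, e']
    exact hr ⟨x, hx⟩ x (hxW _)

theorem gen_of_restrict {F : X.Modules} {U : X.Opens} {W : (U : Scheme.{u}).Opens}
    {s : Γ(F.restrict U.ι, W)} (hs : PicAux.Gen (F.restrict U.ι) W s) :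
    PicAux.Gen F (U.ι ''ᵁ W) (show Γ(F, U.ι ''ᵁ W) from s) := by
  intro V hV
  obtain ⟨V', rfl⟩ : ∃ V' : (U : Scheme.{u}).Opens, U.ι ''ᵁ V' = V :=
    ⟨U.ι ⁻¹ᵁ V, by
      rw [Scheme.Hom.image_preimage_eq_opensRange_inf, Scheme.Opens.opensRange_ι]
      exact inf_eq_right.mpr (hV.trans (Scheme.Opens.ι_image_le U W))⟩
  have hV' : V' ≤ W := fun y hy => by
    obtain ⟨y', hy', e⟩ := hV ⟨y, hy, rfl⟩
    exact U.ι.isOpenEmbedding.injective e ▸ hy'
  have h := hs V' hV'
  have e : (fun r : Γ(X, U.ι ''ᵁ V') => r • PicAux.res F hV (show Γ(F, U.ι ''ᵁ W) from s)) =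
      fun r : Γ(X, U.ι ''ᵁ V') =>
        ((HSMul.hSMul (α := Γ((U : Scheme.{u}), V')) (β := Γ(F.restrict U.ι, V')) r
          (PicAux.res (F.restrict U.ι) hV' s) : Γ(F.restrict U.ι, V')) : Γ(F, U.ι ''ᵁ V')) := by
    funext r
    rw [PicAux.restrict_smul]
    rfl
  rw [e]
  exact h

section Integral

variable [IsIntegral X]

/-- The generic stalk of a module of rank one has a basis. -/
def IsRankOne (F : X.Modules) : Prop :=
  ∃ w : F.presheaf.stalk (genericPoint ↥X), IsStalkBasis F (genericPoint ↥X) w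

theorem isRankOne_of_genInvertible {F : X.Modules} (hF : RefHull.GenInvertible F) : IsRankOne F := by
  obtain ⟨U, hU, hinv⟩ := hF
  have hη : genericPoint ↥X ∈ U :=
    ((genericPoint_spec ↥X).mem_open_set_iff U.2).mpr (by simpa using hU.nonempty)
  obtain ⟨W, s, hW, hs⟩ := (PicAux.isInvertible_iff_exists_gen _).1 hinv ⟨genericPoint ↥X, hη⟩
  exact ⟨_, isStalkBasis_germ_of_gen (gen_of_restrict hs) ⟨⟨genericPoint ↥X, hη⟩, hW, rfl⟩⟩

theorem IsRankOne.isStalkBasis {F : X.Modules} (hF : IsRankOne F)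
    {s : F.presheaf.stalk (genericPoint ↥X)} (hs : s ≠ 0) : IsStalkBasis F (genericPoint ↥X) s := by
  obtain ⟨w, hw⟩ := hF
  obtain ⟨c, hc⟩ := hw.2 s
  dsimp only at hc
  subst hc
  have hc : IsUnit c := isUnit_gen_iff.mpr fun h => hs (by rw [h, zero_smul])
  have e : (fun a : X.presheaf.stalk (genericPoint ↥X) => a • c • w) =
      (fun a => a • w) ∘ fun a => a * c := funext fun a => smul_smul a c w
  rw [IsStalkBasis, e]
  exact hw.comp ⟨hc.mul_left_injective, fun a => ⟨a * ↑hc.unit⁻¹, by
    dsimp only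
    rw [mul_assoc, IsUnit.val_inv_mul, mul_one]⟩⟩

variable [IsLocallyNoetherian X]

/-- A basis of a stalk of a coherent module generates the module nearby. -/
theorem exists_gen_of_isStalkBasis {F : X.Modules} (hF : Coh.IsCoh F) {x₀ : X}
    {w : F.presheaf.stalk x₀} (hw : IsStalkBasis F x₀ w) :
    ∃ (D : X.Opens) (s : Γ(F, D)), x₀ ∈ D ∧ PicAux.Gen F D s := by
  obtain ⟨U, hU, m, rfl⟩ := exists_germ F _ w
  have := hF.1
  obtain ⟨⟨W, hW'⟩, hxW, hle⟩ := Divisors.exists_affine_le (x₀) U hU
  dsimp only at hxW hle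
  have hW : IsAffineOpen W := hW'
  rw [← germ_res F hle _ hxW] at hw
  generalize res F hle m = n at hw
  have : IsNoetherianRing Γ(X, W) := IsLocallyNoetherian.component_noetherian ⟨W, hW⟩
  have : Module.Finite Γ(X, W) Γ(F, W) := finite_sections F hF.2 hW
  obtain ⟨T, hT⟩ := (inferInstance : Module.Finite Γ(X, W) Γ(F, W)).fg_top
  obtain ⟨N, hN⟩ := IsNoetherian.noetherian (LinearMap.ker (LinearMap.toSpanSingleton Γ(X, W) Γ(F, W) n))
  classical
  -- near the generic point every section is a multiple of `n`, and `n` has no annihilator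
  have h1 : ∀ t : Γ(F, W), ∃ a : Γ(X, W), x₀ ∈ X.basicOpen a ∧
      ∃ r : Γ(X, W), a • t = r • n := by
    intro t
    obtain ⟨c, hc⟩ := hw.2 (germ F _ hxW t)
    obtain ⟨r, b, hb, hbr⟩ := exists_mul_germ_eq hW hxW c
    dsimp only at hc
    have h0 : germ F _ hxW (b • t - r • n) = 0 := by
      rw [map_sub, germ_smul, germ_smul, ← hbr, ← hc, smul_smul, sub_self]
    obtain ⟨a, ha, ha0⟩ := exists_smul_eq_zero_of_germ_eq_zero F hW _ hxW _ h0
    refine ⟨a * b, by rw [Scheme.basicOpen_mul]; exact ⟨ha, hb⟩, a * r, ?_⟩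
    rw [mul_smul, mul_smul, ← sub_eq_zero, ← smul_sub, ha0]
  choose a ha r hr using h1
  have h2 : ∀ c ∈ (N : Set Γ(X, W)), X.presheaf.germ W _ hxW c = 0 := fun c hc => by
    have h := LinearMap.mem_ker.mp (hN.le (Submodule.subset_span hc))
    refine hw.1 ?_
    dsimp only
    rw [zero_smul, ← germ_smul, show c • n = 0 from h, map_zero]
  have h3 : ∀ c ∈ N, c = 0 := fun c hc =>
    germ_injective_of_isIntegral X _ hxW ((h2 c hc).trans (map_zero _).symm)
  let D := X.basicOpen (∏ t ∈ T, a t)
  have hD : x₀ ∈ D := by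
    rw [Scheme.mem_basicOpen X _ _ hxW, map_prod]
    exact IsUnit.prod_iff.mpr fun t _ => (Scheme.mem_basicOpen X (a t) _ hxW).mp (ha t)
  have hDW : D ≤ W := X.basicOpen_le _
  have hgen : PicAux.Gen F D (res F hDW n) := by
    refine gen_of_isStalkBasis fun x hx => ⟨?_, ?_⟩
    · intro p q hpq
      dsimp only at hpq
      rw [germ_res] at hpq
      obtain ⟨p₁, cp, hcp, hp⟩ := exists_mul_germ_eq hW (hDW hx) (p - q)
      have hu : IsUnit (X.presheaf.germ W x (hDW hx) cp) :=
        (Scheme.mem_basicOpen X cp x _).mp hcp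
      have h0 : germ F x (hDW hx) (p₁ • n) = 0 := by
        rw [germ_smul, ← hp, mul_smul, sub_smul, hpq, sub_self, smul_zero]
      obtain ⟨d, hd, hd0⟩ := exists_smul_eq_zero_of_germ_eq_zero F hW x _ _ h0
      have hker : d * p₁ ∈ Submodule.span Γ(X, W) (N : Set Γ(X, W)) :=
        hN.ge (LinearMap.mem_ker.mpr ((mul_smul d p₁ n).trans hd0))
      rw [Submodule.span_eq_bot.mpr h3, Submodule.mem_bot] at hker
      have h4 := congrArg (X.presheaf.germ W x (hDW hx)).hom hker
      rw [map_mul, map_zero] at h4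
      have h5 := ((Scheme.mem_basicOpen X d x _).mp hd).mul_right_eq_zero.mp h4
      rw [← hp] at h5
      exact sub_eq_zero.mp (hu.mul_right_eq_zero.mp h5)
    · intro v
      obtain ⟨c, t, hc, ht⟩ := exists_smul_germ_eq F hW x (hDW hx) v
      have htmem : t ∈ Submodule.span Γ(X, W) (T : Set Γ(F, W)) := hT ▸ trivial
      have key : germ F x (hDW hx) t ∈
          Submodule.span (X.presheaf.stalk x) {germ F x (hDW hx) n} := by
        clear ht hc
        induction htmem using Submodule.span_induction with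
        | mem t ht =>
          have hu : IsUnit (X.presheaf.germ W x (hDW hx) (a t)) := by
            have hx' := (Scheme.mem_basicOpen X _ x (hDW hx)).mp hx
            rw [map_prod, IsUnit.prod_iff] at hx'
            exact hx' t ht
          rw [Submodule.mem_span_singleton]
          refine ⟨↑hu.unit⁻¹ * X.presheaf.germ W x (hDW hx) (r t), ?_⟩
          rw [mul_smul, ← germ_smul, ← hr, germ_smul, smul_smul, IsUnit.val_inv_mul, one_smul]
        | zero => rw [map_zero]; exact Submodule.zero_mem _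
        | add y z _ _ hy hz => rw [map_add]; exact Submodule.add_mem _ hy hz
        | smul b y _ hy => rw [germ_smul]; exact Submodule.smul_mem _ _ hy
      obtain ⟨d, hd⟩ := Submodule.mem_span_singleton.mp key
      have hu : IsUnit (X.presheaf.germ W x (hDW hx) c) := (Scheme.mem_basicOpen X c x _).mp hc
      refine ⟨↑hu.unit⁻¹ * d, ?_⟩
      dsimp only
      rw [germ_res, mul_smul, hd, ← ht, smul_smul, IsUnit.val_inv_mul, one_smul]
  exact ⟨D, _, hD, hgen⟩

/-- A coherent module of rank one is invertible near the generic point. -/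
theorem genInvertible_of_isRankOne {F : X.Modules} (hF : Coh.IsCoh F) (h : IsRankOne F) :
    RefHull.GenInvertible F := by
  obtain ⟨w, hw⟩ := h
  obtain ⟨D, s, hD, hgen⟩ := exists_gen_of_isStalkBasis hF hw
  refine ⟨D, IsOpen.dense D.2 ⟨_, hD⟩, ?_⟩
  obtain ⟨e⟩ := (PicAux.nonempty_restrict_iso_iff D).2 ⟨_, hgen⟩
  exact PicAux.isInvertible_of_iso ((PicAux.isInvertible_iff_exists_gen _).2 fun x =>
    ⟨⊤, PicAux.oneSec _ ⊤, trivial, PicAux.gen_oneSec ⊤⟩) e.symm

/-- The stalk of a torsion free module of rank one at a point of codimension one of a normal scheme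
has a basis. -/
theorem exists_isStalkBasis (hX : Pi1.IsNormalScheme X) {F : X.Modules} (hF : Coh.IsCoh F)
    (hFr : RefHull.IsReflexive F) (h1 : IsRankOne F) {x : X}
    (hx : ringKrullDim (X.presheaf.stalk x) = 1) : ∃ t, IsStalkBasis F x t := by
  obtain ⟨w, hw⟩ := h1
  have := isDiscreteValuationRing_stalk hX hx
  have := finite_stalkModule hF x
  have hinj := mspec_gen_injective hF hFr x
  have : Module.IsTorsionFree (X.presheaf.stalk x) (F.presheaf.stalk x) :=
    Module.isTorsionFree_iff_smul_eq_zero.mpr fun r m h => by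
      refine or_iff_not_imp_left.mpr fun hr => hinj ?_
      have h' := congrArg (mspec F (genSpec x)) h
      rw [mspec_smul, map_zero] at h'
      rw [map_zero]
      exact (isUnit_gen_iff.mpr fun e => hr (rspec_gen_injective x (e.trans (map_zero _).symm))).smul_eq_zero.mp h'
  have : Module.Free (X.presheaf.stalk x) (F.presheaf.stalk x) := Module.free_of_finite_type_torsion_free'
  let b := Module.Free.chooseBasis (X.presheaf.stalk x) (F.presheaf.stalk x)
  have hsub : Subsingleton (Module.Free.ChooseBasisIndex (X.presheaf.stalk x) (F.presheaf.stalk x)) := by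
    refine ⟨fun i j => ?_⟩
    by_contra hij
    obtain ⟨ci, hci⟩ := hw.2 (mspec F (genSpec x) (b i))
    obtain ⟨cj, hcj⟩ := hw.2 (mspec F (genSpec x) (b j))
    dsimp only at hci hcj
    have hj : cj ≠ 0 := fun e => b.ne_zero j (hinj (by rw [← hcj, e, zero_smul, map_zero]))
    obtain ⟨p, q, hq, hpq⟩ := IsFractionRing.div_surjective (A := X.presheaf.stalk x)
      (show X.functionField from ci / cj)
    have hq' : (algebraMap (X.presheaf.stalk x) X.functionField q) ≠ 0 :=
      (map_ne_zero_iff _ (IsFractionRing.injective _ _)).mpr (nonZeroDivisors.ne_zero hq)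
    rw [div_eq_div_iff hq' hj] at hpq
    have h0 : q • b i - p • b j = 0 := by
      refine hinj ?_
      rw [map_sub, mspec_smul, mspec_smul, ← hci, ← hcj, smul_smul, smul_smul, map_zero, sub_eq_zero]
      refine congrArg (· • w) ?_
      exact (mul_comm _ _).trans hpq.symm
    have := congrArg (fun v => b.repr v i) h0
    simp [Finsupp.single_eq_of_ne hij] at this
    exact nonZeroDivisors.ne_zero hq this
  have hne : Nonempty (Module.Free.ChooseBasisIndex (X.presheaf.stalk x) (F.presheaf.stalk x)) := by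
    by_contra h
    rw [not_nonempty_iff] at h
    obtain ⟨c, v, hc, hv⟩ := (by
      have := hF.1
      exact exists_smul_eq_mspec F (genSpec x) w)
    have h0 : v = 0 := b.repr.injective (Subsingleton.elim _ _)
    rw [h0, map_zero] at hv
    have hw0 : w = 0 := hc.smul_eq_zero.mp hv
    exact one_ne_zero (hw.1 (a₁ := 1) (a₂ := 0) (by dsimp only; rw [hw0, smul_zero, smul_zero]))
  obtain ⟨i⟩ := hne
  refine ⟨b i, fun p q hpq => ?_, fun v => ⟨b.repr v i, ?_⟩⟩
  · simpa using congrArg (fun v => b.repr v i) hpq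
  · refine b.repr.injective (Finsupp.ext fun j => ?_)
    obtain rfl : j = i := Subsingleton.elim _ _
    simp

omit [IsLocallyNoetherian X] in
theorem mk_secFibre_injective (F : X.Modules) : Function.Injective
    (Submodule.Quotient.mk : F.presheaf.stalk (genericPoint ↥X) → Cyc.secFibre F (genericPoint ↥X)) := by
  intro v w h
  rw [Submodule.Quotient.eq, show IsLocalRing.maximalIdeal (X.presheaf.stalk (genericPoint ↥X)) = ⊥ from
    IsLocalRing.isField_iff_maximalIdeal_eq.mp (Field.toIsField X.functionField), Submodule.bot_smul,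
    Submodule.mem_bot] at h
  exact sub_eq_zero.mp h

omit [IsLocallyNoetherian X] in
theorem IsStalkBasis.isStalkBasis_gen {F : X.Modules} [F.IsQuasicoherent] {x : X}
    {t : F.presheaf.stalk x} (ht : IsStalkBasis F x t) :
    IsStalkBasis F (genericPoint ↥X) (mspec F (genSpec x) t) := by
  refine ⟨fun c d hcd => ?_, fun u => ?_⟩
  · dsimp only at hcd
    obtain ⟨p, q, hq, hpq⟩ := IsFractionRing.div_surjective (A := X.presheaf.stalk x)
      (show X.functionField from c - d)
    have hq' : (algebraMap (X.presheaf.stalk x) X.functionField q) ≠ 0 :=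
      (map_ne_zero_iff _ (IsFractionRing.injective _ _)).mpr (nonZeroDivisors.ne_zero hq)
    rw [div_eq_iff hq'] at hpq
    have hp : mspec F (genSpec x) (p • t) = 0 := by
      rw [mspec_smul, show rspec (genSpec x) p = (c - d) * rspec (genSpec x) q from hpq, mul_comm,
        mul_smul, sub_smul, hcd, sub_self, smul_zero]
    obtain ⟨a, ha, hap⟩ := exists_smul_eq_zero_of_mspec F (genSpec x) hp
    have hap' : a * p = 0 := ht.1 (by dsimp only; rw [mul_smul, hap, zero_smul])
    have hp0 : p = 0 := (mul_eq_zero.mp hap').resolve_left fun h =>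
      isUnit_gen_iff.mp ha (by rw [h, map_zero])
    rw [hp0, map_zero] at hpq
    exact sub_eq_zero.mp ((mul_eq_zero.mp hpq.symm).resolve_right hq')
  · obtain ⟨a, v, ha, hv⟩ := exists_smul_eq_mspec F (genSpec x) u
    obtain ⟨b, rfl⟩ := ht.2 v
    refine ⟨↑ha.unit⁻¹ * rspec (genSpec x) b, ?_⟩
    dsimp only at hv ⊢
    rw [mul_smul, ← mspec_smul, ← hv, smul_smul, IsUnit.val_inv_mul, one_smul]

/-- The order of a rational section computed with any basis of the stalk. -/
theorem secOrdAt_eq {F : X.Modules} [F.IsQuasicoherent] {x : X}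
    (hx : ringKrullDim (X.presheaf.stalk x) ≤ 1) (h : genericPoint ↥X ⤳ x)
    {t : F.presheaf.stalk x} (ht : IsStalkBasis F x t) (φ : X.functionField) :
    Cyc.secOrdAt F (genericPoint ↥X) x h
      (Submodule.Quotient.mk ((φ : X.presheaf.stalk (genericPoint ↥X)) • mspec F (genSpec x) t)) =
      ordK x φ := by
  have hex : ∃ t : F.presheaf.stalk x, Submodule.span (X.presheaf.stalk x) {t} = ⊤ :=
    ⟨t, ht.span_eq_top⟩
  unfold Cyc.secOrdAt
  rw [dif_pos hex]
  obtain ⟨b, hb⟩ : ∃ b, b • Classical.choose hex = t :=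
    Submodule.mem_span_singleton.mp (by rw [Classical.choose_spec hex]; trivial)
  obtain ⟨a, ha⟩ := ht.2 (Classical.choose hex)
  dsimp only at ha
  have hba : b * a = 1 := ht.1 (by dsimp only; rw [mul_smul, ha, hb, one_smul])
  have hau : IsUnit a := IsUnit.of_mul_eq_one_right b hba
  have hφ : ∃ ψ : X.presheaf.stalk (genericPoint ↥X),
      (Submodule.Quotient.mk ((φ : X.presheaf.stalk (genericPoint ↥X)) • mspec F (genSpec x) t) :
        Cyc.secFibre F (genericPoint ↥X)) =
      ψ • Submodule.Quotient.mk ((F.presheaf.stalkSpecializes h) (Classical.choose hex)) := by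
    refine ⟨(φ : X.presheaf.stalk (genericPoint ↥X)) * rspec (genSpec x) b, ?_⟩
    rw [← Submodule.Quotient.mk_smul, mul_smul]
    congr 2
    rw [← hb, mspec_smul]
  rw [dif_pos hφ, ordAt_residue hx]
  have e := Classical.choose_spec hφ
  generalize Classical.choose hφ = ψ at e ⊢
  rw [← Submodule.Quotient.mk_smul] at e
  have e' := mk_secFibre_injective F e
  rw [show F.presheaf.stalkSpecializes h (Classical.choose hex) =
    mspec F (genSpec x) (Classical.choose hex) from rfl, ← ha, mspec_smul, smul_smul] at e'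
  have hφe : φ = (show X.functionField from ψ * rspec (genSpec x) a) := ht.isStalkBasis_gen.1 e'
  rcases eq_or_ne (show X.functionField from ψ) 0 with h0 | h0
  · subst h0
    rw [hφe]
    exact congrArg (ordK x) (zero_mul _).symm
  · rw [hφe]
    change ordK x (show X.functionField from ψ) =
      ordK x ((show X.functionField from ψ) * (show X.functionField from rspec (genSpec x) a))
    rw [ordK_mul hx h0 (fun e => isUnit_gen_iff.mp (hau.map _) e)]
    have := ordK_of_isUnit hx hau
    linarith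

end Integral

end Groth.RefRank
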