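/-
Divisors of rational sections of rank one reflexive modules; the group law.
-/
import Groth.Agent.RefRank.Rank1
import Groth.Agent.QCohMod.Tensor
import Groth.Agent.PicAux.QCoh

universe u

open CategoryTheory CategoryTheory.Limits AlgebraicGeometry TopologicalSpace Opposite
open scoped TensorProduct

namespace Groth.RefRank

open Groth.QCohMod

variable {X : Scheme.{u}}

theorem isStalkBasis_tensor {F G : X.Modules} {x : X} {t : F.presheaf.stalk x}
    {u : G.presheaf.stalk x} (ht : IsStalkBasis F x t) (hu : IsStalkBasis G x u) :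
    IsStalkBasis (CohB1.tensorMod F G) x (stalkTensorEquiv F G x (t ⊗ₜ u)) := by
  let et := LinearEquiv.ofBijective (LinearMap.toSpanSingleton (X.presheaf.stalk x) _ t) ht
  let eu := LinearEquiv.ofBijective (LinearMap.toSpanSingleton (X.presheaf.stalk x) _ u) hu
  let e := (TensorProduct.lid (X.presheaf.stalk x) (X.presheaf.stalk x)).symm.trans
    ((TensorProduct.congr et eu).trans (stalkTensorEquiv F G x))
  have he : (e : X.presheaf.stalk x → (CohB1.tensorMod F G).presheaf.stalk x) =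
      fun a => a • stalkTensorEquiv F G x (t ⊗ₜ u) := by
    funext a
    simp only [e, LinearEquiv.trans_apply, TensorProduct.lid_symm_apply, TensorProduct.congr_tmul]
    rw [show et 1 = t from one_smul (X.presheaf.stalk x) t, show eu a = a • u from rfl, TensorProduct.tmul_smul, map_smul]
  rw [IsStalkBasis, ← he]
  exact e.bijective

theorem mspec_stalkTensorEquiv {F G : X.Modules} {x y : X} (h : y ⤳ x) (t : F.presheaf.stalk x)
    (u : G.presheaf.stalk x) :
    mspec (CohB1.tensorMod F G) h (stalkTensorEquiv F G x (t ⊗ₜ u)) =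
      stalkTensorEquiv F G y (mspec F h t ⊗ₜ mspec G h u) := by
  obtain ⟨W, hx, a, b, rfl, rfl⟩ := exists_common_germ x t u
  rw [stalkTensorEquiv_tmul, mspec_germ, mspec_germ, mspec_germ, stalkTensorEquiv_tmul]

theorem isCoh_tensorMod {F G : X.Modules} (hF : Coh.IsCoh F) (hG : Coh.IsCoh G) :
    Coh.IsCoh (CohB1.tensorMod F G) :=
  haveI := hF.1
  haveI := hG.1
  ⟨isQCoh_tensorMod, isFT_tensorMod hF.2 hG.2⟩

theorem cl_eq_iff {L M : X.Modules} : PicF.cl L = PicF.cl M ↔ Nonempty (L ≅ M) := by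
  refine ⟨fun h => ?_, fun h => Quot.sound h⟩
  have key : ∀ {A B : X.Modules}, Relation.EqvGen (fun L L' : X.Modules => Nonempty (L ≅ L')) A B →
      Nonempty (A ≅ B) := by
    intro A B h
    induction h with
    | rel _ _ h => exact h
    | refl _ => exact ⟨Iso.refl _⟩
    | symm _ _ _ h => exact h.map Iso.symm
    | trans _ _ _ _ _ h₁ h₂ => exact ⟨h₁.some.trans h₂.some⟩
  exact key (Quot.eqvGen_exact h)

variable [IsIntegral X] [IsLocallyNoetherian X]

/-- The order of a rational section at `x`. -/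
noncomputable def ordSec (F : X.Modules) (x : X) (w : F.presheaf.stalk (genericPoint ↥X)) : ℤ :=
  Cyc.secOrdAt F (genericPoint ↥X) x (genSpec x) (Submodule.Quotient.mk w)

theorem ordSec_eq {F : X.Modules} [F.IsQuasicoherent] {x : X}
    (hx : ringKrullDim (X.presheaf.stalk x) ≤ 1) {t : F.presheaf.stalk x} (ht : IsStalkBasis F x t)
    {φ : X.presheaf.stalk (genericPoint ↥X)} {w : F.presheaf.stalk (genericPoint ↥X)}
    (h : φ • mspec F (genSpec x) t = w) : ordSec F x w = ordK x (show X.functionField from φ) := by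
  subst h
  exact secOrdAt_eq hx _ ht φ

theorem exists_coeff {F : X.Modules} [F.IsQuasicoherent] {x : X} {t : F.presheaf.stalk x}
    (ht : IsStalkBasis F x t) {w : F.presheaf.stalk (genericPoint ↥X)} (hw : w ≠ 0) :
    ∃ φ : X.presheaf.stalk (genericPoint ↥X), φ ≠ 0 ∧ φ • mspec F (genSpec x) t = w := by
  obtain ⟨φ, hφ⟩ := ht.isStalkBasis_gen.2 w
  exact ⟨φ, fun e => hw (by rw [← hφ, e]; exact zero_smul _ _), hφ⟩

/-- `w` is a nonzero rational section of `F` with divisor `d`. -/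
def HasDiv (F : X.Modules) (d : X → ℤ) : Prop :=
  ∃ w : F.presheaf.stalk (genericPoint ↥X), w ≠ 0 ∧
    ∀ y : X, ringKrullDim (X.presheaf.stalk y) = 1 → ordSec F y w = d y

theorem exists_isStalkBasis_of_isInvertible {L : X.Modules} (hL : PicF.IsInvertible L) (x : X) :
    ∃ t, IsStalkBasis L x t := by
  obtain ⟨U, s, hx, hs⟩ := (PicAux.isInvertible_iff_exists_gen L).1 hL x
  exact ⟨_, isStalkBasis_germ_of_gen hs hx⟩

theorem isUnit_rspec {x : X} {a : X.presheaf.stalk x} (ha : IsUnit a) :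
    IsUnit (rspec (genSpec x) a) := ha.map _

/-- Orders are additive on tensor products. -/
theorem ordSec_tensor {F G : X.Modules} [F.IsQuasicoherent] [G.IsQuasicoherent] {x : X}
    (hx : ringKrullDim (X.presheaf.stalk x) ≤ 1) {t : F.presheaf.stalk x} (ht : IsStalkBasis F x t)
    {u : G.presheaf.stalk x} (hu : IsStalkBasis G x u) {s : F.presheaf.stalk (genericPoint ↥X)}
    (hs : s ≠ 0) {r : G.presheaf.stalk (genericPoint ↥X)} (hr : r ≠ 0) :
    ordSec (CohB1.tensorMod F G) x (stalkTensorEquiv F G _ (s ⊗ₜ r)) = ordSec F x s + ordSec G x r := by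
  have := isQCoh_tensorMod (M := F) (N := G)
  obtain ⟨φ, hφ, rfl⟩ := exists_coeff ht hs
  obtain ⟨ψ, hψ, rfl⟩ := exists_coeff hu hr
  rw [ordSec_eq hx ht rfl, ordSec_eq hx hu rfl,
    ordSec_eq hx (isStalkBasis_tensor ht hu) (φ := φ * ψ) (by
      rw [mspec_stalkTensorEquiv, ← map_smul, TensorProduct.smul_tmul', TensorProduct.tmul_smul,
        TensorProduct.smul_tmul', mul_smul, smul_comm φ ψ, ← smul_assoc])]
  exact ordK_mul hx hφ hψ

theorem stalkTensor_ne_zero {F G : X.Modules} (hF : IsRankOne F) (hG : IsRankOne G)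
    {s : F.presheaf.stalk (genericPoint ↥X)} (hs : s ≠ 0) {r : G.presheaf.stalk (genericPoint ↥X)}
    (hr : r ≠ 0) : stalkTensorEquiv F G _ (s ⊗ₜ r) ≠ 0 := fun h => by
  have hb := isStalkBasis_tensor (hF.isStalkBasis hs) (hG.isStalkBasis hr)
  exact one_ne_zero (hb.1 (a₁ := 1) (a₂ := 0) (by dsimp only; rw [h, smul_zero, smul_zero]))

theorem isRankOne_ddual {F : X.Modules} (hF : Coh.IsCoh F) (h : IsRankOne F) :
    IsRankOne (RefHull.ddual F) := by
  obtain ⟨w, hw⟩ := h
  refine ⟨RefHull.stalkMapₗ (RefHull.bidualMap F) _ w, ?_⟩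
  have e : (fun a : X.presheaf.stalk (genericPoint ↥X) =>
      a • RefHull.stalkMapₗ (RefHull.bidualMap F) _ w) =
      RefHull.stalkMapₗ (RefHull.bidualMap F) _ ∘ fun a => a • w := funext fun a => (map_smul _ a w).symm
  rw [IsStalkBasis, e]
  exact (bidual_gen_bijective hF).comp hw

theorem isStalkBasis_bidual (hX : Pi1.IsNormalScheme X) {F : X.Modules} (hF : Coh.IsCoh F) {x : X}
    (hx : ringKrullDim (X.presheaf.stalk x) = 1) {t : F.presheaf.stalk x} (ht : IsStalkBasis F x t) :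
    IsStalkBasis (RefHull.ddual F) x (RefHull.stalkMapₗ (RefHull.bidualMap F) x t) := by
  have := isDiscreteValuationRing_stalk hX hx
  have := hF.1
  refine ⟨fun a b hab => ?_, fun v => ?_⟩
  · refine rspec_gen_injective x (ht.isStalkBasis_gen.1 ((bidual_gen_bijective hF).1 ?_))
    have h := congrArg (mspec (RefHull.ddual F) (genSpec x)) hab
    dsimp only at h ⊢
    rw [mspec_smul, mspec_smul, ← stalkMapₗ_mspec] at h
    rw [map_smul, map_smul]
    exact h
  · obtain ⟨u, rfl⟩ := bidual_surjective_of_pid hF x v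
    obtain ⟨a, rfl⟩ := ht.2 u
    exact ⟨a, (map_smul _ a t).symm⟩

theorem ordSec_bidual (hX : Pi1.IsNormalScheme X) {F : X.Modules} (hF : Coh.IsCoh F) {x : X}
    (hx : ringKrullDim (X.presheaf.stalk x) = 1) {t : F.presheaf.stalk x} (ht : IsStalkBasis F x t)
    {w : F.presheaf.stalk (genericPoint ↥X)} (hw : w ≠ 0) :
    ordSec (RefHull.ddual F) x (RefHull.stalkMapₗ (RefHull.bidualMap F) _ w) = ordSec F x w := by
  have := hF.1
  have := (isCoh_ddual hF).1
  obtain ⟨φ, -, rfl⟩ := exists_coeff ht hw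
  rw [ordSec_eq hx.le ht rfl, ordSec_eq hx.le (isStalkBasis_bidual hX hF hx ht) (φ := φ) (by
    rw [map_smul, stalkMapₗ_mspec])]

theorem isRef1_of {F : X.Modules} (hF : Coh.IsCoh F) (hr : RefHull.IsReflexive F) (h : IsRankOne F) :
    RefHull.IsRef1 F := ⟨hF, hr, genInvertible_of_isRankOne hF h⟩

theorem isRankOne_tensor {F G : X.Modules} (hF : IsRankOne F) (hG : IsRankOne G) :
    IsRankOne (CohB1.tensorMod F G) :=
  ⟨_, isStalkBasis_tensor hF.choose_spec hG.choose_spec⟩

theorem isRef1_refTensor {F G : X.Modules} (hF : RefHull.IsRef1 F) (hG : RefHull.IsRef1 G) :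
    RefHull.IsRef1 (RefHull.ddual (CohB1.tensorMod F G)) :=
  have h := isCoh_tensorMod hF.1 hG.1
  isRef1_of (isCoh_ddual h) (isReflexive_ddual h)
    (isRankOne_ddual h (isRankOne_tensor (isRankOne_of_genInvertible hF.2.2)
      (isRankOne_of_genInvertible hG.2.2)))

theorem refTensor_ord (hX : Pi1.IsNormalScheme X) {F G : X.Modules} (hF : RefHull.IsRef1 F)
    (hG : RefHull.IsRef1 G) {s : F.presheaf.stalk (genericPoint ↥X)} (hs : s ≠ 0)
    {r : G.presheaf.stalk (genericPoint ↥X)} (hr : r ≠ 0) :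
    ∃ w : (RefHull.ddual (CohB1.tensorMod F G)).presheaf.stalk (genericPoint ↥X), w ≠ 0 ∧
      ∀ x, ringKrullDim (X.presheaf.stalk x) = 1 →
        ordSec (RefHull.ddual (CohB1.tensorMod F G)) x w = ordSec F x s + ordSec G x r := by
  have h := isCoh_tensorMod hF.1 hG.1
  have := hF.1.1
  have := hG.1.1
  have hne := stalkTensor_ne_zero (isRankOne_of_genInvertible hF.2.2)
    (isRankOne_of_genInvertible hG.2.2) hs hr
  refine ⟨_, fun e => hne ((bidual_gen_bijective h).1 (e.trans (map_zero _).symm)), fun x hx => ?_⟩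
  obtain ⟨t, ht⟩ := exists_isStalkBasis hX hF.1 hF.2.1 (isRankOne_of_genInvertible hF.2.2) hx
  obtain ⟨u, hu⟩ := exists_isStalkBasis hX hG.1 hG.2.1 (isRankOne_of_genInvertible hG.2.2) hx
  rw [ordSec_bidual hX h hx (isStalkBasis_tensor ht hu) hne, ordSec_tensor hx.le ht hu hs hr]

theorem mspec_mapsTo_of_ord (hX : Pi1.IsNormalScheme X) {F G : X.Modules} [F.IsQuasicoherent]
    [G.IsQuasicoherent] {y : X} (hy : ringKrullDim (X.presheaf.stalk y) = 1)
    {t : F.presheaf.stalk y} (ht : IsStalkBasis F y t) {u : G.presheaf.stalk y}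
    (hu : IsStalkBasis G y u) {s : F.presheaf.stalk (genericPoint ↥X)} (hs : s ≠ 0)
    {r : G.presheaf.stalk (genericPoint ↥X)} (hr : r ≠ 0)
    (T : F.presheaf.stalk (genericPoint ↥X) →ₗ[X.presheaf.stalk (genericPoint ↥X)]
      G.presheaf.stalk (genericPoint ↥X)) (hT : T s = r) (hord : ordSec F y s = ordSec G y r) :
    Set.MapsTo T (Set.range (mspec F (genSpec y))) (Set.range (mspec G (genSpec y))) := by
  obtain ⟨φ, hφ, rfl⟩ := exists_coeff ht hs
  obtain ⟨ψ, hψ, rfl⟩ := exists_coeff hu hr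
  rw [ordSec_eq hy.le ht rfl, ordSec_eq hy.le hu rfl] at hord
  have hz : (show X.functionField from ψ) * (show X.functionField from φ)⁻¹ ≠ 0 :=
    mul_ne_zero hψ (inv_ne_zero hφ)
  obtain ⟨a, -, ha⟩ := exists_unit_of_ordK_eq_zero hX hy hz
    (by rw [ordK_mul hy.le hψ (inv_ne_zero hφ), ordK_inv hy.le hφ, hord, add_neg_cancel])
  have hTt : T (mspec F (genSpec y) t) = mspec G (genSpec y) (a • u) := by
    refine (isUnit_gen_iff.mpr hφ).smul_left_cancel.mp ?_
    rw [← map_smul, hT, mspec_smul, smul_smul]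
    congr 1
    have e : (show X.functionField from φ) * ((show X.functionField from ψ) *
        (show X.functionField from φ)⁻¹) = (show X.functionField from ψ) := by
      rw [mul_comm, mul_assoc, inv_mul_cancel₀ hφ, mul_one]
    rw [← ha] at e
    exact e.symm
  rintro _ ⟨v, rfl⟩
  obtain ⟨c, rfl⟩ := ht.2 v
  exact ⟨c • a • u, by rw [mspec_smul, ← hTt, mspec_smul, map_smul]⟩

/-- Rank one reflexive modules with rational sections having the same divisor are isomorphic. -/
theorem nonempty_iso_of_ord (hX : Pi1.IsNormalScheme X) {F G : X.Modules} (hF : RefHull.IsRef1 F)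
    (hG : RefHull.IsRef1 G) {s : F.presheaf.stalk (genericPoint ↥X)} (hs : s ≠ 0)
    {r : G.presheaf.stalk (genericPoint ↥X)} (hr : r ≠ 0)
    (h : ∀ y, ringKrullDim (X.presheaf.stalk y) = 1 → ordSec F y s = ordSec G y r) :
    Nonempty (F ≅ G) := by
  have := hF.1.1
  have := hG.1.1
  have h1F := isRankOne_of_genInvertible hF.2.2
  have h1G := isRankOne_of_genInvertible hG.2.2
  let es := LinearEquiv.ofBijective
    (LinearMap.toSpanSingleton (X.presheaf.stalk (genericPoint ↥X)) _ s) (h1F.isStalkBasis hs)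
  let er := LinearEquiv.ofBijective
    (LinearMap.toSpanSingleton (X.presheaf.stalk (genericPoint ↥X)) _ r) (h1G.isStalkBasis hr)
  let T := es.symm.trans er
  have hTs : T s = r := by
    have e : es.symm s = 1 := by
      rw [LinearEquiv.symm_apply_eq]; exact (one_smul (X.presheaf.stalk (genericPoint ↥X)) s).symm
    change er (es.symm s) = r
    rw [e]; exact one_smul (X.presheaf.stalk (genericPoint ↥X)) r
  have hTr : T.symm r = s := by rw [LinearEquiv.symm_apply_eq, hTs]
  obtain ⟨ψ, hψ⟩ := exists_hom_of_codim_one hX hG.1 hG.2.1 T.toLinearMap fun y hy => by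
    obtain ⟨t, ht⟩ := exists_isStalkBasis hX hF.1 hF.2.1 h1F hy
    obtain ⟨u, hu⟩ := exists_isStalkBasis hX hG.1 hG.2.1 h1G hy
    exact mspec_mapsTo_of_ord hX hy ht hu hs hr T.toLinearMap hTs (h y hy)
  obtain ⟨ψ', hψ'⟩ := exists_hom_of_codim_one hX hF.1 hF.2.1 T.symm.toLinearMap fun y hy => by
    obtain ⟨t, ht⟩ := exists_isStalkBasis hX hF.1 hF.2.1 h1F hy
    obtain ⟨u, hu⟩ := exists_isStalkBasis hX hG.1 hG.2.1 h1G hy
    exact mspec_mapsTo_of_ord hX hy hu ht hr hs T.symm.toLinearMap hTr (h y hy).symm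
  have hcomp : ∀ {A B C : X.Modules} (f : A ⟶ B) (g : B ⟶ C) (v : A.presheaf.stalk (genericPoint ↥X)),
      RefHull.stalkMapₗ (f ≫ g) _ v = RefHull.stalkMapₗ g _ (RefHull.stalkMapₗ f _ v) := by
    intro A B C f g v
    obtain ⟨U, hU, m, rfl⟩ := exists_germ A _ v
    erw [RefHull.stalkMapₗ_germ, RefHull.stalkMapₗ_germ, RefHull.stalkMapₗ_germ]
    rfl
  have hid : ∀ {A : X.Modules} (v : A.presheaf.stalk (genericPoint ↥X)),
      RefHull.stalkMapₗ (𝟙 A) _ v = v := by
    intro A v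
    obtain ⟨U, hU, m, rfl⟩ := exists_germ A _ v
    erw [RefHull.stalkMapₗ_germ]
    rfl
  refine ⟨⟨ψ, ψ', hom_ext_gen (mspec_gen_injective hF.1 hF.2.1) (LinearMap.ext fun v => ?_),
    hom_ext_gen (mspec_gen_injective hG.1 hG.2.1) (LinearMap.ext fun v => ?_)⟩⟩
  · rw [hcomp, hid, hψ, hψ']; exact T.symm_apply_apply v
  · rw [hcomp, hid, hψ, hψ']; exact T.apply_symm_apply v

omit [IsLocallyNoetherian X] in
theorem isStalkBasis_map {F G : X.Modules} (e : F ≅ G) {x : X} {t : F.presheaf.stalk x}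
    (ht : IsStalkBasis F x t) : IsStalkBasis G x (RefHull.stalkMapₗ e.hom x t) := by
  have he := (isIso_iff_bijective_stalk e.hom).mp inferInstance x
  have : (fun a : X.presheaf.stalk x => a • RefHull.stalkMapₗ e.hom x t) =
      RefHull.stalkMapₗ e.hom x ∘ fun a => a • t := funext fun a => (map_smul _ a t).symm
  rw [IsStalkBasis, this]
  exact he.comp ht

theorem ordSec_iso {F G : X.Modules} [F.IsQuasicoherent] [G.IsQuasicoherent] (e : F ≅ G) {x : X}
    (hx : ringKrullDim (X.presheaf.stalk x) ≤ 1) {t : F.presheaf.stalk x} (ht : IsStalkBasis F x t)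
    {w : F.presheaf.stalk (genericPoint ↥X)} (hw : w ≠ 0) :
    ordSec G x (RefHull.stalkMapₗ e.hom _ w) = ordSec F x w := by
  obtain ⟨φ, -, rfl⟩ := exists_coeff ht hw
  rw [ordSec_eq hx ht rfl, ordSec_eq hx (isStalkBasis_map e ht) (φ := φ) (by
    rw [map_smul, stalkMapₗ_mspec])]

theorem ordSec_smul {F : X.Modules} [F.IsQuasicoherent] {x : X}
    (hx : ringKrullDim (X.presheaf.stalk x) ≤ 1) {t : F.presheaf.stalk x} (ht : IsStalkBasis F x t)
    {w : F.presheaf.stalk (genericPoint ↥X)} (hw : w ≠ 0)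
    {f : X.presheaf.stalk (genericPoint ↥X)} (hf : f ≠ 0) :
    ordSec F x (f • w) = ordK x (show X.functionField from f) + ordSec F x w := by
  obtain ⟨φ, hφ, rfl⟩ := exists_coeff ht hw
  rw [ordSec_eq hx ht rfl, ordSec_eq hx ht (φ := f * φ) (mul_smul f φ _)]
  exact ordK_mul hx hf hφ

/-- Rank one reflexive modules are isomorphic iff divisors of rational sections are linearly
equivalent. -/
theorem nonempty_iso_iff (hX : Pi1.IsNormalScheme X) {F G : X.Modules} (hF : RefHull.IsRef1 F)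
    (hG : RefHull.IsRef1 G) {s : F.presheaf.stalk (genericPoint ↥X)} (hs : s ≠ 0)
    {r : G.presheaf.stalk (genericPoint ↥X)} (hr : r ≠ 0) :
    Nonempty (F ≅ G) ↔ ∃ f : X.functionField, f ≠ 0 ∧
      ∀ y, ringKrullDim (X.presheaf.stalk y) = 1 → ordSec F y s = ordSec G y r + ordK y f := by
  have := hF.1.1
  have := hG.1.1
  have h1F := isRankOne_of_genInvertible hF.2.2
  have h1G := isRankOne_of_genInvertible hG.2.2
  constructor
  · rintro ⟨e⟩
    obtain ⟨f, hf⟩ := (h1G.isStalkBasis hr).2 (RefHull.stalkMapₗ e.hom _ s)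
    have hinj := ((isIso_iff_bijective_stalk e.hom).mp inferInstance (genericPoint ↥X)).1
    have hf0 : f ≠ 0 := fun h => hs (hinj (by rw [map_zero, ← hf, h]; exact zero_smul _ r))
    refine ⟨f, hf0, fun y hy => ?_⟩
    obtain ⟨t, ht⟩ := exists_isStalkBasis hX hF.1 hF.2.1 h1F hy
    obtain ⟨u, hu⟩ := exists_isStalkBasis hX hG.1 hG.2.1 h1G hy
    dsimp only at hf
    rw [← ordSec_iso e hy.le ht hs, ← hf, ordSec_smul hy.le hu hr hf0, add_comm]
  · rintro ⟨f, hf, h⟩
    have hf' : (show X.presheaf.stalk (genericPoint ↥X) from f) ≠ 0 := hf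
    refine nonempty_iso_of_ord hX hF hG hs
      (r := (show X.presheaf.stalk (genericPoint ↥X) from f) • r)
      (fun e => hr ((isUnit_gen_iff.mpr hf').smul_eq_zero.mp e)) fun y hy => ?_
    obtain ⟨u, hu⟩ := exists_isStalkBasis hX hG.1 hG.2.1 h1G hy
    rw [ordSec_smul hy.le hu hr hf', h y hy, add_comm]

theorem mspec_oneGerm {x y : X} (h : y ⤳ x) :
    mspec (Coh.structureModule X) h (oneGerm x) = oneGerm y :=
  mspec_germ _ h (U := ⊤) trivial _

theorem isStalkBasis_oneGerm (x : X) : IsStalkBasis (Coh.structureModule X) x (oneGerm x) :=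
  (oneEquiv x).bijective

theorem dualEquiv_mspec {F : X.Modules} (hF : Coh.IsCoh F) {x y : X} (h : y ⤳ x)
    (θ : (RefHull.dual F).presheaf.stalk x) (v : F.presheaf.stalk x) :
    dualEquiv hF y (mspec (RefHull.dual F) h θ) (mspec F h v) = rspec h (dualEquiv hF x θ v) := by
  refine (oneEquiv y).injective ?_
  rw [oneEquiv_dualEquiv, oneEquiv_apply, ← mspec_oneGerm h, ← mspec_smul, ← oneEquiv_apply,
    oneEquiv_dualEquiv]
  obtain ⟨W₀, hx₀, g₀, rfl⟩ := exists_germ (RefHull.dual F) x θ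
  obtain ⟨V, hxV, m₀, rfl⟩ := exists_germ F x v
  have hxW : x ∈ W₀ ⊓ V := ⟨hx₀, hxV⟩
  rw [← germ_res (RefHull.dual F) (inf_le_left : W₀ ⊓ V ≤ W₀) x hxW g₀,
    ← germ_res F (inf_le_right : W₀ ⊓ V ≤ V) x hxW m₀, mspec_germ, mspec_germ]
  generalize res (RefHull.dual F) (inf_le_left : W₀ ⊓ V ≤ W₀) g₀ = g
  generalize res F (inf_le_right : W₀ ⊓ V ≤ V) m₀ = m
  erw [RefHull.evalStalk_germ, RefHull.evalStalk_germ]
  rw [← germ_secToLin, ← germ_secToLin, mspec_germ]

theorem exists_dual_basis {F : X.Modules} (hF : Coh.IsCoh F) {x : X} {t : F.presheaf.stalk x}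
    (ht : IsStalkBasis F x t) :
    ∃ θ, IsStalkBasis (RefHull.dual F) x θ ∧ dualEquiv hF x θ t = 1 := by
  let et := LinearEquiv.ofBijective (LinearMap.toSpanSingleton (X.presheaf.stalk x) _ t) ht
  let ed : X.presheaf.stalk x ≃ₗ[X.presheaf.stalk x] (RefHull.dual F).presheaf.stalk x :=
    (LinearMap.ringLmapEquivSelf (X.presheaf.stalk x) (X.presheaf.stalk x) (X.presheaf.stalk x)).symm.trans
      (et.symm.dualMap.symm.symm.trans (dualEquiv hF x).symm)
  refine ⟨ed 1, ?_, ?_⟩
  · have : (fun a : X.presheaf.stalk x => a • ed 1) = ed := funext fun a => by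
      rw [← map_smul, smul_eq_mul, mul_one]
    rw [IsStalkBasis, this]
    exact ed.bijective
  · have e : et.symm t = 1 := by
      rw [LinearEquiv.symm_apply_eq]; exact (one_smul (X.presheaf.stalk x) t).symm
    simp only [ed, LinearEquiv.trans_apply, LinearEquiv.apply_symm_apply]
    simp [e]

theorem isRef1_dual {F : X.Modules} (hF : RefHull.IsRef1 F) : RefHull.IsRef1 (RefHull.dual F) := by
  obtain ⟨w, hw⟩ := isRankOne_of_genInvertible hF.2.2
  obtain ⟨θ, hθ, -⟩ := exists_dual_basis hF.1 hw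
  exact isRef1_of (isCoh_dual hF.1) (isReflexive_dual hF.1) ⟨θ, hθ⟩

theorem hasDiv_dual (hX : Pi1.IsNormalScheme X) {F : X.Modules} (hF : RefHull.IsRef1 F) {d : X → ℤ}
    (h : HasDiv F d) : HasDiv (RefHull.dual F) (fun y => - d y) := by
  obtain ⟨s, hs, hd⟩ := h
  have := hF.1.1
  have := (isCoh_dual hF.1).1
  obtain ⟨θ, hθ, hθ1⟩ := exists_dual_basis hF.1 ((isRankOne_of_genInvertible hF.2.2).isStalkBasis hs)
  refine ⟨θ, fun e => one_ne_zero (hθ1.symm.trans (by rw [e, map_zero]; rfl)), fun y hy => ?_⟩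
  obtain ⟨t, ht⟩ := exists_isStalkBasis hX hF.1 hF.2.1 (isRankOne_of_genInvertible hF.2.2) hy
  obtain ⟨θ', hθ', hθ'1⟩ := exists_dual_basis hF.1 ht
  obtain ⟨φ, hφ, hφs⟩ := exists_coeff ht hs
  obtain ⟨c, hc⟩ := hθ'.isStalkBasis_gen.2 θ
  have hc' : φ * c = 1 := by
    dsimp only at hc
    rw [← hθ1, ← hφs, ← hc, map_smul, map_smul, LinearMap.smul_apply, dualEquiv_mspec, hθ'1, map_one,
      smul_eq_mul, smul_eq_mul, mul_one]
  dsimp only
  rw [ordSec_eq hy.le hθ' hc, ← hd y hy, ← hφs, ordSec_eq hy.le ht rfl]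
  have hcinv : (show X.functionField from c) = (show X.functionField from φ)⁻¹ :=
    eq_inv_of_mul_eq_one_right hc'
  rw [hcinv, ordK_inv hy.le hφ]

theorem hasDiv_refTensor (hX : Pi1.IsNormalScheme X) {F G : X.Modules} (hF : RefHull.IsRef1 F)
    (hG : RefHull.IsRef1 G) {d e : X → ℤ} (h : HasDiv F d) (h' : HasDiv G e) :
    HasDiv (RefHull.ddual (CohB1.tensorMod F G)) (fun y => d y + e y) := by
  obtain ⟨s, hs, hd⟩ := h
  obtain ⟨r, hr, he⟩ := h'
  obtain ⟨w, hw, hwd⟩ := refTensor_ord hX hF hG hs hr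
  exact ⟨w, hw, fun y hy => by rw [hwd y hy, hd y hy, he y hy]⟩

theorem hasDiv_structure : HasDiv (Coh.structureModule X) (fun _ => 0) := by
  refine ⟨oneGerm _, fun e => one_ne_zero ((isStalkBasis_oneGerm _).1 (a₁ := 1) (a₂ := 0)
    (by dsimp only; rw [e, smul_zero, smul_zero])), fun y hy => ?_⟩
  rw [ordSec_eq hy.le (isStalkBasis_oneGerm y) (φ := 1) (by rw [one_smul, mspec_oneGerm])]
  exact ordK_one hy.le

theorem exists_hasDiv {F : X.Modules} (hF : RefHull.IsRef1 F) : ∃ d, HasDiv F d := by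
  obtain ⟨w, hw⟩ := isRankOne_of_genInvertible hF.2.2
  exact ⟨fun y => ordSec F y w, w, fun e => one_ne_zero (hw.1 (a₁ := 1) (a₂ := 0)
    (by dsimp only; rw [e, smul_zero, smul_zero])), fun _ _ => rfl⟩

theorem nonempty_iso_of_hasDiv (hX : Pi1.IsNormalScheme X) {F G : X.Modules} (hF : RefHull.IsRef1 F)
    (hG : RefHull.IsRef1 G) {d : X → ℤ} (h : HasDiv F d) (h' : HasDiv G d) : Nonempty (F ≅ G) := by
  obtain ⟨s, hs, hd⟩ := h
  obtain ⟨r, hr, he⟩ := h'
  exact nonempty_iso_of_ord hX hF hG hs hr fun y hy => (hd y hy).trans (he y hy).symm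

theorem hasDiv_iso (hX : Pi1.IsNormalScheme X) {F G : X.Modules} (hF : RefHull.IsRef1 F)
    (hG : RefHull.IsRef1 G) (e : F ≅ G) {d : X → ℤ} (h : HasDiv F d) : HasDiv G d := by
  obtain ⟨s, hs, hd⟩ := h
  have := hF.1.1
  have := hG.1.1
  have hinj := ((isIso_iff_bijective_stalk e.hom).mp inferInstance (genericPoint ↥X)).1
  refine ⟨RefHull.stalkMapₗ e.hom _ s, fun h => hs (hinj (h.trans (map_zero _).symm)), fun y hy => ?_⟩
  obtain ⟨t, ht⟩ := exists_isStalkBasis hX hF.1 hF.2.1 (isRankOne_of_genInvertible hF.2.2) hy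
  rw [ordSec_iso e hy.le ht hs, hd y hy]

theorem isRef1_structure : RefHull.IsRef1 (Coh.structureModule X) :=
  isRef1_of isCoh_unit isReflexive_structureModule ⟨_, isStalkBasis_oneGerm _⟩

omit [IsLocallyNoetherian X] in
theorem eq_zero_of_mk_eq_zero {F : X.Modules} {w : F.presheaf.stalk (genericPoint ↥X)}
    (h : (Submodule.Quotient.mk w : Cyc.secFibre F (genericPoint ↥X)) = 0) : w = 0 := by
  have hbot : IsLocalRing.maximalIdeal (X.presheaf.stalk (genericPoint ↥X)) = ⊥ :=
    IsLocalRing.isField_iff_maximalIdeal_eq.mp (Field.toIsField X.functionField)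
  rw [Submodule.Quotient.mk_eq_zero, hbot, Submodule.bot_smul] at h
  exact (Submodule.mem_bot _).mp h

theorem isQuasicoherent_of_isInvertible {L : X.Modules} (hL : PicF.IsInvertible L) :
    L.IsQuasicoherent := PicAux.isQCoh_of_isInvertible hL

end Groth.RefRank
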