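/-
Local finiteness of the points of codimension one outside a nonempty open.
-/
import Groth.Agent.RefRank.Divisor

universe u

open CategoryTheory CategoryTheory.Limits AlgebraicGeometry TopologicalSpace Opposite Topology

namespace Groth.RefRank

open Groth.QCohMod

variable {X : Scheme.{u}}

theorem le_of_specializes {x y : X} (h : y ⤳ x) : x ≤ y := Scheme.le_iff_specializes.mpr h

variable [IsIntegral X]

/-- A proper generization of a point of codimension one is the generic point. -/
theorem eq_genericPoint_of_specializes {x y : X} (hx : Order.coheight x = 1) (h : y ⤳ x)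
    (hne : y ≠ x) : y = genericPoint ↥X := by
  have hlt : x < y := lt_of_le_not_ge (le_of_specializes h) fun h' =>
    hne ((h.antisymm (Scheme.le_iff_specializes.mp h')).eq)
  have h1 := Order.coheight_add_one_le hlt
  rw [hx] at h1
  have h0 : Order.coheight y = 0 := by
    rcases eq_or_ne (Order.coheight y) 0 with h0 | h0
    · exact h0
    · exfalso
      have : (1 : ℕ∞) ≤ Order.coheight y := ENat.one_le_iff_ne_zero.mpr h0
      exact absurd (le_trans (add_le_add_left this 1) h1) (by decide)
  have hmax := Order.coheight_eq_zero.mp h0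
  exact ((genSpec y).antisymm (Scheme.le_iff_specializes.mp (hmax (le_of_specializes (genSpec y))))).eq.symm

variable [IsLocallyNoetherian X]

/-- The points of codimension one of an affine open lying outside a given nonempty open are
finitely many. -/
theorem finite_codim_one_compl {W : X.Opens} (hW : genericPoint ↥X ∈ W) {U : X.Opens}
    (hU : IsAffineOpen U) :
    ((U : Set X) ∩ {x : X | Order.coheight x = 1 ∧ x ∉ W}).Finite := by
  have : IsAffine (U : Scheme.{u}) := hU
  have : IsNoetherian (U : Scheme.{u}) := ⟨⟩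
  let C : Closeds ↥(U : Scheme.{u}) := ⟨{u | U.ι u ∉ W}, (W.2.preimage U.ι.continuous).isClosed_compl⟩
  obtain ⟨S, hSf, hSc, hSi, hS⟩ :=
    NoetherianSpace.exists_finite_set_isClosed_irreducible C.2
  classical
  let g : Set ↥(U : Scheme.{u}) → X := fun Z =>
    if h : IsIrreducible Z then U.ι h.genericPoint else genericPoint ↥X
  refine (hSf.image g).subset fun x ⟨hxU, hx, hxW⟩ => ?_
  obtain ⟨u, rfl⟩ : ∃ u : ↥(U : Scheme.{u}), U.ι u = x := ⟨⟨x, hxU⟩, rfl⟩
  have hxC : u ∈ (C : Set ↥(U : Scheme.{u})) := hxW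
  rw [show (C : Set ↥(U : Scheme.{u})) = ⋃₀ S from hS, Set.mem_sUnion] at hxC
  obtain ⟨Z, hZS, hxZ⟩ := hxC
  refine ⟨Z, hZS, ?_⟩
  have hZi := hSi Z hZS
  simp only [g, dif_pos hZi]
  have hgen := hZi.isGenericPoint_genericPoint (hSc Z hZS)
  have hspec : U.ι hZi.genericPoint ⤳ U.ι u := (hgen.specializes hxZ).map U.ι.continuous
  by_contra hne
  have he := eq_genericPoint_of_specializes hx hspec hne
  have hgC : hZi.genericPoint ∈ (C : Set ↥(U : Scheme.{u})) := by
    rw [show (C : Set ↥(U : Scheme.{u})) = ⋃₀ S from hS]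
    exact ⟨Z, hZS, hgen.mem⟩
  exact hgC (he.symm ▸ hW)

/-- The closures of codimension one points outside a nonempty open form a locally finite family. -/
theorem locallyFinite_codim_one_compl {W : X.Opens} (hW : genericPoint ↥X ∈ W) (p : X → Prop)
    (hp : ∀ x, p x → Order.coheight x = 1 ∧ x ∉ W) :
    LocallyFinite (fun x : {x : X // p x} => closure ({x.1} : Set X)) := by
  intro z
  obtain ⟨U, hU, hz⟩ := exists_affine_mem z
  refine ⟨U, U.2.mem_nhds hz, Set.Finite.of_finite_image
    ((finite_codim_one_compl hW hU).subset ?_) Subtype.val_injective.injOn⟩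
  rintro _ ⟨x, ⟨y, hy, hyU⟩, rfl⟩
  exact ⟨(specializes_iff_mem_closure.mpr hy).mem_open U.2 hyU, hp x.1 x.2⟩

/-- A rational section generating near the generic point has order zero on some nonempty open. -/
theorem exists_open_ordSec_eq_zero {F : X.Modules} [F.IsQuasicoherent] {U : X.Opens}
    (hU : genericPoint ↥X ∈ U) {t : Γ(F, U)} (ht : PicAux.Gen F U t)
    {w : F.presheaf.stalk (genericPoint ↥X)} (hw : w ≠ 0) :
    ∃ W : X.Opens, genericPoint ↥X ∈ W ∧
      ∀ x ∈ W, ringKrullDim (X.presheaf.stalk x) ≤ 1 → ordSec F x w = 0 := by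
  have hb := isStalkBasis_germ_of_gen ht hU
  obtain ⟨φ, hφ⟩ := hb.2 w
  dsimp only at hφ
  obtain ⟨V, hV, r, rfl⟩ := TopCat.Presheaf.exists_germ_eq X.presheaf φ
  have hr0 : X.presheaf.germ V _ hV r ≠ 0 := fun e => hw (by rw [← hφ, e, zero_smul])
  refine ⟨X.basicOpen r ⊓ U, ⟨(Scheme.mem_basicOpen X r _ hV).mpr (isUnit_gen_iff.mpr hr0), hU⟩,
    fun x hx hdim => ?_⟩
  have hxV : x ∈ V := X.basicOpen_le r hx.1
  rw [ordSec_eq hdim (isStalkBasis_germ_of_gen ht hx.2) (φ := rspec (genSpec x) (X.presheaf.germ V x hxV r))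
    (by rw [mspec_germ, rspec_germ]; exact hφ)]
  exact ordK_of_isUnit hdim ((Scheme.mem_basicOpen X r x hxV).mp hx.1)

/-- A rational section of a module invertible near the generic point has order zero on some nonempty
open. -/
theorem exists_open_ordSec_eq_zero_of_genInvertible {F : X.Modules} [F.IsQuasicoherent]
    (hF : RefHull.GenInvertible F) {w : F.presheaf.stalk (genericPoint ↥X)} (hw : w ≠ 0) :
    ∃ W : X.Opens, genericPoint ↥X ∈ W ∧
      ∀ x ∈ W, ringKrullDim (X.presheaf.stalk x) ≤ 1 → ordSec F x w = 0 := by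
  obtain ⟨U, hU, hinv⟩ := hF
  have hη : genericPoint ↥X ∈ U :=
    ((genericPoint_spec ↥X).mem_open_set_iff U.2).mpr (by simpa using hU.nonempty)
  obtain ⟨W, s, hW, hs⟩ := (PicAux.isInvertible_iff_exists_gen _).1 hinv ⟨genericPoint ↥X, hη⟩
  have hη' : genericPoint ↥X ∈ U.ι ''ᵁ W := ⟨⟨genericPoint ↥X, hη⟩, hW, rfl⟩
  exact exists_open_ordSec_eq_zero hη' (gen_of_restrict hs) hw

/-- A function on codimension one points vanishing on a nonempty open gives a cycle. -/
theorem exists_cycle {W : X.Opens} (hW : genericPoint ↥X ∈ W) (e : X → ℤ)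
    (he : ∀ x ∈ W, Order.coheight x = 1 → e x = 0) :
    ∃ D : AlgebraicCycle X ℤ, (∀ x : X, Order.coheight x ≠ 1 → D x = 0) ∧
      ∀ x : X, Order.coheight x = 1 → D x = e x := by
  classical
  refine ⟨⟨fun x => if Order.coheight x = 1 then e x else 0, Set.subset_univ _, fun z _ => ?_⟩,
    fun x hx => if_neg hx, fun x hx => if_pos hx⟩
  obtain ⟨U, hU, hz⟩ := exists_affine_mem z
  refine ⟨U, U.2.mem_nhds hz, (finite_codim_one_compl hW hU).subset ?_⟩
  rintro x ⟨hxU, hx⟩
  rw [Function.mem_support] at hx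
  split at hx
  · next h => exact ⟨hxU, h, fun hxW => hx (he x hxW h)⟩
  · exact absurd rfl hx

end Groth.RefRank
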