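/-
Reflexive is torsion free and normal.
-/
import Groth.Agent.RefRank.Divisor
import Groth.Agent.RefRank.BigOpen
import Groth.Agent.S2821

universe u

open CategoryTheory CategoryTheory.Limits AlgebraicGeometry TopologicalSpace Opposite

namespace Groth.RefRank

open Groth.QCohMod

variable {X : Scheme.{u}}

/-- A family of stalk elements coming locally from sections comes from a section. -/
theorem exists_section_of_germs (M : X.Modules) (V : X.Opens) (v : ∀ x : V, M.presheaf.stalk x.1)
    (h : ∀ x : V, ∃ (W : X.Opens) (hW : W ≤ V) (m : Γ(M, W)), x.1 ∈ W ∧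
      ∀ (y : X) (hy : y ∈ W), germ M y hy m = v ⟨y, hW hy⟩) :
    ∃ s : Γ(M, V), ∀ x : V, germ M x.1 x.2 s = v x := by
  choose W hW m hxW hm using h
  obtain ⟨s, hs, -⟩ := TopCat.Sheaf.existsUnique_gluing' ⟨M.presheaf, M.isSheaf⟩ W V
    (fun x => homOfLE (hW x)) (fun x hx => Opens.mem_iSup.2 ⟨⟨x, hx⟩, hxW _⟩) m (fun x y => by
      refine mod_section_ext M fun z hz => ?_
      change germ M z hz (res M inf_le_left (m x)) = germ M z hz (res M inf_le_right (m y))
      rw [germ_res, germ_res, hm, hm])
  refine ⟨s, fun x => ?_⟩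
  have e : res M (hW x) s = m x := hs x
  rw [← germ_res M (hW x) x.1 (hxW x) s, e, hm]

theorem app_bijective_of_stalk {M N : X.Modules} (φ : M ⟶ N) {V : X.Opens}
    (h : ∀ x ∈ V, Function.Bijective (RefHull.stalkMapₗ φ x)) : Function.Bijective (φ.app V) := by
  refine ⟨fun m m' e => mod_section_ext M fun x hx => (h x hx).1 ?_, fun n => ?_⟩
  · exact (RefHull.stalkMapₗ_germ φ x hx m).trans ((congrArg (germ N x hx) e).trans
      (RefHull.stalkMapₗ_germ φ x hx m').symm)
  · choose v hv using fun x : V => (h x.1 x.2).2 (germ N x.1 x.2 n)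
    obtain ⟨s, hs⟩ := exists_section_of_germs M V v fun x => by
      obtain ⟨W₀, hx₀, m₀, hm₀⟩ := exists_germ M x.1 (v x)
      have h1 : germ N x.1 hx₀ (φ.app W₀ m₀) = germ N x.1 x.2 n :=
        (RefHull.stalkMapₗ_germ φ x.1 hx₀ m₀).symm.trans ((congrArg _ hm₀).trans (hv x))
      obtain ⟨W, hxW, i, j, e⟩ := N.presheaf.germ_eq x.1 hx₀ x.2 _ _ h1
      refine ⟨W, j.le, res M i.le m₀, hxW, fun y hy => (h y (j.le hy)).1 ?_⟩
      rw [hv ⟨y, j.le hy⟩, germ_res, ← germ_res N j.le y hy n]
      refine (RefHull.stalkMapₗ_germ φ y (i.le hy) m₀).trans ?_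
      exact (germ_res N i.le y hy _).symm.trans (congrArg (germ N y hy) e)
    refine ⟨s, mod_section_ext N fun x hx => ?_⟩
    rw [← hv ⟨x, hx⟩, ← hs ⟨x, hx⟩]
    exact (RefHull.stalkMapₗ_germ φ x hx s).symm

theorem isNormalScheme_of_regular (hreg : ∀ x : X, IsRegularLocalRing (X.presheaf.stalk x)) :
    Pi1.IsNormalScheme X := fun x => by
  have := hreg x
  have := (Groth.Agent.S2821.result (X.presheaf.stalk x)).1
  have := (Groth.Agent.S2821.result (X.presheaf.stalk x)).2
  exact ⟨inferInstance, inferInstance⟩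

variable [IsIntegral X] [IsLocallyNoetherian X]

theorem two_le_dim_generic_false
    (h : (2 : WithBot ℕ∞) ≤ ringKrullDim (X.presheaf.stalk (genericPoint ↥X))) : False := by
  rw [ringKrullDim_eq_zero_of_isField (Field.toIsField X.functionField)] at h
  exact absurd h (by decide)

/-- Sections of a reflexive module extend across codimension two. -/
theorem bijective_res_of_isReflexive (hX : Pi1.IsNormalScheme X) {F : X.Modules} (hF : Coh.IsCoh F)
    (hr : RefHull.IsReflexive F) {U V : X.Opens} (hVU : V ≤ U)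
    (hdim : ∀ x : X, x ∈ U → x ∉ V → (2 : WithBot ℕ∞) ≤ ringKrullDim (X.presheaf.stalk x)) :
    Function.Bijective (res F hVU) := by
  have hη : ∀ x ∈ U, genericPoint ↥X ∈ V := fun x hx => by_contra fun h =>
    two_le_dim_generic_false (hdim _ ((genSpec x).mem_open U.2 hx) h)
  refine ⟨fun m m' e => mod_section_ext F fun x hx => mspec_gen_injective hF hr x ?_, fun n => ?_⟩
  · rw [mspec_germ, mspec_germ, ← germ_res F hVU _ (hη x hx) m, ← germ_res F hVU _ (hη x hx) m', e]
  · have key : ∀ x : U, ∃ v : F.presheaf.stalk x.1,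
        mspec F (genSpec x.1) v = germ F (genericPoint ↥X) (hη x.1 x.2) n := fun x =>
      mem_range_mspec hX hF hr _ fun y hy hy1 => by
        have hyV : y ∈ V := by_contra fun h => by
          have := hdim y (hy.mem_open U.2 x.2) h
          rw [hy1] at this
          exact absurd this (by decide)
        exact ⟨germ F y hyV n, mspec_germ F (genSpec y) hyV n⟩
    choose v hv using key
    obtain ⟨s, hs⟩ := exists_section_of_germs F U v fun x => by
      obtain ⟨W₀, hx₀, m₀, hm₀⟩ := exists_germ F x.1 (v x)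
      refine ⟨W₀ ⊓ U, inf_le_right, res F inf_le_left m₀, ⟨hx₀, x.2⟩, fun y hy => mspec_gen_injective hF hr y ?_⟩
      rw [germ_res, mspec_germ, hv ⟨y, hy.2⟩, ← hv x, ← hm₀, mspec_germ]
    refine ⟨s, mod_section_ext F fun x hx => mspec_gen_injective hF hr x ?_⟩
    rw [germ_res, hs ⟨x, hVU hx⟩, mspec_germ]
    exact hv ⟨x, hVU hx⟩

/-- A torsion free module with sections extending across codimension two is reflexive. -/
theorem isReflexive_of_normal (hX : Pi1.IsNormalScheme X) {F : X.Modules} (hF : Coh.IsCoh F)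
    (ht : TorSh.IsTorsionFree F)
    (hn : ∀ (U V : X.Opens) (hVU : V ≤ U),
      (∀ x : X, x ∈ U → x ∉ V → (2 : WithBot ℕ∞) ≤ ringKrullDim (X.presheaf.stalk x)) →
        Function.Bijective (res F hVU)) : RefHull.IsReflexive F := by
  let U₀ : X.Opens := ⟨_, isOpen_bijective_stalkMap hF (isCoh_ddual hF) (RefHull.bidualMap F)⟩
  have hdim : ∀ x : X, x ∉ U₀ → (2 : WithBot ℕ∞) ≤ ringKrullDim (X.presheaf.stalk x) := fun x hx => by
    by_contra hlt
    refine hx ((bijective_bidual_iff hF x).mpr ?_)
    have := finite_stalkModule hF x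
    have := ht x
    obtain ⟨n, hn'⟩ := WithBot.ne_bot_iff_exists.mp (ringKrullDim_ne_bot (R := X.presheaf.stalk x))
    have hle : n ≤ 1 := by
      rw [← hn'] at hlt
      have : n < 2 := not_le.mp fun h => hlt (WithBot.coe_le_coe.mpr h)
      cases n with
      | top => exact absurd this (by simp)
      | coe k =>
        have hk : k < 2 := by exact_mod_cast this
        exact_mod_cast Nat.le_of_lt_succ hk
    have : IsPrincipalIdealRing (X.presheaf.stalk x) := by
      rcases Nat.le_one_iff_eq_zero_or_eq_one.mp (ENat.toNat_le_of_le_coe (n := 1) hle) with h0 | h0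
      · have hn0 : n = 0 := by
          cases n with
          | top => simp at hle
          | coe k => simpa using h0
        have : Ring.KrullDimLE 0 (X.presheaf.stalk x) := Ring.krullDimLE_iff.mpr (by rw [← hn', hn0]; rfl)
        have hf : IsField (X.presheaf.stalk x) := Ring.KrullDimLE.isField_of_isDomain
        refine ⟨fun I => ?_⟩
        by_cases hI : I = ⊥
        · rw [hI]; exact bot_isPrincipal
        · obtain ⟨a, ha, ha0⟩ := Submodule.exists_mem_ne_zero_of_ne_bot hI
          obtain ⟨b, hb⟩ := hf.mul_inv_cancel ha0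
          rw [Ideal.eq_top_of_isUnit_mem I ha (IsUnit.of_mul_eq_one b hb)]
          exact top_isPrincipal
      · have hn1 : n = 1 := by
          cases n with
          | top => simp at hle
          | coe k => simpa using h0
        exact (isDiscreteValuationRing_stalk hX (by rw [← hn', hn1]; rfl)).toIsPrincipalIdealRing
    have : Module.Free (X.presheaf.stalk x) (F.presheaf.stalk x) := Module.free_of_finite_type_torsion_free'
    exact (inferInstance : Module.IsReflexive (X.presheaf.stalk x) (F.presheaf.stalk x))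
  refine (isIso_iff_bijective_stalk _).mpr fun x => ⟨(injective_iff_map_eq_zero _).mpr fun v hv => ?_, fun v => ?_⟩
  · obtain ⟨V, hx, m, rfl⟩ := exists_germ F x v
    have h1 : germ (RefHull.ddual F) x hx ((RefHull.bidualMap F).app V m) = 0 :=
      (RefHull.stalkMapₗ_germ _ x hx m).symm.trans hv
    obtain ⟨W, hxW, i, j, e⟩ := TopCat.Presheaf.germ_eq _ x hx hx _ _
      (h1.trans (map_zero (germ (RefHull.ddual F) x hx)).symm)
    have e' : res (RefHull.ddual F) i.le ((RefHull.bidualMap F).app V m) = 0 := e.trans (map_zero _)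
    have h0 : res F (inf_le_left : W ⊓ U₀ ≤ W) (res F i.le m) = 0 := mod_section_ext F fun y hy => by
      refine hy.2.1 ?_
      rw [map_zero, map_zero, germ_res, germ_res]
      refine (RefHull.stalkMapₗ_germ _ y (i.le hy.1) m).trans ?_
      exact (germ_res _ i.le y hy.1 _).symm.trans ((congrArg (germ _ y hy.1) e').trans (map_zero _))
    have h2 : res F i.le m = 0 := (hn W (W ⊓ U₀) inf_le_left (fun y hy hy' => hdim y fun h => hy' ⟨hy, h⟩)).1
      (h0.trans (map_zero _).symm)
    rw [← germ_res F i.le x hxW m, h2, map_zero]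
  · obtain ⟨V, hx, n, rfl⟩ := exists_germ _ x v
    obtain ⟨m', hm'⟩ := (app_bijective_of_stalk (RefHull.bidualMap F) (V := V ⊓ U₀) fun y hy => hy.2).2
      (res _ inf_le_left n)
    obtain ⟨m, hm⟩ := (hn V (V ⊓ U₀) inf_le_left (fun y hy hy' => hdim y fun h => hy' ⟨hy, h⟩)).2 m'
    refine ⟨germ F x hx m, (RefHull.stalkMapₗ_germ _ x hx m).trans ?_⟩
    refine congrArg (germ _ x hx) ?_
    refine (bijective_res_of_isReflexive hX (isCoh_ddual hF) (isReflexive_ddual hF)
      (inf_le_left : V ⊓ U₀ ≤ V) fun y hy hy' => hdim y fun h => hy' ⟨hy, h⟩).1 ?_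
    rw [← hm', ← hm]
    exact congr($((RefHull.bidualMap F).mapPresheaf.naturality (homOfLE (inf_le_left : V ⊓ U₀ ≤ V)).op) m).symm

end Groth.RefRank
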