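/-
Reflexive powers of a rank one reflexive module and the sections over the locus where a section
generates.
-/
import Groth.Agent.RefRank.Normality
import Groth.Agent.RefRank.LocFin
import Groth.Agent.CohTwo.SupportLocal
import Groth.Prelude.Def_RefPow

universe u

open CategoryTheory CategoryTheory.Limits AlgebraicGeometry TopologicalSpace Opposite
open scoped TensorProduct

namespace Groth.RefRank

open Groth.QCohMod

variable {X : Scheme.{u}} {F : X.Modules} (s : Coh.structureModule X ⟶ F)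

/-- The germ of a section given as a morphism. -/
noncomputable def sg (x : X) : F.presheaf.stalk x := RefHull.stalkMapₗ s x (oneGerm x)

theorem sg_eq_germ (x : X) {W : X.Opens} (hx : x ∈ W) :
    sg s x = germ F x hx (SecTwist.val s W) := by
  have h : oneGerm x = germ (Coh.structureModule X) x hx
      (show Γ(Coh.structureModule X, W) from (1 : Γ(X, W))) := by
    rw [← smul_oneGerm x hx (1 : Γ(X, W)), map_one, one_smul]
  rw [sg, h]
  exact RefHull.stalkMapₗ_germ s x hx _

theorem sg_sPow (n : ℕ) (x : X) : sg (RefPow.sPow s n) x = RefPow.sPowGerm s n x :=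
  sg_eq_germ (RefPow.sPow s n) x (W := ⊤) trivial

theorem stalkMapₗ_comp {A B C : X.Modules} (f : A ⟶ B) (g : B ⟶ C) (x : X) (v : A.presheaf.stalk x) :
    RefHull.stalkMapₗ (f ≫ g) x v = RefHull.stalkMapₗ g x (RefHull.stalkMapₗ f x v) := by
  obtain ⟨W, hx, m, rfl⟩ := exists_germ A x v
  erw [RefHull.stalkMapₗ_germ, RefHull.stalkMapₗ_germ, RefHull.stalkMapₗ_germ]
  rfl

theorem stalkMapₗ_id {A : X.Modules} (x : X) (v : A.presheaf.stalk x) :
    RefHull.stalkMapₗ (𝟙 A) x v = v := by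
  obtain ⟨W, hx, m, rfl⟩ := exists_germ A x v
  erw [RefHull.stalkMapₗ_germ]
  rfl

theorem stalkMapₗ_apply_smul_oneGerm (x : X) (a : X.presheaf.stalk x) :
    RefHull.stalkMapₗ s x (a • oneGerm x) = a • sg s x := map_smul _ a _

theorem mem_isoLocus_iff (x : X) : x ∈ RefPow.isoLocus s ↔ IsStalkBasis F x (sg s x) := by
  have h : (fun a : X.presheaf.stalk x => a • sg s x) = RefHull.stalkMapₗ s x ∘ oneEquiv x :=
    funext fun a => (stalkMapₗ_apply_smul_oneGerm s x a).symm
  rw [IsStalkBasis, h]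
  exact (Function.Bijective.of_comp_iff _ (oneEquiv x).bijective).symm

theorem sg_sPow_succ (n : ℕ) (x : X) :
    sg (RefPow.sPow s (n + 1)) x = RefHull.stalkMapₗ (RefPow.mulBy s n) x (sg (RefPow.sPow s n) x) :=
  stalkMapₗ_comp _ _ _ _

theorem sg_sPow_zero (x : X) : sg (RefPow.sPow s 0) x = oneGerm x := stalkMapₗ_id _ _

theorem sg_sPow_one (x : X) : sg (RefPow.sPow s 1) x = sg s x := by
  rw [RefPow.sPow_one]
  rfl

theorem stalkMapₗ_mulBy_succ (n : ℕ) (x : X) (v : (RefPow.refPow F (n + 1)).presheaf.stalk x) :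
    RefHull.stalkMapₗ (RefPow.mulBy s (n + 1)) x v =
      RefHull.stalkMapₗ (RefHull.bidualMap (CohB1.tensorMod (RefPow.refPow F (n + 1)) F)) x
        (stalkTensorEquiv (RefPow.refPow F (n + 1)) F x (v ⊗ₜ sg s x)) := by
  obtain ⟨W, hx, t, rfl⟩ := exists_germ _ x v
  rw [sg_eq_germ s x hx, stalkTensorEquiv_tmul]
  refine (RefHull.stalkMapₗ_germ _ x hx t).trans ?_
  rw [RefPow.mulBy_succ_app]
  exact (RefHull.stalkMapₗ_germ _ x hx _).symm

variable [IsIntegral X] [IsLocallyNoetherian X] {s}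

theorem isRef1_refPow (hF : RefHull.IsRef1 F) : ∀ n, RefHull.IsRef1 (RefPow.refPow F n)
  | 0 => isRef1_structure
  | 1 => hF
  | n + 2 => isRef1_refTensor (isRef1_refPow hF (n + 1)) hF

/-- At a point of codimension one, a basis of `F` gives bases of all reflexive powers. -/
theorem exists_isStalkBasis_refPow (hX : Pi1.IsNormalScheme X) (hF : RefHull.IsRef1 F) {y : X}
    (hy : ringKrullDim (X.presheaf.stalk y) = 1) {t : F.presheaf.stalk y} (ht : IsStalkBasis F y t)
    {a : X.presheaf.stalk y} (ha : a • t = sg s y) (n : ℕ) :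
    ∃ u, IsStalkBasis (RefPow.refPow F n) y u ∧ sg (RefPow.sPow s n) y = a ^ n • u := by
  induction n with
  | zero => exact ⟨oneGerm y, isStalkBasis_oneGerm y, by rw [sg_sPow_zero, pow_zero, one_smul]⟩
  | succ n ih =>
    cases n with
    | zero => exact ⟨t, ht, (sg_sPow_one s y).trans (ha.symm.trans (congrArg (· • t) (pow_one a).symm))⟩
    | succ n =>
      obtain ⟨u, hu, hsu⟩ := ih
      have hM := (isRef1_refPow hF (n + 1)).1
      refine ⟨RefHull.stalkMapₗ (RefHull.bidualMap (CohB1.tensorMod (RefPow.refPow F (n + 1)) F)) y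
        (stalkTensorEquiv _ F y (u ⊗ₜ t)),
        isStalkBasis_bidual hX (isCoh_tensorMod hM hF.1) hy (isStalkBasis_tensor hu ht), ?_⟩
      rw [sg_sPow_succ, stalkMapₗ_mulBy_succ, hsu, ← ha, TensorProduct.tmul_smul,
        ← TensorProduct.smul_tmul', map_smul, map_smul, map_smul, map_smul, smul_smul, ← pow_succ']
      rfl

theorem stalkMapₗ_mulBy_bijective (hF : RefHull.IsRef1 F) {x : X} (hx : x ∈ RefPow.isoLocus s)
    (n : ℕ) : Function.Bijective (RefHull.stalkMapₗ (RefPow.mulBy s n) x) := by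
  cases n with
  | zero => exact hx
  | succ n =>
    have hM := (isRef1_refPow hF (n + 1))
    have hT := isCoh_tensorMod hM.1 hF.1
    let es := LinearEquiv.ofBijective (LinearMap.toSpanSingleton (X.presheaf.stalk x) _ (sg s x))
      ((mem_isoLocus_iff s x).mp hx)
    let e := (TensorProduct.rid (X.presheaf.stalk x) ((RefPow.refPow F (n + 1)).presheaf.stalk x)).symm.trans
      ((TensorProduct.congr (LinearEquiv.refl _ _) es).trans (stalkTensorEquiv (RefPow.refPow F (n + 1)) F x))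
    have he : ∀ v, e v = stalkTensorEquiv (RefPow.refPow F (n + 1)) F x (v ⊗ₜ sg s x) := fun v => by
      simp only [e, LinearEquiv.trans_apply, TensorProduct.rid_symm_apply, TensorProduct.congr_tmul,
        LinearEquiv.refl_apply]
      rw [show es 1 = sg s x from one_smul (X.presheaf.stalk x) _]
    have hb : Function.Bijective
        (RefHull.stalkMapₗ (RefHull.bidualMap (CohB1.tensorMod (RefPow.refPow F (n + 1)) F)) x) := by
      refine (bijective_bidual_iff hT x).mpr ?_
      have : Module.IsReflexive (X.presheaf.stalk x) ((RefPow.refPow F (n + 1)).presheaf.stalk x) :=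
        (isReflexive_iff_forall hM.1).mp hM.2.1 x
      exact Module.equiv e
    have : (RefHull.stalkMapₗ (RefPow.mulBy s (n + 1)) x : _ → _) =
        RefHull.stalkMapₗ (RefHull.bidualMap (CohB1.tensorMod (RefPow.refPow F (n + 1)) F)) x ∘ e :=
      funext fun v => by rw [stalkMapₗ_mulBy_succ, Function.comp_apply, he]
    rw [this]
    exact hb.comp e.bijective

theorem stalkMapₗ_sPow_bijective (hF : RefHull.IsRef1 F) {x : X} (hx : x ∈ RefPow.isoLocus s)
    (n : ℕ) : Function.Bijective (RefHull.stalkMapₗ (RefPow.sPow s n) x) := by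
  induction n with
  | zero => exact ⟨fun a b h => (stalkMapₗ_id x a).symm.trans (h.trans (stalkMapₗ_id x b)),
      fun v => ⟨v, stalkMapₗ_id x v⟩⟩
  | succ n ih =>
    have : (RefHull.stalkMapₗ (RefPow.sPow s (n + 1)) x : _ → _) =
        RefHull.stalkMapₗ (RefPow.mulBy s n) x ∘ RefHull.stalkMapₗ (RefPow.sPow s n) x :=
      funext fun v => stalkMapₗ_comp _ _ _ _
    rw [this]
    exact (stalkMapₗ_mulBy_bijective hF hx n).comp ih

theorem sg_eq_zero_of_not_mem (hF : RefHull.IsRef1 F) (hη : genericPoint ↥X ∉ RefPow.isoLocus s)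
    (x : X) : sg s x = 0 := by
  have h0 : sg s (genericPoint ↥X) = 0 := by_contra fun h =>
    hη ((mem_isoLocus_iff s _).mpr ((isRankOne_of_genInvertible hF.2.2).isStalkBasis h))
  refine mspec_gen_injective hF.1 hF.2.1 x ?_
  rw [map_zero, sg, ← stalkMapₗ_mspec, mspec_oneGerm]
  exact h0

theorem stalkMapₗ_mulBy_eq_zero (hF : RefHull.IsRef1 F) (hη : genericPoint ↥X ∉ RefPow.isoLocus s)
    (x : X) : ∀ (n : ℕ) (v : (RefPow.refPow F n).presheaf.stalk x),
      RefHull.stalkMapₗ (RefPow.mulBy s n) x v = 0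
  | 0, v => by
    obtain ⟨a, rfl⟩ := (isStalkBasis_oneGerm x).2 v
    refine (stalkMapₗ_apply_smul_oneGerm s x a).trans ?_
    rw [sg_eq_zero_of_not_mem hF hη, smul_zero]
    rfl
  | n + 1, v => by
    rw [stalkMapₗ_mulBy_succ, sg_eq_zero_of_not_mem hF hη, TensorProduct.tmul_zero, map_zero, map_zero]
    rfl

/-- A power of an element of the maximal ideal of a discrete valuation ring is divisible by any
given nonzero element. -/
theorem exists_dvd_pow {R : Type*} [CommRing R] [IsDomain R] [IsDiscreteValuationRing R] {a c : R}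
    (hc : c ≠ 0) (ha : ¬ IsUnit a) : ∃ k, c ∣ a ^ k := by
  obtain ⟨p, hp⟩ := IsDiscreteValuationRing.exists_irreducible R
  obtain ⟨k, u, rfl⟩ := IsDiscreteValuationRing.eq_unit_mul_pow_irreducible hc hp
  refine ⟨k, (u.isUnit.mul_left_dvd).mpr (pow_dvd_pow_of_dvd ?_ k)⟩
  rw [← Ideal.mem_span_singleton, ← hp.maximalIdeal_eq]
  exact ha

/-- A rational function regular on `W` inside `U` times a high power of `s` is a section over `W`. -/
theorem exists_pow_mem_range (hX : Pi1.IsNormalScheme X) (hF : RefHull.IsRef1 F) {U : X.Opens}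
    (hU : (U : Set X) = RefPow.isoLocus s) (hη : genericPoint ↥X ∈ U) {W : X.Opens}
    (hW : IsAffineOpen W) (f : X.presheaf.stalk (genericPoint ↥X))
    (hf : ∀ y ∈ W, y ∈ U → f ∈ Set.range (rspec (genSpec y))) :
    ∃ n, ∀ x ∈ W, f • sg (RefPow.sPow s n) (genericPoint ↥X) ∈
      Set.range (mspec (RefPow.refPow F n) (genSpec x)) := by
  have hmem : ∀ x, x ∈ U ↔ x ∈ RefPow.isoLocus s := fun x => by rw [← hU]; rfl
  have hsη : sg s (genericPoint ↥X) ≠ 0 := fun e => one_ne_zero
    (((mem_isoLocus_iff s _).mp ((hmem _).mp hη)).1 (a₁ := 1) (a₂ := 0)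
      (by dsimp only; rw [e, smul_zero, smul_zero]))
  have hspec : ∀ n y, mspec (RefPow.refPow F n) (genSpec y) (sg (RefPow.sPow s n) y) =
      sg (RefPow.sPow s n) (genericPoint ↥X) := fun n y => by
    rw [sg, ← stalkMapₗ_mspec, mspec_oneGerm]
    rfl
  have key : ∀ y : X, y ∈ W ∧ Order.coheight y = 1 ∧ y ∉ U → ∃ k, ∀ n, k ≤ n →
      f • sg (RefPow.sPow s n) (genericPoint ↥X) ∈ Set.range (mspec (RefPow.refPow F n) (genSpec y)) := by
    rintro y ⟨hyW, hy1, hyU⟩
    have hy := (coheight_eq_one_iff y).mp hy1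
    have := isDiscreteValuationRing_stalk hX hy
    obtain ⟨t, ht⟩ := exists_isStalkBasis hX hF.1 hF.2.1 (isRankOne_of_genInvertible hF.2.2) hy
    obtain ⟨a, ha⟩ := ht.2 (sg s y)
    dsimp only at ha
    have hau : ¬ IsUnit a := fun hu => hyU ((hmem y).mpr ((mem_isoLocus_iff s y).mpr (by
      have e : (fun r : X.presheaf.stalk y => r • sg s y) = (fun r => r • t) ∘ fun r => r * a :=
        funext fun r => by rw [Function.comp_apply, ← ha, smul_smul]
      rw [IsStalkBasis, e]
      exact ht.comp ⟨hu.mul_left_injective, fun r => ⟨r * ↑hu.unit⁻¹, by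
        dsimp only; rw [mul_assoc, IsUnit.val_inv_mul, mul_one]⟩⟩)))
    obtain ⟨b, c, hc, hbc⟩ := IsFractionRing.div_surjective (A := X.presheaf.stalk y)
      (show X.functionField from f)
    obtain ⟨k, d, hd⟩ := exists_dvd_pow (nonZeroDivisors.ne_zero hc) hau
    refine ⟨k, fun n hn => ?_⟩
    obtain ⟨u, hu, hsu⟩ := exists_isStalkBasis_refPow hX hF hy ht ha n
    refine ⟨(b * d * a ^ (n - k)) • u, ?_⟩
    rw [← hspec n y, hsu, mspec_smul, mspec_smul, smul_smul]
    congr 1
    have hc0 : algebraMap (X.presheaf.stalk y) X.functionField c ≠ 0 :=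
      (map_ne_zero_iff _ (IsFractionRing.injective _ _)).mpr (nonZeroDivisors.ne_zero hc)
    have e : algebraMap (X.presheaf.stalk y) X.functionField (b * d * a ^ (n - k)) =
        (show X.functionField from f) * algebraMap (X.presheaf.stalk y) X.functionField (a ^ n) := by
      rw [← hbc, show a ^ n = c * d * a ^ (n - k) by rw [← hd, ← pow_add, Nat.add_sub_cancel' hn],
        map_mul, map_mul, map_mul, map_mul, map_pow]
      field_simp
    exact e
  classical
  obtain ⟨T, hT⟩ := ((finite_codim_one_compl hη hW).exists_finset_coe)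
  choose! k hk using key
  refine ⟨T.sup k, fun x hx => ?_⟩
  have hFn := isRef1_refPow hF (T.sup k)
  refine mem_range_mspec hX hFn.1 hFn.2.1 _ fun y hy hy1 => ?_
  have hyW : y ∈ W := hy.mem_open W.2 hx
  by_cases hyU : y ∈ U
  · obtain ⟨a, ha⟩ := hf y hyW hyU
    exact ⟨a • sg (RefPow.sPow s (T.sup k)) y, by rw [mspec_smul, hspec, ha]⟩
  · have hy' := (coheight_eq_one_iff y).mpr hy1
    refine hk y ⟨hyW, hy', hyU⟩ _ (Finset.le_sup ?_)
    rw [← Finset.mem_coe, hT]
    exact ⟨hyW, hy', hyU⟩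

/-- Sections over `W` inside `U` come from reflexive powers. -/
theorem exists_pow_section (hX : Pi1.IsNormalScheme X) (hF : RefHull.IsRef1 F) {U : X.Opens}
    (hU : (U : Set X) = RefPow.isoLocus s) (hη : genericPoint ↥X ∈ U) {W V : X.Opens}
    (hW : IsAffineOpen W) (hVW : V ≤ W) (hVU : V ≤ U) (hle : W ⊓ U ≤ V)
    (g : Γ(Coh.structureModule X, V)) :
    ∃ (n : ℕ) (m : Γ(RefPow.refPow F n, W)), res _ hVW m = (RefPow.sPow s n).app V g := by
  rcases (W : Set X).eq_empty_or_nonempty with he | ⟨w, hw⟩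
  · refine ⟨0, 0, mod_section_ext _ fun x hx => ?_⟩
    have hx' : x ∈ (W : Set X) := hVW hx
    rw [he] at hx'
    exact hx'.elim
  have hηV : genericPoint ↥X ∈ V := hle ⟨(genSpec w).mem_open W.2 hw, hη⟩
  obtain ⟨f, hf⟩ := (isStalkBasis_oneGerm (genericPoint ↥X)).2 (germ _ _ hηV g)
  dsimp only at hf
  have hgy : ∀ y (hy : y ∈ V), ∃ a, a • oneGerm y = germ _ y hy g ∧ rspec (genSpec y) a = f :=
    fun y hy => by
      obtain ⟨a, ha⟩ := (isStalkBasis_oneGerm y).2 (germ _ y hy g)
      refine ⟨a, ha, (isStalkBasis_oneGerm (genericPoint ↥X)).1 ?_⟩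
      have e := congrArg (mspec _ (genSpec y)) ha
      rw [mspec_smul, mspec_oneGerm, mspec_germ] at e
      exact e.trans hf.symm
  obtain ⟨n, hn⟩ := exists_pow_mem_range hX hF hU hη hW f fun y hyW hyU =>
    ⟨_, (hgy y (hle ⟨hyW, hyU⟩)).choose_spec.2⟩
  have hFn := isRef1_refPow hF n
  choose v hv using fun x : W => hn x.1 x.2
  obtain ⟨m, hm⟩ := exists_section_of_germs (RefPow.refPow F n) W v fun x => by
    obtain ⟨W₀, hx₀, m₀, hm₀⟩ := exists_germ _ x.1 (v x)
    refine ⟨W₀ ⊓ W, inf_le_right, res _ inf_le_left m₀, ⟨hx₀, x.2⟩, fun y hy =>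
      mspec_gen_injective hFn.1 hFn.2.1 y ?_⟩
    rw [germ_res, mspec_germ, hv ⟨y, hy.2⟩, ← hv x, ← hm₀, mspec_germ]
  refine ⟨n, m, mod_section_ext _ fun x hx => mspec_gen_injective hFn.1 hFn.2.1 x ?_⟩
  have e2 : germ _ x hx ((RefPow.sPow s n).app V g) =
      RefHull.stalkMapₗ (RefPow.sPow s n) x (germ _ x hx g) :=
    (RefHull.stalkMapₗ_germ _ x hx g).symm
  rw [germ_res, hm ⟨x, hVW hx⟩]
  refine (hv ⟨x, hVW hx⟩).trans ?_
  rw [e2, ← stalkMapₗ_mspec, mspec_germ, ← hf, map_smul]
  rfl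

end Groth.RefRank
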