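import Mathlib
import Groth.Prelude.Def_Wider
import Groth.Prelude.Def_W4bk5brsh16IT
import Groth.Agent.LocCohTransform.ExactTransform

/-!
# Affine opens of a Noetherian affine scheme and ideal transforms
-/

set_option autoImplicit false
universe u

open CategoryTheory CategoryTheory.Limits AlgebraicGeometry Opposite TopologicalSpace

namespace Groth.RefRank.AffineCompl

variable {A : Type u} [CommRing A] (U : (Spec (CommRingCat.of A)).Opens)

/-- Restriction of functions to an open of the spectrum. -/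
noncomputable def toSec : A →+* Γ(Spec (CommRingCat.of A), U) :=
  ((Spec (CommRingCat.of A)).presheaf.map (homOfLE (le_top : U ≤ ⊤)).op).hom.comp
    (Scheme.ΓSpecIso (CommRingCat.of A)).inv.hom

theorem basicOpen_toSec (f : A) :
    (Spec (CommRingCat.of A)).basicOpen (toSec U f) = U ⊓ PrimeSpectrum.basicOpen f := by
  rw [show toSec U f = (Spec (CommRingCat.of A)).presheaf.map (homOfLE (le_top : U ≤ ⊤)).op
    ((Scheme.ΓSpecIso (CommRingCat.of A)).inv f) from rfl]
  rw [Scheme.basicOpen_res]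
  congr 1
  exact basicOpen_eq_of_affine (R := CommRingCat.of A) f

theorem res_toSec {W : (Spec (CommRingCat.of A)).Opens} (h : W ≤ U) (f : A) :
    ((Spec (CommRingCat.of A)).presheaf.map (homOfLE h).op).hom (toSec U f) =
      ((Spec (CommRingCat.of A)).presheaf.map (homOfLE (le_top : W ≤ ⊤)).op).hom
        ((Scheme.ΓSpecIso (CommRingCat.of A)).inv f) := by
  show (((Spec (CommRingCat.of A)).presheaf.map (homOfLE (le_top : U ≤ ⊤)).op) ≫
    (Spec (CommRingCat.of A)).presheaf.map (homOfLE h).op).hom _ = _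
  rw [← Functor.map_comp]
  rfl

theorem res_res {W V V' : (Spec (CommRingCat.of A)).Opens} (h : W ≤ V) (h' : V ≤ V')
    (x : Γ(Spec (CommRingCat.of A), V')) :
    ((Spec (CommRingCat.of A)).presheaf.map (homOfLE h).op).hom
      (((Spec (CommRingCat.of A)).presheaf.map (homOfLE h').op).hom x) =
    ((Spec (CommRingCat.of A)).presheaf.map (homOfLE (h.trans h')).op).hom x := by
  erw [← CommRingCat.comp_apply, ← Functor.map_comp]

variable {U} {I : Ideal A}
variable (hUI : ∀ x : ↥(Spec (CommRingCat.of A)), x ∈ U ↔ ∃ f ∈ I, f ∉ (x : PrimeSpectrum A).asIdeal)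
include hUI

theorem basicOpen_le {f : A} (hf : f ∈ I) : PrimeSpectrum.basicOpen f ≤ U := by
  intro x hx
  exact (hUI x).2 ⟨f, hf, hx⟩

theorem span_toSec_eq_top (hU : IsAffineOpen U) :
    Ideal.span (toSec U '' (I : Set A)) = ⊤ := by
  rw [← hU.self_le_iSup_basicOpen_iff]
  intro x hx
  obtain ⟨f, hf, hfx⟩ := (hUI x).1 hx
  refine Opens.mem_iSup.2 ⟨⟨toSec U f, f, hf, rfl⟩, ?_⟩
  show x ∈ (Spec (CommRingCat.of A)).basicOpen (toSec U f)
  rw [basicOpen_toSec]
  exact ⟨hx, hfx⟩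

theorem exists_pow_mul_mem_range (hU : IsCompact U.1)
    {f : A} (hf : f ∈ I) (b : Γ(Spec (CommRingCat.of A), U)) :
    ∃ (n : ℕ) (e : A), toSec U e = toSec U (f ^ n) * b := by
  let X := Spec (CommRingCat.of A)
  let g : Γ(X, ⊤) := (Scheme.ΓSpecIso (CommRingCat.of A)).inv f
  have hWU : X.basicOpen g ≤ U := by
    intro x hx
    rw [show X.basicOpen g = PrimeSpectrum.basicOpen f from
      basicOpen_eq_of_affine (R := CommRingCat.of A) f] at hx
    exact basicOpen_le hUI hf hx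
  obtain ⟨⟨e', ⟨_, n, rfl⟩⟩, he⟩ := IsLocalization.surj (Submonoid.powers g)
    (X.presheaf.map (homOfLE hWU).op b)
  let e : A := (Scheme.ΓSpecIso (CommRingCat.of A)).hom e'
  have he' : toSec U e = X.presheaf.map (homOfLE (le_top : U ≤ ⊤)).op e' :=
    congrArg (X.presheaf.map (homOfLE (le_top : U ≤ ⊤)).op).hom
      ((Scheme.ΓSpecIso (CommRingCat.of A)).hom_inv_id_apply e')
  have hz : X.presheaf.map (homOfLE (X.basicOpen_le (toSec U f))).op (toSec U (f ^ n) * b - toSec U e) = 0 := by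
    have hle : X.basicOpen (toSec U f) ≤ X.basicOpen g := by
      rw [basicOpen_toSec, show X.basicOpen g = PrimeSpectrum.basicOpen f from
        basicOpen_eq_of_affine (R := CommRingCat.of A) f]
      exact inf_le_right
    have hc : (X.presheaf.map (homOfLE hle).op).hom ((X.presheaf.map (homOfLE hWU).op).hom b) *
        (X.presheaf.map (homOfLE hle).op).hom
          ((X.presheaf.map (homOfLE (le_top : X.basicOpen g ≤ ⊤)).op).hom (g ^ n)) =
        (X.presheaf.map (homOfLE hle).op).hom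
          ((X.presheaf.map (homOfLE (le_top : X.basicOpen g ≤ ⊤)).op).hom e') :=
      (map_mul _ _ _).symm.trans (congrArg (X.presheaf.map (homOfLE hle).op).hom he)
    rw [res_res _ _ b, res_res _ _ (g ^ n), res_res _ _ e', mul_comm] at hc
    rw [map_sub, map_mul, sub_eq_zero]
    erw [res_toSec, he', res_res]
    rw [map_pow]
    exact hc
  obtain ⟨m, hm⟩ := exists_pow_mul_eq_zero_of_res_basicOpen_eq_zero_of_isCompact X hU _ _ hz
  refine ⟨m + n, f ^ m * e, ?_⟩
  rw [mul_sub, sub_eq_zero, ← mul_assoc, ← map_pow, ← map_mul, ← map_mul, ← pow_add] at hm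
  exact hm.symm

theorem exists_pow_mul_eq_zero (hU : IsCompact U.1)
    {f : A} (hf : f ∈ I) {t : A} (ht : toSec U t = 0) : ∃ n : ℕ, f ^ n * t = 0 := by
  let X := Spec (CommRingCat.of A)
  let g : Γ(X, ⊤) := (Scheme.ΓSpecIso (CommRingCat.of A)).inv f
  have hWU : X.basicOpen g ≤ U := by
    intro x hx
    rw [show X.basicOpen g = PrimeSpectrum.basicOpen f from
      basicOpen_eq_of_affine (R := CommRingCat.of A) f] at hx
    exact basicOpen_le hUI hf hx
  have h1 : algebraMap Γ(X, ⊤) Γ(X, X.basicOpen g) ((Scheme.ΓSpecIso (CommRingCat.of A)).inv t) = 0 := by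
    have := congrArg (X.presheaf.map (homOfLE hWU).op).hom ht
    simp only [map_zero, toSec, RingHom.coe_comp, Function.comp_apply, ← CommRingCat.comp_apply,
      ← Functor.map_comp] at this
    exact this
  obtain ⟨⟨_, n, rfl⟩, hn⟩ := (IsLocalization.map_eq_zero_iff (Submonoid.powers g) _ _).1 h1
  refine ⟨n, ?_⟩
  have := congrArg (Scheme.ΓSpecIso (CommRingCat.of A)).hom.hom hn
  simpa [g] using this

variable [IsNoetherianRing A]

theorem exists_pow_mul_range (hU : IsCompact U.1)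
    (b : Γ(Spec (CommRingCat.of A), U)) :
    ∃ K : ℕ, ∀ c ∈ I ^ K, ∃ e : A, toSec U e = toSec U c * b := by
  let J : Ideal A :=
    { carrier := {c | ∃ e : A, toSec U e = toSec U c * b}
      zero_mem' := ⟨0, by simp⟩
      add_mem' := by
        rintro x y ⟨e, he⟩ ⟨e', he'⟩
        exact ⟨e + e', by simp [add_mul, he, he']⟩
      smul_mem' := by
        rintro r x ⟨e, he⟩
        exact ⟨r * e, by simp [mul_assoc, he]⟩ }
  obtain ⟨K, hK⟩ := Ideal.exists_pow_le_of_le_radical_of_fg (I := I) (J := J)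
    (fun f hf => by
      obtain ⟨n, e, he⟩ := exists_pow_mul_mem_range hUI hU hf b
      exact ⟨n, e, he⟩) (IsNoetherian.noetherian I)
  exact ⟨K, fun c hc => hK hc⟩

theorem exists_pow_ker (hU : IsCompact U.1) :
    ∃ s : ℕ, ∀ u ∈ I ^ s, ∀ t : A, toSec U t = 0 → u * t = 0 := by
  let J : Ideal A := (RingHom.ker (toSec U)).annihilator
  obtain ⟨s, hs⟩ := Ideal.exists_pow_le_of_le_radical_of_fg (I := I) (J := J)
    (fun f hf => by
      obtain ⟨G, hG⟩ := IsNoetherian.noetherian (RingHom.ker (toSec U))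
      choose! n hn using fun t (ht : t ∈ RingHom.ker (toSec U)) =>
        exists_pow_mul_eq_zero hUI hU hf (RingHom.mem_ker.1 ht)
      refine ⟨G.sup n, Submodule.mem_annihilator.2 fun t ht => ?_⟩
      rw [← hG] at ht
      induction ht using Submodule.span_induction with
      | mem g hg =>
        have hg' : g ∈ RingHom.ker (toSec U) := hG ▸ Submodule.subset_span hg
        obtain ⟨k, hk⟩ := Nat.exists_eq_add_of_le (Finset.le_sup (f := n) hg)
        rw [smul_eq_mul, hk, add_comm, pow_add, mul_assoc, hn g hg', mul_zero]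
      | zero => simp
      | add x y _ _ hx hy => rw [smul_add, hx, hy, add_zero]
      | smul r x _ hx => rw [smul_comm, hx, smul_zero]) (IsNoetherian.noetherian I)
  exact ⟨s, fun u hu t ht => Submodule.mem_annihilator.1 (hs hu) t (RingHom.mem_ker.2 ht)⟩

theorem exists_hom (hU : IsCompact U.1)
    (b : Γ(Spec (CommRingCat.of A), U)) :
    ∃ (k : ℕ) (g : (I ^ k : Ideal A) →ₗ[A] A), ∀ c, toSec U (g c) = toSec U c.1 * b := by
  obtain ⟨K, hK⟩ := exists_pow_mul_range hUI hU b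
  obtain ⟨s, hs⟩ := exists_pow_ker hUI hU
  let P : Submodule A (A × A) :=
    { carrier := {x | x.1 ∈ I ^ K ∧ toSec U x.2 = toSec U x.1 * b}
      zero_mem' := ⟨zero_mem _, by simp⟩
      add_mem' := fun hx hy => ⟨add_mem hx.1 hy.1, by simp [hx.2, hy.2, add_mul]⟩
      smul_mem' := fun r x hx => ⟨(I ^ K).mul_mem_left r hx.1, by simp [hx.2, mul_assoc]⟩ }
  let π : P →ₗ[A] A := (LinearMap.fst A A A).comp P.subtype
  obtain ⟨c₀, hc₀⟩ := I.exists_pow_inf_eq_pow_smul (LinearMap.ker π)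
  let Q : Submodule A P := I ^ (c₀ + s) • ⊤
  have hinj : Function.Injective (π.domRestrict Q) := by
    refine (injective_iff_map_eq_zero _).2 ?_
    rintro ⟨x, hxQ⟩ hx
    have hx' : x ∈ Q ⊓ LinearMap.ker π := ⟨hxQ, hx⟩
    rw [hc₀ (c₀ + s) (Nat.le_add_right _ _), Nat.add_sub_cancel_left] at hx'
    have key : x = 0 := by
      refine Submodule.smul_induction_on hx' (fun u hu y hy => ?_) fun y z hy hz => by rw [hy, hz, add_zero]
      have h1 : y.1.1 = 0 := hy.2
      have h2 : toSec U y.1.2 = 0 := by rw [y.2.2, h1, map_zero, zero_mul]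
      exact Subtype.ext (Prod.ext (by simp [h1]) (hs u hu _ h2))
    exact Subtype.ext key
  have hrange : I ^ (c₀ + s + K) ≤ LinearMap.range (π.domRestrict Q) := by
    rw [pow_add]
    refine Ideal.mul_le.2 fun u hu v hv => ?_
    obtain ⟨e, he⟩ := hK v hv
    exact ⟨⟨u • (⟨(v, e), hv, he⟩ : P), Submodule.smul_mem_smul hu Submodule.mem_top⟩, rfl⟩
  let E := LinearEquiv.ofInjective (π.domRestrict Q) hinj
  refine ⟨c₀ + s + K, ((LinearMap.snd A A A).comp P.subtype).comp
    (Q.subtype.comp (E.symm.toLinearMap.comp (Submodule.inclusion hrange))), fun c => ?_⟩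
  have hc : (π.domRestrict Q) (E.symm (Submodule.inclusion hrange c)) = c.1 :=
    congrArg Subtype.val (E.apply_symm_apply (Submodule.inclusion hrange c))
  have := (E.symm (Submodule.inclusion hrange c)).1.2.2
  exact this.trans (congrArg (fun t => toSec U t * b) hc)

open Groth.LocCohTransform in
open scoped Classical in
theorem smul_top_DT (hU : IsAffineOpen U) :
    I • (⊤ : Submodule A (LocCoh.DT I A)) = ⊤ := by
  have h1 : (1 : Γ(Spec (CommRingCat.of A), U)) ∈ Ideal.span (toSec U '' (I : Set A)) := by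
    rw [span_toSec_eq_top hUI hU]; trivial
  obtain ⟨l, hl, hsum⟩ := (Finsupp.mem_span_image_iff_linearCombination _).1 h1
  choose k g hg using fun a : A => exists_hom hUI hU.isCompact (l a)
  obtain ⟨s, hs⟩ := exists_pow_ker hUI hU.isCompact
  let K₀ := l.support.sup k
  have hk : ∀ a ∈ l.support, k a ≤ K₀ := fun a ha => Finset.le_sup ha
  let gg (a : A) : (I ^ K₀ : Ideal A) →ₗ[A] A :=
    if h : a ∈ l.support then (g a).comp (Submodule.inclusion (Ideal.pow_le_pow_right (hk a h))) else 0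
  have hgg : ∀ a ∈ l.support, ∀ c, toSec U (gg a c) = toSec U c.1 * l a := fun a ha c => by
    simp only [gg, dif_pos ha, LinearMap.comp_apply, hg]
    rfl
  let d : (I ^ K₀ : Ideal A) →ₗ[A] A :=
    (∑ a ∈ l.support, a • gg a) - (I ^ K₀ : Ideal A).subtype
  have hd : ∀ c, toSec U (d c) = 0 := by
    intro c
    have h2 : ∑ a ∈ l.support, l a * toSec U a = 1 := hsum
    simp only [d, LinearMap.sub_apply, LinearMap.sum_apply, LinearMap.smul_apply, smul_eq_mul,
      map_sub, map_sum, map_mul, Submodule.subtype_apply]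
    rw [Finset.sum_congr rfl fun a ha => by rw [hgg a ha c, mul_left_comm, mul_comm (toSec U a)]]
    rw [← Finset.mul_sum, h2, mul_one, sub_self]
  let k₁ := s + K₀
  have hk₁ : I ^ k₁ ≤ I ^ K₀ := Ideal.pow_le_pow_right (Nat.le_add_left _ _)
  have hd₁ : d.comp (Submodule.inclusion hk₁) = 0 := by
    ext ⟨c, hc⟩
    have hc' : c ∈ I ^ s * I ^ K₀ := by rw [← pow_add]; exact hc
    show d ⟨c, hk₁ hc⟩ = 0
    suffices ∃ h : c ∈ I ^ K₀, d ⟨c, h⟩ = 0 from this.2
    refine Submodule.mul_induction_on hc' (fun u hu v hv => ?_) fun x y hx hy => ?_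
    · refine ⟨(I ^ K₀).mul_mem_left u hv, ?_⟩
      show d (u • (⟨v, hv⟩ : (I ^ K₀ : Ideal A))) = 0
      rw [map_smul]
      exact hs u hu _ (hd _)
    · obtain ⟨hx, hx'⟩ := hx
      obtain ⟨hy, hy'⟩ := hy
      refine ⟨add_mem hx hy, ?_⟩
      show d (⟨x, hx⟩ + ⟨y, hy⟩) = 0
      rw [map_add, hx', hy', add_zero]
  refine eq_top_iff.2 fun y _ => ?_
  obtain ⟨n, f, rfl⟩ := cls_surjective I y
  let G (a : A) : (I ^ k₁ : Ideal A) →ₗ[A] A := (gg a).comp (Submodule.inclusion hk₁)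
  have hG : ∀ a, ∀ c : (I ^ (n + k₁) : Ideal A),
      G a ⟨c, Ideal.pow_le_pow_right (Nat.le_add_left _ _) c.2⟩ ∈ I ^ n := by
    intro a ⟨c, hc⟩
    have hc' : c ∈ I ^ n * I ^ k₁ := by rw [← pow_add]; exact hc
    suffices ∃ h : c ∈ I ^ k₁, G a ⟨c, h⟩ ∈ I ^ n from this.2
    refine Submodule.mul_induction_on hc' (fun u hu v hv => ?_) fun x y hx hy => ?_
    · refine ⟨(I ^ k₁).mul_mem_left u hv, ?_⟩
      show G a (u • (⟨v, hv⟩ : (I ^ k₁ : Ideal A))) ∈ I ^ n
      rw [map_smul]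
      exact (I ^ n).mul_mem_right _ hu
    · obtain ⟨hx, hx'⟩ := hx
      obtain ⟨hy, hy'⟩ := hy
      refine ⟨add_mem hx hy, ?_⟩
      show G a (⟨x, hx⟩ + ⟨y, hy⟩) ∈ I ^ n
      rw [map_add]
      exact add_mem hx' hy'
  let h (a : A) : (I ^ (n + k₁) : Ideal A) →ₗ[A] A :=
    f.comp (((G a).comp (Submodule.inclusion (Ideal.pow_le_pow_right (Nat.le_add_left k₁ n)))).codRestrict
      (I ^ n) (hG a))
  have key : f.comp (Submodule.inclusion (Groth.LocCohTransform.pow_le I (Nat.le_add_right n k₁))) =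
      ∑ a ∈ l.support, a • h a := by
    ext ⟨c, hc⟩
    have hck : c ∈ I ^ k₁ := Ideal.pow_le_pow_right (Nat.le_add_left _ _) hc
    have := LinearMap.congr_fun hd₁ ⟨c, hck⟩
    have h3 : ∑ a ∈ l.support, a * G a ⟨c, hck⟩ = c := sub_eq_zero.1 (by
      simpa [d, G] using this)
    simp only [LinearMap.sum_apply, LinearMap.smul_apply, h, LinearMap.comp_apply, ← map_smul, ← map_sum]
    congr 1
    apply Subtype.ext
    simp only [AddSubmonoidClass.coe_finsetSum, map_smul]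
    exact h3.symm
  rw [← cls_restrict I (Nat.le_add_right n k₁) f, key, map_sum]
  refine Submodule.sum_mem _ fun a ha => ?_
  rw [map_smul]
  exact Submodule.smul_mem_smul (hl ha) Submodule.mem_top

theorem height_le_one (hU : IsAffineOpen U) {p : Ideal A}
    (hp : p ∈ I.minimalPrimes) : p.height ≤ 1 :=
  Groth.LocCohTransform.height_le_one_of_exact I
    ((Groth.LocCohTransform.exact_iff_smul_top I).2 (smul_top_DT hUI hU)) hp

end Groth.RefRank.AffineCompl

namespace Groth.RefRank.AffineCompl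

theorem height_le_one_of_generic {A : Type u} [CommRing A] [IsNoetherianRing A]
    (U : (Spec (CommRingCat.of A)).Opens) (hU : IsAffineOpen U) (p : PrimeSpectrum A)
    (hpU : (p : ↥(Spec (CommRingCat.of A))) ∉ U)
    (hmin : ∀ q : PrimeSpectrum A, q.asIdeal ≤ p.asIdeal → (q : ↥(Spec (CommRingCat.of A))) ∉ U → q = p) :
    p.asIdeal.height ≤ 1 := by
  obtain ⟨I, hI⟩ := (PrimeSpectrum.isClosed_iff_zeroLocus_ideal (R := A) _).1 U.isOpen.isClosed_compl
  have hmem : ∀ q : PrimeSpectrum A, (q : ↥(Spec (CommRingCat.of A))) ∉ U ↔ I ≤ q.asIdeal := fun q =>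
    (Set.ext_iff.1 hI q).trans (PrimeSpectrum.mem_zeroLocus _ _)
  have hUI : ∀ x : ↥(Spec (CommRingCat.of A)), x ∈ U ↔
      ∃ f ∈ I, f ∉ (x : PrimeSpectrum A).asIdeal := fun x => by
    refine ⟨fun hx => ?_, fun ⟨f, hf, hfx⟩ => by_contra fun hx => hfx ((hmem x).1 hx hf)⟩
    by_contra! hc
    exact (hmem x).2 hc hx
  refine height_le_one (I := I) hUI hU ⟨⟨p.2, (hmem p).1 hpU⟩, fun q hq hqp => ?_⟩
  exact (congrArg PrimeSpectrum.asIdeal (hmin ⟨q, hq.1⟩ hqp ((hmem ⟨q, hq.1⟩).2 hq.2))).ge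

theorem ringKrullDim_stalk_eq_height {X : Scheme.{u}} {V : X.Opens} (hV : IsAffineOpen V) (x : V) :
    ringKrullDim (X.presheaf.stalk x) = (hV.primeIdealOf x).asIdeal.height := by
  let := X.presheaf.algebra_section_stalk x
  have := hV.isLocalization_stalk x
  exact IsLocalization.AtPrime.ringKrullDim_eq_height (hV.primeIdealOf x).asIdeal _

theorem fromSpec_specializes {X : Scheme.{u}} {V : X.Opens} (hV : IsAffineOpen V)
    {q p : PrimeSpectrum Γ(X, V)} (h : q.asIdeal ≤ p.asIdeal) : hV.fromSpec q ⤳ hV.fromSpec p :=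
  ((PrimeSpectrum.le_iff_specializes q p).1 h).map hV.fromSpec.base.hom.continuous

theorem stalk_dim_le_one {X : Scheme.{u}} [IsLocallyNoetherian X] (U : X.Opens) [IsAffineHom U.ι]
    (ξ : X) (hξ : ξ ∉ U) (hgen : ∀ y : X, y ∉ U → y ⤳ ξ → y = ξ) :
    ringKrullDim (X.presheaf.stalk ξ) ≤ 1 := by
  obtain ⟨_, ⟨V, hV, rfl⟩, hξV, -⟩ :=
    X.isBasis_affineOpens.exists_subset_of_mem_open (Set.mem_univ ξ) isOpen_univ
  replace hV : IsAffineOpen V := hV
  have := IsLocallyNoetherian.component_noetherian ⟨V, hV⟩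
  have hUV : IsAffineOpen (U ⊓ V) := by
    have := (hV.preimage U.ι).image_of_isOpenImmersion U.ι
    rwa [U.ι.image_preimage_eq_opensRange_inf, U.opensRange_ι] at this
  let T : (Spec (CommRingCat.of Γ(X, V))).Opens := hV.fromSpec ⁻¹ᵁ U
  have hT : IsAffineOpen T := by
    have h1 := hUV.preimage_of_isOpenImmersion hV.fromSpec (by
      rw [hV.opensRange_fromSpec]; exact inf_le_right)
    have h2 : hV.fromSpec ⁻¹ᵁ (U ⊓ V) = T := by
      show hV.fromSpec ⁻¹ᵁ U ⊓ hV.fromSpec ⁻¹ᵁ V = T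
      rw [hV.fromSpec_preimage_self, inf_top_eq]
    exact h2 ▸ h1
  rw [ringKrullDim_stalk_eq_height hV ⟨ξ, hξV⟩]
  have hfp := hV.fromSpec_primeIdealOf ⟨ξ, hξV⟩
  refine WithBot.coe_le_coe.2 (height_le_one_of_generic T hT _ (fun h => hξ ?_) fun q hq hqT => ?_)
  · have h' : hV.fromSpec (hV.primeIdealOf ⟨ξ, hξV⟩) ∈ U := h
    rwa [hfp] at h'
  · refine hV.fromSpec.isOpenEmbedding.injective ((hgen _ hqT ?_).trans hfp.symm)
    exact (fromSpec_specializes hV hq).trans (specializes_of_eq hfp)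

theorem stalk_dim_ne_zero {X : Scheme.{u}} [IsLocallyNoetherian X] (U : X.Opens)
    (ξ : X) (hξ : ξ ∉ U) (hcl : ξ ∈ closure (U : Set X)) :
    ringKrullDim (X.presheaf.stalk ξ) ≠ 0 := by
  obtain ⟨_, ⟨V, hV, rfl⟩, hξV, -⟩ :=
    X.isBasis_affineOpens.exists_subset_of_mem_open (Set.mem_univ ξ) isOpen_univ
  replace hV : IsAffineOpen V := hV
  have := IsLocallyNoetherian.component_noetherian ⟨V, hV⟩
  intro h0
  rw [ringKrullDim_stalk_eq_height hV ⟨ξ, hξV⟩] at h0
  let p := hV.primeIdealOf ⟨ξ, hξV⟩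
  have hfp : hV.fromSpec p = ξ := hV.fromSpec_primeIdealOf ⟨ξ, hξV⟩
  have hp : p.asIdeal ∈ minimalPrimes Γ(X, V) := by
    rw [← Ideal.height_eq_zero_iff]
    exact_mod_cast h0
  obtain ⟨f, hf⟩ : ∃ f, ∀ q : Ideal Γ(X, V), q ∈ minimalPrimes Γ(X, V) → (q = p.asIdeal ↔ f ∉ q) := by
    classical
    have hfin := minimalPrimes.finite_of_isNoetherianRing Γ(X, V)
    obtain ⟨f, hf, hfp'⟩ : ∃ f ∈ (hfin.toFinset.erase p.asIdeal).inf id, f ∉ p.asIdeal := by
      refine SetLike.not_le_iff_exists.1 fun hle => ?_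
      obtain ⟨q, hq, hqp⟩ := (Ideal.IsPrime.inf_le' p.2).1 hle
      rw [Finset.mem_erase, Set.Finite.mem_toFinset] at hq
      exact hq.1 (le_antisymm hqp (hp.2 hq.2.1 hqp))
    exact ⟨f, fun q hq => ⟨fun e => e ▸ hfp', fun hfq => by_contra fun hne => hfq
      ((Finset.inf_le (f := id) (Finset.mem_erase.2 ⟨hne, hfin.mem_toFinset.2 hq⟩)) hf)⟩⟩
  let W : X.Opens := hV.fromSpec ''ᵁ PrimeSpectrum.basicOpen f
  obtain ⟨y, ⟨q, hq, rfl⟩, hyU⟩ :=
    mem_closure_iff.1 hcl W.1 W.2 ⟨p, ((hf _ hp).1 rfl : f ∉ p.asIdeal), hfp⟩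
  obtain ⟨r, hr, hrq⟩ := Ideal.exists_minimalPrimes_le (bot_le : (⊥ : Ideal Γ(X, V)) ≤ q.asIdeal)
  have hrp : r = p.asIdeal := (hf r hr).2 fun h => hq (hrq h)
  have hs : ξ ⤳ hV.fromSpec q :=
    (specializes_of_eq hfp.symm).trans (fromSpec_specializes hV (hrp ▸ hrq))
  exact hξ (hs.mem_open U.2 hyU)

end Groth.RefRank.AffineCompl

namespace Groth.RefRank.AffineCompl

theorem stalk_dim_eq_one {X : Scheme.{u}} [IsLocallyNoetherian X] (U : X.Opens) [IsAffineHom U.ι]
    (ξ : X) (hξ : ξ ∉ U) (hgen : ∀ y : X, y ∉ U → y ⤳ ξ → y = ξ)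
    (hcl : ξ ∈ closure (U : Set X)) : ringKrullDim (X.presheaf.stalk ξ) = 1 := by
  have h1 := stalk_dim_le_one U ξ hξ hgen
  have h0 := stalk_dim_ne_zero U ξ hξ hcl
  have hb : (ringKrullDim (X.presheaf.stalk ξ)) ≠ ⊥ := ringKrullDim_ne_bot
  obtain ⟨d, hd⟩ := WithBot.ne_bot_iff_exists.1 hb
  rw [← hd] at h1 h0 ⊢
  have h1' : d ≤ 1 := WithBot.coe_le_coe.1 h1
  have h0' : d ≠ 0 := fun e => h0 (e ▸ rfl)
  exact WithBot.coe_eq_coe.2 (le_antisymm h1' (Order.one_le_iff_ne_zero.2 h0'))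

end Groth.RefRank.AffineCompl
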