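import Mathlib
import Groth.Prelude.Def_CDiv
import Groth.Agent.Calg1.SerreConditions

/-!
# Divisors on integral schemes and points of depth one
-/

set_option autoImplicit false
universe u

open CategoryTheory AlgebraicGeometry TopologicalSpace IsLocalRing

namespace Groth.RefRank.CDivDepth

theorem depth_eq_one_of_pow_maximalIdeal {R K : Type u} [CommRing R] [IsDomain R] [IsLocalRing R]
    [IsNoetherianRing R] [Field K] [Algebra R K] [IsFractionRing R K] (f : K)
    (hf : f ∉ Set.range (algebraMap R K)) (n : ℕ)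
    (hn : ∀ r ∈ maximalIdeal R ^ n, algebraMap R K r * f ∈ Set.range (algebraMap R K)) :
    LocCoh.depth R R = 1 := by
  induction n generalizing f with
  | zero =>
    refine absurd ?_ hf
    simpa using hn 1 (by simp)
  | succ n ih =>
    by_cases h : ∀ c ∈ maximalIdeal R ^ n, algebraMap R K c * f ∈ Set.range (algebraMap R K)
    · exact ih f hf h
    push_neg at h
    obtain ⟨c, hc, hg⟩ := h
    have hmg : ∀ t ∈ maximalIdeal R,
        algebraMap R K t * (algebraMap R K c * f) ∈ Set.range (algebraMap R K) := fun t ht => by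
      rw [← mul_assoc, ← map_mul, mul_comm t c]
      exact hn _ (pow_succ (maximalIdeal R) n ▸ Ideal.mul_mem_mul hc ht)
    obtain ⟨x, hxm, hx0⟩ : ∃ x ∈ maximalIdeal R, x ≠ 0 := by
      by_contra! hall
      have hbot : maximalIdeal R = ⊥ := eq_bot_iff.2 fun x hx => hall x hx
      have hfld : IsField R := IsLocalRing.isField_iff_maximalIdeal_eq.2 hbot
      have hsurj : Function.Surjective (algebraMap R K) := by
        intro z
        obtain ⟨a, b, hb, rfl⟩ := IsFractionRing.div_surjective (A := R) z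
        obtain ⟨b', hb'⟩ := hfld.mul_inv_cancel (nonZeroDivisors.ne_zero hb)
        refine ⟨a * b', ?_⟩
        rw [eq_div_iff (IsFractionRing.to_map_ne_zero_of_mem_nonZeroDivisors hb), ← map_mul, mul_assoc,
          mul_comm b' b, hb', mul_one]
      exact hf (hsurj f)
    have hxreg : IsSMulRegular R x := fun a b hab => mul_left_cancel₀ hx0 hab
    have hIM : maximalIdeal R • (⊤ : Submodule R R) ≠ ⊤ :=
      Groth.LocCohBase.smul_maximalIdeal_ne_top R (maximalIdeal.isMaximal R).ne_top
    have h1 : ((1 : ℕ) : ℕ∞) ≤ LocCoh.depth R R :=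
      (Groth.LocCohBase.le_idealDepth_iff_exists _ hIM 1).2
        ⟨[x], rfl, (RingTheory.Sequence.isWeaklyRegular_singleton_iff _ _).2 hxreg, by simpa using hxm⟩
    refine le_antisymm (not_lt.1 fun h2 => hg ?_) h1
    have h2' : (2 : ℕ∞) ≤ LocCoh.depth R R := by
      have := (ENat.add_one_le_iff ENat.one_ne_top).2 h2
      norm_num at this ⊢
      exact this
    obtain ⟨y, hy⟩ := hmg x hxm
    have hdvd : x ∣ y := by
      refine Groth.Calg1.dvd_of_two_le_depth h2' hxreg hxm fun t ht => ?_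
      obtain ⟨z, hz⟩ := hmg t ht
      exact ⟨z, IsFractionRing.injective R K (by rw [map_mul, map_mul, hy, hz]; ring)⟩
    obtain ⟨w, rfl⟩ := hdvd
    refine ⟨w, mul_left_cancel₀ ?_ (show algebraMap R K x * algebraMap R K w = _ from
      (map_mul _ _ _).symm.trans hy)⟩
    exact fun e => hx0 (IsFractionRing.injective R K (e.trans (map_zero _).symm))

variable {X : Scheme.{u}} [IsIntegral X]

theorem isEffectiveAt_iff {D : CDiv.Divisor X} {x : X} {f : CDiv.KUnits X}
    (hf : D.1 x = CDiv.germOf X x f) :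
    CDiv.IsEffectiveAt D x ↔ (f : X.functionField) ∈ Set.range (algebraMap (X.presheaf.stalk x) X.functionField) := by
  constructor
  · rintro ⟨a, ha, he⟩
    obtain ⟨v, hv⟩ := QuotientGroup.eq.1 (he.symm.trans hf)
    refine ⟨a * v, ?_⟩
    have h := congrArg (fun u : CDiv.KUnits X => (Units.mk0 _ ha * u : CDiv.KUnits X)) hv
    simp only [mul_inv_cancel_left] at h
    rw [map_mul, ← h]
    rfl
  · rintro ⟨a, ha⟩
    refine ⟨a, ha ▸ f.ne_zero, hf.trans (congrArg _ (Units.ext ha.symm))⟩

theorem eq_one_iff {D : CDiv.Divisor X} {x : X} :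
    D.1 x = 1 ↔ CDiv.IsEffectiveAt D x ∧ CDiv.IsEffectiveAt D⁻¹ x := by
  obtain ⟨f, hf⟩ := QuotientGroup.mk_surjective (D.1 x)
  have hf' : (D⁻¹).1 x = CDiv.germOf X x f⁻¹ := by
    show (D.1 x)⁻¹ = _
    rw [← hf]
    rfl
  rw [isEffectiveAt_iff hf.symm, isEffectiveAt_iff hf', ← hf, QuotientGroup.eq_one_iff]
  constructor
  · rintro ⟨v, rfl⟩
    exact ⟨⟨v, rfl⟩, ⟨(v⁻¹ : (X.presheaf.stalk x)ˣ), by rw [← map_inv]; rfl⟩⟩
  · rintro ⟨⟨a, ha⟩, ⟨b, hb⟩⟩
    refine ⟨⟨a, b, ?_, ?_⟩, Units.ext ha⟩ <;>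
      refine IsFractionRing.injective (X.presheaf.stalk x) X.functionField ?_ <;>
      simp [ha, hb]

variable [IsLocallyNoetherian X]

theorem effective_of_depth_one (D : CDiv.Divisor X) (x : X)
    (h : ∀ y : X, y ⤳ x → LocCoh.depth (X.presheaf.stalk y) (X.presheaf.stalk y) = 1 →
      CDiv.IsEffectiveAt D y) :
    CDiv.IsEffectiveAt D x := by
  obtain ⟨U, f, hxU, hU⟩ := D.2 x
  obtain ⟨_, ⟨V, hV, rfl⟩, hxV, hVU⟩ :=
    X.isBasis_affineOpens.exists_subset_of_mem_open (a := x) (u := (U : Set X)) hxU U.2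
  replace hV : IsAffineOpen V := hV
  have := IsLocallyNoetherian.component_noetherian ⟨V, hV⟩
  have : Nonempty V := ⟨⟨x, hxV⟩⟩
  let J : Ideal Γ(X, V) :=
    { carrier := {a | ∃ b, X.germToFunctionField V b = X.germToFunctionField V a * (f : X.functionField)}
      zero_mem' := ⟨0, by simp⟩
      add_mem' := by
        rintro a a' ⟨b, hb⟩ ⟨b', hb'⟩
        exact ⟨b + b', by simp [hb, hb', add_mul]⟩
      smul_mem' := by
        rintro r a ⟨b, hb⟩
        exact ⟨r * b, by simp [hb, mul_assoc]⟩ }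
  have hιR : ∀ (z : V) (a : Γ(X, V)),
      algebraMap (X.presheaf.stalk z) X.functionField (X.presheaf.germ V z z.2 a) =
        X.germToFunctionField V a := fun z a => Scheme.algebraMap_germ_eq_germToFunctionField X z.2 a
  have key : ∀ z : V, CDiv.IsEffectiveAt D z ↔ ¬ J ≤ (hV.primeIdealOf z).asIdeal := by
    intro z
    let := X.presheaf.algebra_section_stalk z
    have := hV.isLocalization_stalk z
    rw [isEffectiveAt_iff (hU z (hVU z.2)), SetLike.not_le_iff_exists]
    constructor
    · rintro ⟨a, ha⟩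
      obtain ⟨⟨b, s⟩, hbs⟩ := IsLocalization.surj (hV.primeIdealOf z).asIdeal.primeCompl a
      refine ⟨s.1, ⟨b, ?_⟩, s.2⟩
      have := congrArg (algebraMap (X.presheaf.stalk z) X.functionField) hbs
      rw [map_mul, ha] at this
      erw [hιR z s.1, hιR z b] at this
      rw [← this, mul_comm]
    · rintro ⟨s, ⟨b, hb⟩, hs⟩
      refine ⟨IsLocalization.mk' _ b (⟨s, hs⟩ : (hV.primeIdealOf z).asIdeal.primeCompl), ?_⟩
      have h0 : X.germToFunctionField V s ≠ 0 := fun e => hs (by
        rw [(map_eq_zero_iff _ (Scheme.germToFunctionField_injective X V)).1 e]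
        exact zero_mem _)
      refine mul_right_cancel₀ h0 ?_
      have := congrArg (algebraMap (X.presheaf.stalk z) X.functionField)
        (IsLocalization.mk'_spec (X.presheaf.stalk z) b (⟨s, hs⟩ : (hV.primeIdealOf z).asIdeal.primeCompl))
      rw [map_mul] at this
      erw [hιR z s, hιR z b] at this
      rw [mul_comm (f : X.functionField)]
      exact this.trans hb
  by_contra hx
  obtain ⟨P, hP, hPx⟩ := Ideal.exists_minimalPrimes_le (not_not.1 ((key ⟨x, hxV⟩).not.1 hx))
  let q : PrimeSpectrum Γ(X, V) := ⟨P, hP.1.1⟩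
  have hyV : hV.fromSpec q ∈ V := Set.ext_iff.1 hV.range_fromSpec _ |>.1 ⟨q, rfl⟩
  let z : V := ⟨hV.fromSpec q, hyV⟩
  have hq : hV.primeIdealOf z = q :=
    hV.fromSpec.isOpenEmbedding.injective (hV.fromSpec_primeIdealOf z)
  have hzx : (z : X) ⤳ x := by
    have := ((PrimeSpectrum.le_iff_specializes q (hV.primeIdealOf ⟨x, hxV⟩)).1 hPx).map
      hV.fromSpec.base.hom.continuous
    exact this.trans (specializes_of_eq (hV.fromSpec_primeIdealOf ⟨x, hxV⟩))
  have hnz : ¬ CDiv.IsEffectiveAt D z := by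
    rw [key z, not_not, hq]
    exact hP.1.2
  refine hnz (h z hzx ?_)
  let := X.presheaf.algebra_section_stalk z
  have := hV.isLocalization_stalk z
  have : IsNoetherianRing (X.presheaf.stalk z) :=
    IsLocalization.isNoetherianRing (hV.primeIdealOf z).asIdeal.primeCompl _ inferInstance
  have hnf := mt (isEffectiveAt_iff (hU z (hVU z.2))).2 hnz
  let J' : Ideal (X.presheaf.stalk z) :=
    { carrier := {r | algebraMap _ X.functionField r * (f : X.functionField) ∈
        Set.range (algebraMap (X.presheaf.stalk z) X.functionField)}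
      zero_mem' := ⟨0, by simp⟩
      add_mem' := by
        rintro a a' ⟨b, hb⟩ ⟨b', hb'⟩
        exact ⟨b + b', by simp [hb, hb', add_mul]⟩
      smul_mem' := by
        rintro r a ⟨b, hb⟩
        exact ⟨r * b, by simp [hb, mul_assoc]⟩ }
  have hJJ' : J.map (algebraMap Γ(X, V) (X.presheaf.stalk z)) ≤ J' := by
    refine Ideal.map_le_iff_le_comap.2 ?_
    rintro a ⟨b, hb⟩
    refine ⟨algebraMap Γ(X, V) (X.presheaf.stalk z) b, ?_⟩
    erw [hιR z b, hιR z a]
    exact hb
  have hzP : (hV.primeIdealOf z).asIdeal ∈ J.minimalPrimes := hq.symm ▸ hP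
  have hrad := IsLocalization.AtPrime.radical_map_of_mem_minimalPrimes (X.presheaf.stalk z)
    (hV.primeIdealOf z).asIdeal J hzP
  rw [IsLocalization.AtPrime.map_eq_maximalIdeal (hV.primeIdealOf z).asIdeal (X.presheaf.stalk z)] at hrad
  obtain ⟨n, hn⟩ := Ideal.exists_pow_le_of_le_radical_of_fg hrad.ge (IsNoetherian.noetherian _)
  exact depth_eq_one_of_pow_maximalIdeal (f : X.functionField) hnf n fun r hr => hJJ' (hn hr)

end Groth.RefRank.CDivDepth
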