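import Mathlib
import Groth.Agent.RefRank.CDivDepth
import Groth.Agent.RefRank.LocFin

/-!
# Divisors on integral schemes of dimension one
-/

set_option autoImplicit false
universe u

open CategoryTheory AlgebraicGeometry TopologicalSpace

namespace Groth.RefRank.CDivDepth

variable {X : Scheme.{u}} [IsIntegral X]

theorem mem_range_genericPoint (f : X.functionField) :
    f ∈ Set.range (@algebraMap (X.presheaf.stalk (genericPoint X)) X.functionField _ _
      (stalkFunctionFieldAlgebra X (genericPoint X))) :=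
  ⟨f, by simp [RingHom.algebraMap_toAlgebra]⟩

theorem eq_one_genericPoint (D : CDiv.Divisor X) : D.1 (genericPoint X) = 1 := by
  obtain ⟨f, hf⟩ := QuotientGroup.mk_surjective (D.1 (genericPoint X))
  have hf' : (D⁻¹).1 (genericPoint X) = CDiv.germOf X _ f⁻¹ := by
    show (D.1 _)⁻¹ = _
    rw [← hf]
    rfl
  exact eq_one_iff.2 ⟨(isEffectiveAt_iff hf.symm).2 (mem_range_genericPoint _),
    (isEffectiveAt_iff hf').2 (mem_range_genericPoint _)⟩

theorem isClosed_supp (D : CDiv.Divisor X) : IsClosed (CDiv.supp D) := by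
  rw [← isOpen_compl_iff, isOpen_iff_forall_mem_open]
  intro x hx
  have hx : D.1 x = 1 := not_not.1 hx
  obtain ⟨U, f, hxU, hU⟩ := D.2 x
  obtain ⟨v, hv⟩ := (QuotientGroup.eq_one_iff f).1 ((hU x hxU).symm.trans hx)
  obtain ⟨V, hxV, s, hs⟩ := X.presheaf.exists_germ_eq (v : X.presheaf.stalk x)
  have hxW : x ∈ U ⊓ X.basicOpen s := ⟨hxU, (Scheme.mem_basicOpen X s x hxV).2 (hs ▸ v.isUnit)⟩
  refine ⟨(U ⊓ X.basicOpen s : X.Opens), fun y hy hys => hys ?_, (U ⊓ X.basicOpen s).2, hxW⟩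
  rw [hU y hy.1, CDiv.germOf, QuotientGroup.eq_one_iff]
  have hyV : y ∈ V := X.basicOpen_le s hy.2
  refine ⟨((Scheme.mem_basicOpen X s y hyV).1 hy.2).unit, Units.ext ?_⟩
  have : Nonempty V := ⟨⟨x, hxV⟩⟩
  have h : (f : X.functionField) = algebraMap (X.presheaf.stalk x) X.functionField v :=
    congrArg Units.val hv.symm
  rw [h, ← hs]
  exact (Scheme.algebraMap_germ_eq_germToFunctionField X hyV s).trans
    (Scheme.algebraMap_germ_eq_germToFunctionField X hxV s).symm

section

variable (hdim : topologicalKrullDim ↥X ≤ 1)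
include hdim

theorem coheight_eq_one {x : X} (hx : x ≠ genericPoint ↥X) : Order.coheight x = 1 := by
  have hk : Order.krullDim ↥X ≤ 1 :=
    (Order.krullDim_eq_of_orderIso (irreducibleSetEquivPoints (α := ↥X))).symm.trans_le hdim
  have h1 : Order.coheight x ≤ 1 := WithBot.coe_le_coe.1 ((Order.coheight_le_krullDim x).trans hk)
  refine le_antisymm h1 (Order.one_le_iff_ne_zero.2 fun h0 => hx ?_)
  exact (((genSpec x).antisymm (Scheme.le_iff_specializes.mp
    (Order.coheight_eq_zero.mp h0 (le_of_specializes (genSpec x))))).eq).symm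

theorem dim_stalk_eq_one {x : X} (hx : x ≠ genericPoint ↥X) :
    ringKrullDim (X.presheaf.stalk x) = 1 := by
  rw [ringKrullDim_stalk_eq_coheight, coheight_eq_one hdim hx]
  rfl

theorem isClosed_singleton' {x : X} (hx : x ≠ genericPoint ↥X) : IsClosed ({x} : Set X) := by
  refine isClosed_of_closure_subset fun y hy => ?_
  have hxy : x ⤳ y := specializes_iff_mem_closure.2 hy
  by_contra hne
  refine hx (eq_genericPoint_of_specializes (coheight_eq_one hdim fun e => ?_) hxy fun e => hne e.symm)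
  subst e
  exact hx (((genSpec x).antisymm hxy).eq.symm)

variable [IsLocallyNoetherian X]

theorem finite_inter {W U : X.Opens} (hW : genericPoint ↥X ∈ W) (hU : IsAffineOpen U) {Z : Set X}
    (hZ : ∀ z ∈ Z, z ∉ W) : ((U : Set X) ∩ Z).Finite :=
  (finite_codim_one_compl hW hU).subset fun z hz =>
    ⟨hz.1, coheight_eq_one hdim fun e => hZ z hz.2 (e ▸ hW), hZ z hz.2⟩

theorem discrete_of_not_mem {Z : Set X} {W : X.Opens} (hW : genericPoint ↥X ∈ W)
    (hZ : ∀ z ∈ Z, z ∉ W) : DiscreteTopology ↥Z := by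
  refine discreteTopology_iff_isOpen_singleton.2 fun z => isOpen_induced_iff.2 ?_
  obtain ⟨U, hU, hzU⟩ := Groth.QCohMod.exists_affine_mem z.1
  have hfin : (((U : Set X) ∩ Z) \ {z.1}).Finite := (finite_inter hdim hW hU hZ).sdiff
  have hcl : IsClosed (((U : Set X) ∩ Z) \ {z.1}) := by
    rw [← Set.biUnion_of_singleton (((U : Set X) ∩ Z) \ {z.1})]
    exact hfin.isClosed_biUnion fun w hw => isClosed_singleton' hdim fun e => hZ w hw.1.2 (e ▸ hW)
  refine ⟨(U : Set X) \ (((U : Set X) ∩ Z) \ {z.1}), U.2.sdiff hcl, ?_⟩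
  ext w
  constructor
  · rintro ⟨hwU, hw⟩
    exact Subtype.ext (by_contra fun hne => hw ⟨⟨hwU, w.2⟩, hne⟩)
  · rintro rfl
    exact ⟨hzU, fun h => h.2 rfl⟩

theorem supp_closed_discrete (D : CDiv.Divisor X) :
    IsClosed (CDiv.supp D) ∧ DiscreteTopology ↥(CDiv.supp D) :=
  ⟨isClosed_supp D, discrete_of_not_mem hdim
    (W := ⟨(CDiv.supp D)ᶜ, (isClosed_supp D).isOpen_compl⟩)
    (fun h => h (eq_one_genericPoint D)) fun _ hz h => h hz⟩

omit hdim [IsLocallyNoetherian X] in
theorem isClosed_of_subset_discrete {E F : Set X} (hE : IsClosed E) (hEd : DiscreteTopology ↥E)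
    (hF : F ⊆ E) : IsClosed F := by
  have h : IsClosed (Subtype.val ⁻¹' F : Set E) := isClosed_discrete _
  have := hE.isClosedEmbedding_subtypeVal.isClosedMap _ h
  rwa [Subtype.image_preimage_coe, Set.inter_eq_right.2 hF] at this

theorem existsUnique_divisor (E : Set X) (hE : IsClosed E) (hEd : DiscreteTopology ↥E)
    (d : ∀ x : X, CDiv.Germ X x) :
    ∃! D : CDiv.Divisor X, CDiv.supp D ⊆ E ∧ ∀ x ∈ E, D.1 x = d x := by
  classical
  refine ⟨⟨fun x => if x ∈ E then d x else 1, fun x => ?_⟩, ⟨fun x hx => ?_, fun x hx => if_pos hx⟩, ?_⟩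
  · by_cases hx : x ∈ E
    · obtain ⟨f, hf⟩ := QuotientGroup.mk_surjective (d x)
      have h1 : IsClosed (E \ {x}) := isClosed_of_subset_discrete hE hEd Set.sdiff_subset
      have h2 : IsClosed (CDiv.supp (CDiv.div f) \ {x}) :=
        isClosed_of_subset_discrete (isClosed_supp _) (supp_closed_discrete hdim _).2 Set.sdiff_subset
      refine ⟨⟨(E \ {x} ∪ CDiv.supp (CDiv.div f) \ {x})ᶜ, (h1.union h2).isOpen_compl⟩, f,
        fun h => h.elim (fun h => h.2 rfl) (fun h => h.2 rfl), fun y hy => ?_⟩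
      by_cases hyx : y = x
      · subst hyx
        exact (if_pos hx).trans hf.symm
      · refine (if_neg fun h : y ∈ E => hy (Or.inl ⟨h, hyx⟩)).trans ?_
        exact (not_not.1 fun h => hy (Or.inr ⟨h, hyx⟩) : (CDiv.div f).1 y = 1).symm
    · refine ⟨⟨Eᶜ, hE.isOpen_compl⟩, 1, hx, fun y hy => ?_⟩
      exact if_neg (hy : y ∉ E)
  · by_contra h
    exact hx (if_neg h)
  · rintro D ⟨hs, hD⟩
    refine Subtype.ext (funext fun x => ?_)
    by_cases hx : x ∈ E
    · exact (hD x hx).trans (if_pos hx).symm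
    · exact (not_not.1 fun h => hx (hs h) : D.1 x = 1).trans (if_neg hx).symm

theorem exists_sub_effective (D : CDiv.Divisor X) :
    ∃ D' D'' : CDiv.Divisor X, CDiv.IsEffective D' ∧ CDiv.IsEffective D'' ∧ D = D' * D''⁻¹ ∧
      CDiv.supp D' ⊆ CDiv.supp D ∧ CDiv.supp D'' ⊆ CDiv.supp D := by
  classical
  have key : ∀ x : X, ∃ (a b : CDiv.KUnits X),
      (a : X.functionField) ∈ Set.range (algebraMap (X.presheaf.stalk x) X.functionField) ∧
      (b : X.functionField) ∈ Set.range (algebraMap (X.presheaf.stalk x) X.functionField) ∧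
      D.1 x = CDiv.germOf X x (a * b⁻¹) := by
    intro x
    obtain ⟨f, hf⟩ := QuotientGroup.mk_surjective (D.1 x)
    obtain ⟨p, q, hq, hpq⟩ :=
      IsFractionRing.div_surjective (A := X.presheaf.stalk x) (f : X.functionField)
    have hq0 := IsFractionRing.to_map_ne_zero_of_mem_nonZeroDivisors (K := X.functionField) hq
    have hp0 : algebraMap (X.presheaf.stalk x) X.functionField p ≠ 0 := fun e => f.ne_zero (by
      rw [← hpq, e, zero_div])
    refine ⟨Units.mk0 _ hp0, Units.mk0 _ hq0, ⟨p, rfl⟩, ⟨q, rfl⟩, hf.symm.trans (congrArg _ (Units.ext ?_))⟩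
    rw [Units.val_mul, Units.val_inv_eq_inv_val, ← hpq, div_eq_mul_inv]
    rfl
  choose a b ha hb hab using key
  obtain ⟨hc, hd⟩ := supp_closed_discrete hdim D
  obtain ⟨D', ⟨hs', hD'⟩, -⟩ := existsUnique_divisor hdim _ hc hd fun x => CDiv.germOf X x (a x)
  obtain ⟨D'', ⟨hs'', hD''⟩, -⟩ := existsUnique_divisor hdim _ hc hd fun x => CDiv.germOf X x (b x)
  refine ⟨D', D'', fun x => ?_, fun x => ?_, Subtype.ext (funext fun x => ?_), hs', hs''⟩
  · by_cases hx : x ∈ CDiv.supp D
    · exact (isEffectiveAt_iff (hD' x hx)).2 (ha x)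
    · exact (eq_one_iff.1 (not_not.1 fun h => hx (hs' h) : D'.1 x = 1)).1
  · by_cases hx : x ∈ CDiv.supp D
    · exact (isEffectiveAt_iff (hD'' x hx)).2 (hb x)
    · exact (eq_one_iff.1 (not_not.1 fun h => hx (hs'' h) : D''.1 x = 1)).1
  · show D.1 x = D'.1 x * (D''.1 x)⁻¹
    by_cases hx : x ∈ CDiv.supp D
    · rw [hD' x hx, hD'' x hx, hab x]
      rfl
    · rw [show D'.1 x = 1 from not_not.1 fun h => hx (hs' h),
        show D''.1 x = 1 from not_not.1 fun h => hx (hs'' h), show D.1 x = 1 from not_not.1 hx]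
      exact (one_mul (1 : CDiv.Germ X x)).symm.trans (congrArg _ inv_one.symm)

theorem exists_effective_supp_subset (hX : ∀ x : X, ¬ IsOpen ({x} : Set X)) (U : X.Opens)
    (hU : (U : Set X).Nonempty) :
    ∃ D : CDiv.Divisor X, CDiv.IsEffective D ∧ D ≠ 1 ∧ CDiv.supp D ⊆ (U : Set X) := by
  classical
  obtain ⟨x, hxU, hx⟩ : ∃ x ∈ U, x ≠ genericPoint ↥X := by
    by_contra! h
    apply hX (genericPoint ↥X)
    convert U.2
    ext y
    refine ⟨?_, fun hy => h y hy⟩
    rintro rfl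
    obtain ⟨z, hz⟩ := hU
    exact (h z hz) ▸ hz
  have hd1 := dim_stalk_eq_one hdim hx
  obtain ⟨r, hrm, hr0⟩ : ∃ r ∈ IsLocalRing.maximalIdeal (X.presheaf.stalk x), r ≠ 0 := by
    by_contra! h
    have := ringKrullDim_eq_zero_of_isField (IsLocalRing.isField_iff_maximalIdeal_eq.2
      (eq_bot_iff.2 fun r hr => h r hr))
    rw [hd1] at this
    exact one_ne_zero this
  have hr0' : algebraMap (X.presheaf.stalk x) X.functionField r ≠ 0 := fun e =>
    hr0 (IsFractionRing.injective (X.presheaf.stalk x) X.functionField (e.trans (map_zero _).symm))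
  obtain ⟨D, ⟨hs, hD⟩, -⟩ := existsUnique_divisor hdim {x} (isClosed_singleton' hdim hx)
    inferInstance fun y => if h : y = x then h ▸ CDiv.germOf X x (Units.mk0 _ hr0') else 1
  have hDx : D.1 x = CDiv.germOf X x (Units.mk0 _ hr0') := (hD x rfl).trans (dif_pos rfl)
  have hne : D.1 x ≠ 1 := fun e => by
    rw [hDx, CDiv.germOf, QuotientGroup.eq_one_iff] at e
    obtain ⟨v, hv⟩ := e
    exact (IsLocalRing.mem_maximalIdeal r).1 hrm
      ((IsFractionRing.injective (X.presheaf.stalk x) X.functionField (congrArg Units.val hv)) ▸ v.isUnit)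
  refine ⟨D, fun y => ?_, fun e => hne (by rw [e]; rfl), hs.trans (Set.singleton_subset_iff.2 hxU)⟩
  by_cases hy : y = x
  · subst hy
    exact ⟨r, hr0', hDx⟩
  · exact (eq_one_iff.1 (not_not.1 fun h => hy (hs h) : D.1 y = 1)).1

end

end Groth.RefRank.CDivDepth
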