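/-
Depth two and extension of sections of coherent modules.
-/
import Groth.Agent.RefRank.Normality
import Groth.Agent.Divisors.Assoc
import Groth.Agent.Calg1.DepthTwo
import Groth.Agent.QCohMod.QCQS
import Groth.Agent.LocCohBase.DepthLocal

universe u

open CategoryTheory CategoryTheory.Limits AlgebraicGeometry TopologicalSpace Opposite
open scoped Pointwise

namespace Groth.RefRank

open Groth.QCohMod

variable {X : Scheme.{u}} [IsLocallyNoetherian X]

/-- A map from a coherent module which is bijective on stalks, or has depth two source and target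
without nonzero elements killed by the maximal ideal, is an isomorphism. -/
theorem isIso_of_depth {F G : X.Modules} (φ : F ⟶ G) (hF : Coh.IsCoh F) (hG : Coh.IsQCoh G)
    (h : ∀ x : X, Function.Bijective (RefHull.stalkMapₗ φ x) ∨
      ((2 : ℕ∞) ≤ LocCoh.depth (X.presheaf.stalk x) (F.presheaf.stalk x) ∧
        ∀ n : G.presheaf.stalk x,
          (∀ t ∈ IsLocalRing.maximalIdeal (X.presheaf.stalk x), t • n = 0) → n = 0)) :
    IsIso φ := by
  have : G.IsQuasicoherent := hG
  have := hF.1
  haveI : Mono φ := by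
    have hKq : Coh.IsQCoh (kernel φ) := (inferInstance : (kernel φ).IsQuasicoherent)
    have hK : IsZero (kernel φ) := Divisors.isZero_of_no_weakAss hKq fun x hx => by
      obtain ⟨z, h1, h2⟩ := Divisors.isWeakAssPoint_iff.mp hx
      haveI : Mono ((QCohMod.stalk x).map (kernel.ι φ)) := inferInstance
      have hι : Function.Injective (RefHull.stalkMapₗ (kernel.ι φ) x) :=
        (AddCommGrpCat.mono_iff_injective ((QCohMod.stalk x).map (kernel.ι φ))).1 inferInstance
      have h0 : RefHull.stalkMapₗ φ x (RefHull.stalkMapₗ (kernel.ι φ) x z) = 0 := by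
        obtain ⟨W, hxW, m, rfl⟩ := exists_germ _ x z
        refine (congrArg _ (RefHull.stalkMapₗ_germ _ x hxW m)).trans ?_
        refine (RefHull.stalkMapₗ_germ _ x hxW _).trans ?_
        rw [show φ.app W ((kernel.ι φ).app W m) = 0 from congr($(kernel.condition φ).app W m), map_zero]
      suffices hz0 : RefHull.stalkMapₗ (kernel.ι φ) x z = 0 from
        h1 1 (by rw [one_smul]; exact hι (hz0.trans (map_zero _).symm)) isUnit_one
      rcases h x with hb | ⟨hd, -⟩
      · exact hb.1 (h0.trans (map_zero _).symm)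
      · have := finite_stalkModule hF x
        rcases subsingleton_or_nontrivial (F.presheaf.stalk x) with hs | hn
        · exact Subsingleton.elim _ _
        obtain ⟨a, ha, hreg⟩ := Groth.LocCohBase.exists_regular_of_one_le
          (Groth.LocCohBase.smul_maximalIdeal_ne_top (R := X.presheaf.stalk x) (F.presheaf.stalk x)
            (IsLocalRing.maximalIdeal.isMaximal _).ne_top) (le_trans (by norm_num) hd)
        obtain ⟨k, hk⟩ := h2 a ha
        exact (hreg.pow k).right_eq_zero_of_smul (by rw [← map_smul, hk, map_zero])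
    exact Preadditive.mono_of_kernel_zero (hK.eq_of_src _ _)
  have hinj : ∀ x, Function.Injective (RefHull.stalkMapₗ φ x) := fun x =>
    (AddCommGrpCat.mono_iff_injective ((QCohMod.stalk x).map φ)).1 inferInstance
  have hCq : Coh.IsQCoh (cokernel φ) := (inferInstance : (cokernel φ).IsQuasicoherent)
  have hC : IsZero (cokernel φ) := Divisors.isZero_of_no_weakAss hCq fun x hx => by
    obtain ⟨z, h1, h2⟩ := Divisors.isWeakAssPoint_iff.mp hx
    have hexact : ((ShortComplex.mk φ (cokernel.π φ) (cokernel.condition φ)).map (QCohMod.stalk x)).Exact :=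
      (ShortComplex.exact_of_g_is_cokernel _ (cokernelIsCokernel φ)).map (QCohMod.stalk x)
    rw [ShortComplex.ab_exact_iff] at hexact
    haveI : Epi ((QCohMod.stalk x).map (cokernel.π φ)) := inferInstance
    have hπ : Function.Surjective (RefHull.stalkMapₗ (cokernel.π φ) x) :=
      (AddCommGrpCat.epi_iff_surjective ((QCohMod.stalk x).map (cokernel.π φ))).1 inferInstance
    have hkill : ∀ v : G.presheaf.stalk x, v ∈ LinearMap.range (RefHull.stalkMapₗ φ x) →
        RefHull.stalkMapₗ (cokernel.π φ) x v = 0 := by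
      rintro _ ⟨w, rfl⟩
      obtain ⟨W, hxW, m, rfl⟩ := exists_germ _ x w
      refine (congrArg _ (RefHull.stalkMapₗ_germ _ x hxW m)).trans ?_
      refine (RefHull.stalkMapₗ_germ _ x hxW _).trans ?_
      rw [show (cokernel.π φ).app W (φ.app W m) = 0 from congr($(cokernel.condition φ).app W m), map_zero]
    have hrange : ∀ v, RefHull.stalkMapₗ (cokernel.π φ) x v = 0 →
        v ∈ LinearMap.range (RefHull.stalkMapₗ φ x) := fun v hv => by
      obtain ⟨w, hw⟩ := hexact v hv
      exact ⟨w, hw⟩
    rcases h x with hb | ⟨hd, hN⟩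
    · obtain ⟨e, rfl⟩ := hπ z
      exact h1 1 (by rw [one_smul]; exact hkill e (hb.2 e)) isUnit_one
    · -- a nonzero element of the cokernel killed by the maximal ideal lifts to the image
      let m := IsLocalRing.maximalIdeal (X.presheaf.stalk x)
      have hrad : m ≤ Ideal.radical (LinearMap.ker (LinearMap.toSpanSingleton (X.presheaf.stalk x) _ z)) :=
        fun a ha => by
          obtain ⟨n, hn⟩ := h2 a ha
          exact ⟨n, hn⟩
      obtain ⟨N, hN'⟩ := Ideal.exists_pow_le_of_le_radical_of_fg hrad (IsNoetherian.noetherian m)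
      have hstep : ∀ k, ∀ v : (cokernel φ).presheaf.stalk x, (∀ t ∈ m ^ k, t • v = 0) → v = 0 := by
        intro k
        induction k with
        | zero =>
          intro v hv
          have := hv 1 (by rw [pow_zero, Ideal.one_eq_top]; trivial)
          rwa [one_smul] at this
        | succ k ih =>
          intro v hv
          have h' : ∀ t ∈ m ^ k, t • v = 0 := fun t ht => by
            obtain ⟨e, he⟩ := hπ (t • v)
            rw [← he]
            refine hkill e ?_
            have := finite_stalkModule hF x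
            refine Groth.Calg1.mem_range_of_two_le_depth (RefHull.stalkMapₗ φ x) (hinj x) hd hN
              fun s hs => hrange _ ?_
            rw [map_smul, he, smul_smul]
            exact hv (s * t) (by rw [pow_succ']; exact Ideal.mul_mem_mul hs ht)
          exact ih v h'
      exact h1 1 (by rw [one_smul]; exact hstep N z fun t ht => hN' ht) isUnit_one
  haveI : Epi φ := Preadditive.epi_of_cokernel_zero (hC.eq_of_tgt _ _)
  exact isIso_of_mono_of_epi φ

/-- Restriction to the part inside `U` is bijective on all opens. -/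
def ResBijAll (U : X.Opens) (G : X.Modules) : Prop :=
  ∀ W : X.Opens, Function.Bijective (res G (inf_le_left : W ⊓ U ≤ W))

omit [IsLocallyNoetherian X] in
theorem resBijAll_pushforward {U : X.Opens} (G : (U : Scheme.{u}).Modules) :
    ResBijAll U ((Scheme.Modules.pushforward U.ι).obj G) := by
  intro W
  have hle : U.ι ⁻¹ᵁ W ≤ U.ι ⁻¹ᵁ (W ⊓ U) := fun y hy => ⟨hy, y.2⟩
  have h : Function.Bijective (G.presheaf.map (homOfLE (show U.ι ⁻¹ᵁ (W ⊓ U) ≤ U.ι ⁻¹ᵁ W from
      fun y hy => hy.1)).op) := by
    have key : ∀ (A B : (U : Scheme.{u}).Opens) (i : B ≤ A), A ≤ B →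
        Function.Bijective (G.presheaf.map (homOfLE i).op) := by
      intro A B i j
      obtain rfl := le_antisymm i j
      have : G.presheaf.map (homOfLE i).op = 𝟙 _ := G.presheaf.map_id _
      rw [this]
      exact Function.bijective_id
    exact key _ _ _ hle
  exact h

omit [IsLocallyNoetherian X] in
/-- A point of `U` lies in a basic open of an element of any given generating set of the prime of a
point outside `U`. -/
theorem exists_mem_basicOpen {U W : X.Opens} (hW : IsAffineOpen W) {x y : X} (hx : x ∈ W) (hxU : x ∉ U)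
    (hy : y ∈ W) (hyU : y ∈ U) {T : Finset Γ(X, W)}
    (hT : Submodule.span Γ(X, W) (T : Set Γ(X, W)) = (hW.primeIdealOf ⟨x, hx⟩).asIdeal) :
    ∃ b ∈ T, y ∈ X.basicOpen b := by
  by_contra hne
  push Not at hne
  obtain ⟨a, ha, hya⟩ := hW.exists_basicOpen_le (⟨y, hyU⟩ : U) hy
  have hap : a ∈ Submodule.span Γ(X, W) (T : Set Γ(X, W)) := by
    rw [hT]
    by_contra h
    exact hxU (ha ((mem_basicOpen_iff_notMem_primeIdealOf hW a x hx).mpr h))
  have hle : Submodule.span Γ(X, W) (T : Set Γ(X, W)) ≤ (hW.primeIdealOf ⟨y, hy⟩).asIdeal :=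
    Submodule.span_le.mpr fun b hb => by
      by_contra h
      exact hne b hb ((mem_basicOpen_iff_notMem_primeIdealOf hW b y hy).mpr h)
  exact (mem_basicOpen_iff_notMem_primeIdealOf hW a y hy).mp hya (hle hap)

/-- Outside `U` no nonzero germ is killed by the maximal ideal. -/
theorem eq_zero_of_killed {U : X.Opens} {G : X.Modules} [G.IsQuasicoherent]
    (hG : ∀ W : X.Opens, Function.Injective (res G (inf_le_left : W ⊓ U ≤ W))) {x : X} (hx : x ∉ U)
    (n : G.presheaf.stalk x) (hn : ∀ t ∈ IsLocalRing.maximalIdeal (X.presheaf.stalk x), t • n = 0) :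
    n = 0 := by
  obtain ⟨V, hxV, g₀, rfl⟩ := exists_germ G x n
  obtain ⟨⟨W, hW'⟩, hxW, hle⟩ := Divisors.exists_affine_le x V hxV
  have hW : IsAffineOpen W := hW'
  rw [← germ_res G hle x hxW] at hn ⊢
  generalize res G hle g₀ = g at hn ⊢
  have : IsNoetherianRing Γ(X, W) := IsLocallyNoetherian.component_noetherian ⟨W, hW⟩
  obtain ⟨T, hT⟩ := IsNoetherian.noetherian (hW.primeIdealOf ⟨x, hxW⟩).asIdeal
  have h1 : ∀ b ∈ T, ∃ e : Γ(X, W), x ∈ X.basicOpen e ∧ e • b • g = 0 := fun b hb => by
    refine exists_smul_eq_zero_of_germ_eq_zero G hW x hxW _ ?_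
    rw [germ_smul]
    refine hn _ fun hu => ?_
    exact (mem_basicOpen_iff_notMem_primeIdealOf hW b x hxW).mp ((Scheme.mem_basicOpen X b x hxW).mpr hu)
      (hT ▸ Submodule.subset_span hb)
  choose! e he he0 using h1
  classical
  let W' := X.basicOpen (∏ b ∈ T, e b)
  have hxW' : x ∈ W' := by
    rw [Scheme.mem_basicOpen X _ _ hxW, map_prod]
    exact IsUnit.prod_iff.mpr fun b hb => (Scheme.mem_basicOpen X (e b) _ hxW).mp (he b hb)
  have h0 : res G (X.basicOpen_le _ : W' ≤ W) g = 0 := by
    refine hG W' (mod_section_ext G fun y hy => ?_)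
    have hyW : y ∈ W := X.basicOpen_le _ hy.1
    obtain ⟨b, hb, hyb⟩ := exists_mem_basicOpen hW hxW hx hyW hy.2 hT
    have hu : IsUnit (X.presheaf.germ W y hyW (e b * b)) := by
      rw [map_mul]
      refine IsUnit.mul ?_ ((Scheme.mem_basicOpen X b y hyW).mp hyb)
      have h := (Scheme.mem_basicOpen X _ y hyW).mp hy.1
      rw [map_prod, IsUnit.prod_iff] at h
      exact h b hb
    rw [map_zero, map_zero, germ_res, germ_res]
    refine hu.smul_eq_zero.mp ?_
    rw [← germ_smul, mul_smul, he0 b hb, map_zero]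
  rw [← germ_res G (X.basicOpen_le _ : W' ≤ W) x hxW' g, h0, map_zero]

/-- A coherent module whose sections extend uniquely across the complement of `U` has depth two
there. -/
theorem two_le_depth_of_resBij {U : X.Opens} {G : X.Modules} (hGc : Coh.IsCoh G) (hG : ResBijAll U G)
    {x : X} (hx : x ∉ U) : (2 : ℕ∞) ≤ LocCoh.depth (X.presheaf.stalk x) (G.presheaf.stalk x) := by
  classical
  have := hGc.1
  have := finite_stalkModule hGc x
  let m := IsLocalRing.maximalIdeal (X.presheaf.stalk x)
  by_cases htop : m • (⊤ : Submodule (X.presheaf.stalk x) (G.presheaf.stalk x)) = ⊤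
  · rw [LocCoh.depth, Groth.LocCohBase.idealDepth_eq_top_of_smul_top_eq_top htop]
    exact le_top
  have hone : ∀ (M : Type u) [AddCommGroup M] [Module (X.presheaf.stalk x) M]
      [Module.Finite (X.presheaf.stalk x) M], (∀ n : M, (∀ t ∈ m, t • n = 0) → n = 0) →
      (1 : ℕ∞) ≤ LocCoh.idealDepth m M := by
    intro M _ _ _ hM
    refine (Groth.LocCohBase.one_le_idealDepth_iff m M).2 fun q hq hle => ?_
    obtain ⟨hqp, z, hz⟩ := isAssociatedPrime_iff.mp hq
    have hz0 : z = 0 := hM z fun t ht => by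
      have h : t ∈ (⊥ : Submodule _ M).colon {z} := hz ▸ hle ht
      rwa [Submodule.mem_colon_singleton, Submodule.mem_bot] at h
    refine hqp.ne_top (hz.trans ?_)
    rw [hz0, eq_top_iff]
    intro t _
    rw [Submodule.mem_colon_singleton, smul_zero]
    exact Submodule.zero_mem _
  obtain ⟨a, ha, hreg⟩ := Groth.LocCohBase.exists_regular_of_one_le htop
    (hone _ (eq_zero_of_killed (fun W => (hG W).1) hx))
  rw [LocCoh.depth, ← Groth.LocCohBase.idealDepth_quotSMulTop_add_one _ _ htop ha hreg]
  refine le_trans (b := (1 : ℕ∞) + 1) (by norm_num) (add_le_add (hone _ fun q hq => ?_) le_rfl)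
  obtain ⟨n, rfl⟩ := Submodule.Quotient.mk_surjective _ q
  rw [Submodule.Quotient.mk_eq_zero, Submodule.mem_smul_pointwise_iff_exists]
  obtain ⟨V, hxV, g₀, rfl⟩ := exists_germ G x n
  obtain ⟨⟨W, hW'⟩, hxW, hle⟩ := Divisors.exists_affine_le x V hxV
  have hW : IsAffineOpen W := hW'
  rw [← germ_res G hle x hxW] at hq ⊢
  generalize res G hle g₀ = g at hq ⊢
  obtain ⟨a₀, c₀, hc₀, hca⟩ := exists_mul_germ_eq hW hxW a
  have hu₀ : IsUnit (X.presheaf.germ W x hxW c₀) := (Scheme.mem_basicOpen X c₀ x hxW).mp hc₀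
  have hreg₀ : IsSMulRegular (G.presheaf.stalk x) (X.presheaf.germ W x hxW a₀) := by
    rw [← hca]; exact (hu₀.isSMulRegular _).mul hreg
  have : IsNoetherianRing Γ(X, W) := IsLocallyNoetherian.component_noetherian ⟨W, hW⟩
  have : Module.Finite Γ(X, W) Γ(G, W) := finite_sections G hGc.2 hW
  -- near `x` multiplication by `a₀` is injective
  obtain ⟨N, hN⟩ := IsNoetherian.noetherian (LinearMap.ker ((LinearMap.lsmul Γ(X, W) Γ(G, W)) a₀))
  have h1 : ∀ v ∈ N, ∃ f : Γ(X, W), x ∈ X.basicOpen f ∧ f • v = 0 := fun v hv => by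
    have hv' : a₀ • v = 0 := hN.le (Submodule.subset_span hv)
    refine exists_smul_eq_zero_of_germ_eq_zero G hW x hxW v (hreg₀.right_eq_zero_of_smul ?_)
    rw [← germ_smul, hv', map_zero]
  choose! f hf hf0 using h1
  obtain ⟨T, hT⟩ := IsNoetherian.noetherian (hW.primeIdealOf ⟨x, hxW⟩).asIdeal
  have h2 : ∀ b ∈ T, ∃ (d : Γ(X, W)) (k : Γ(G, W)), x ∈ X.basicOpen d ∧ (d * b) • g = a₀ • k := fun b hb => by
    have hbm : X.presheaf.germ W x hxW b ∈ m := fun hu =>
      (mem_basicOpen_iff_notMem_primeIdealOf hW b x hxW).mp ((Scheme.mem_basicOpen X b x hxW).mpr hu)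
        (hT ▸ Submodule.subset_span hb)
    have h := hq _ hbm
    rw [← Submodule.Quotient.mk_smul, Submodule.Quotient.mk_eq_zero, Submodule.mem_smul_pointwise_iff_exists] at h
    obtain ⟨w, -, hw⟩ := h
    obtain ⟨c, k, hc, hk⟩ := exists_smul_germ_eq G hW x hxW w
    have h0 : germ G x hxW ((c₀ * c * b) • g - a₀ • k) = 0 := by
      rw [map_sub, germ_smul, germ_smul, map_mul, map_mul, mul_smul, ← hw, ← hca, ← hk, smul_smul, smul_smul]
      rw [show X.presheaf.germ W x hxW c₀ * X.presheaf.germ W x hxW c * a =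
        X.presheaf.germ W x hxW c₀ * a * X.presheaf.germ W x hxW c by ring, sub_self]
    obtain ⟨e, he, he0⟩ := exists_smul_eq_zero_of_germ_eq_zero G hW x hxW _ h0
    refine ⟨e * (c₀ * c), e • k, by rw [Scheme.basicOpen_mul, Scheme.basicOpen_mul]; exact ⟨he, hc₀, hc⟩, ?_⟩
    rw [smul_sub, sub_eq_zero, smul_smul, smul_smul] at he0
    rw [mul_assoc, he0, smul_smul, mul_comm]
  choose! d k hd hk using h2
  let s := (∏ b ∈ T, d b) * ∏ v ∈ N, f v
  let W' := X.basicOpen s
  have hxW' : x ∈ W' := by
    rw [Scheme.mem_basicOpen X _ _ hxW, map_mul, map_prod, map_prod]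
    exact (IsUnit.prod_iff.mpr fun b hb => (Scheme.mem_basicOpen X (d b) _ hxW).mp (hd b hb)).mul
      (IsUnit.prod_iff.mpr fun v hv => (Scheme.mem_basicOpen X (f v) _ hxW).mp (hf v hv))
  have hW'W : W' ≤ W := X.basicOpen_le s
  have hunit : ∀ y, ∀ hy : y ∈ W', (∀ b ∈ T, IsUnit (X.presheaf.germ W y (hW'W hy) (d b))) ∧
      ∀ v ∈ N, IsUnit (X.presheaf.germ W y (hW'W hy) (f v)) := fun y hy => by
    have h := (Scheme.mem_basicOpen X s y (hW'W hy)).mp hy
    rw [map_mul, IsUnit.mul_iff, map_prod, map_prod, IsUnit.prod_iff, IsUnit.prod_iff] at h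
    exact h
  have hinj : ∀ y, ∀ hy : y ∈ W', IsSMulRegular (G.presheaf.stalk y) (X.presheaf.germ W y (hW'W hy) a₀) :=
    fun y hy => isSMulRegular_iff_right_eq_zero_of_smul.mpr fun v hv => by
      obtain ⟨c, v₁, hc, hv₁⟩ := exists_smul_germ_eq G hW y (hW'W hy) v
      have hcu : IsUnit (X.presheaf.germ W y (hW'W hy) c) := (Scheme.mem_basicOpen X c y _).mp hc
      have h0 : germ G y (hW'W hy) (a₀ • v₁) = 0 := by
        rw [germ_smul, ← hv₁, smul_comm, hv, smul_zero]
      obtain ⟨e, he, he0⟩ := exists_smul_eq_zero_of_germ_eq_zero G hW y _ _ h0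
      have hmem : e • v₁ ∈ Submodule.span Γ(X, W) (N : Set Γ(G, W)) :=
        hN.ge (show a₀ • e • v₁ = 0 by rw [smul_comm, he0])
      have hz : ∀ z ∈ Submodule.span Γ(X, W) (N : Set Γ(G, W)), germ G y (hW'W hy) z = 0 := by
        intro z hz
        induction hz using Submodule.span_induction with
        | mem z hz =>
          refine ((hunit y hy).2 z hz).smul_eq_zero.mp ?_
          rw [← germ_smul, hf0 z hz, map_zero]
        | zero => rw [map_zero]
        | add p q _ _ hp hq => rw [map_add, hp, hq, add_zero]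
        | smul r p _ hp => rw [germ_smul, hp, smul_zero]
      have h := hz _ hmem
      rw [germ_smul, ← hv₁, smul_smul] at h
      exact (((Scheme.mem_basicOpen X e y _).mp he).mul hcu).smul_eq_zero.mp h
  have hsol : ∀ y : (W' ⊓ U : X.Opens), ∃ v : G.presheaf.stalk y.1,
      X.presheaf.germ W y.1 (hW'W y.2.1) a₀ • v = germ G y.1 (hW'W y.2.1) g := by
    rintro ⟨y, hy, hyU⟩
    obtain ⟨b, hb, hyb⟩ := exists_mem_basicOpen hW hxW hx (hW'W hy) hyU hT
    have hu : IsUnit (X.presheaf.germ W y (hW'W hy) (d b * b)) := by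
      rw [map_mul]; exact ((hunit y hy).1 b hb).mul ((Scheme.mem_basicOpen X b y _).mp hyb)
    refine ⟨(↑hu.unit⁻¹ : X.presheaf.stalk y) • germ G y (hW'W hy) (k b), hu.smul_left_cancel.mp ?_⟩
    change X.presheaf.germ W y (hW'W hy) (d b * b) • _ = X.presheaf.germ W y (hW'W hy) (d b * b) • _
    rw [← germ_smul (hx := hW'W hy) (r := d b * b) (m := g), hk b hb, germ_smul]
    rw [smul_smul, smul_smul, mul_right_comm, IsUnit.mul_val_inv, one_mul]
  choose v hv using hsol
  obtain ⟨h', hh'⟩ := exists_section_of_germs G (W' ⊓ U) v fun y => by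
    obtain ⟨b, hb, hyb⟩ := exists_mem_basicOpen hW hxW hx (hW'W y.2.1) y.2.2 hT
    let t := d b * b
    have hyt : y.1 ∈ X.basicOpen t := by
      rw [Scheme.mem_basicOpen X t _ (hW'W y.2.1), map_mul]
      exact ((hunit y.1 y.2.1).1 b hb).mul ((Scheme.mem_basicOpen X b y.1 _).mp hyb)
    let O := X.basicOpen t ⊓ (W' ⊓ U)
    have hOW : O ≤ W := inf_le_left.trans (X.basicOpen_le t)
    have hu : IsUnit (X.presheaf.map (homOfLE hOW).op t) := by
      have h1 := (RingedSpace.isUnit_res_basicOpen (X := X.toRingedSpace) t).map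
        (X.presheaf.map (homOfLE (inf_le_left : O ≤ X.basicOpen t)).op).hom
      have e : ∀ (V : X.Opens) (i : O ≤ V) (j : V ≤ W),
          X.presheaf.map (homOfLE i).op (X.presheaf.map (homOfLE j).op t) =
            X.presheaf.map (homOfLE (i.trans j)).op t := fun V i j => by
        rw [← CommRingCat.comp_apply, ← Functor.map_comp]; rfl
      exact (e _ inf_le_left (X.basicOpen_le t)) ▸ h1
    refine ⟨O, inf_le_right, (↑hu.unit⁻¹ : Γ(X, O)) • res G hOW (k b), ⟨hyt, y.2⟩, fun z hz => ?_⟩
    refine (hinj z hz.2.1) ?_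
    have hzu : X.presheaf.germ W z (hOW hz) t * X.presheaf.germ O z hz ↑hu.unit⁻¹ = 1 := by
      have h := congrArg (X.presheaf.germ O z hz).hom hu.mul_val_inv
      rw [map_mul, map_one, TopCat.Presheaf.germ_res_apply] at h
      exact h
    change X.presheaf.germ W z (hW'W hz.2.1) a₀ • _ = X.presheaf.germ W z (hW'W hz.2.1) a₀ • _
    rw [hv ⟨z, hz.2⟩, germ_smul, germ_res, smul_smul,
      mul_comm (X.presheaf.germ W z (hW'W hz.2.1) a₀), mul_smul, ← germ_smul, ← hk b hb, germ_smul, smul_smul,
      mul_comm, hzu, one_smul]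
  obtain ⟨h, hh⟩ := (hG W').2 h'
  have key : res G hW'W g = X.presheaf.map (homOfLE hW'W).op a₀ • h := by
    refine (hG W').1 (mod_section_ext G fun y hy => ?_)
    rw [germ_res, germ_res, germ_res, germ_smul, TopCat.Presheaf.germ_res_apply,
      ← germ_res G (inf_le_left : W' ⊓ U ≤ W') y hy h, hh, hh' ⟨y, hy⟩, hv ⟨y, hy⟩]
  refine ⟨X.presheaf.germ W x hxW c₀ • germ G x hxW' h, trivial, ?_⟩
  rw [← germ_res G hW'W x hxW' g, key, germ_smul, TopCat.Presheaf.germ_res_apply, ← hca, smul_smul, mul_comm]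

/-- The unit into the direct image from `U` is bijective on stalks in `U`. -/
theorem stalk_unit_bijective {U : X.Opens} (F : X.Modules) {x : X} (hx : x ∈ U) :
    Function.Bijective (RefHull.stalkMapₗ ((Scheme.Modules.restrictAdjunction U.ι).unit.app F) x) := by
  set η := (Scheme.Modules.restrictAdjunction U.ι).unit.app F with hη
  have happ : ∀ W : X.Opens, W ≤ U → Function.Bijective (η.app W) := fun W hW => by
    have e : ∀ m : Γ(F, W), η.app W m = res F (U.ι.image_preimage_le W) m := fun m => rfl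
    rw [funext e]
    have key : ∀ (V : X.Opens) (h : V ≤ W), W ≤ V → Function.Bijective (res F h) := fun V h h' =>
      ⟨fun a b hab => by
        have := congrArg (res F h') hab
        rwa [res_res, res_res, res_self, res_self] at this,
      fun v => ⟨res F h' v, by rw [res_res, res_self]⟩⟩
    refine key _ _ ?_
    rw [Scheme.Hom.image_preimage_eq_opensRange_inf, Scheme.Opens.opensRange_ι]
    exact le_inf hW le_rfl
  refine ⟨(injective_iff_map_eq_zero _).mpr fun v hv => ?_, fun v => ?_⟩
  · obtain ⟨V, hxV, m, rfl⟩ := exists_germ F x v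
    obtain ⟨W, hxW, i, j, e⟩ := TopCat.Presheaf.germ_eq _ x hxV hxV _ _
      (((RefHull.stalkMapₗ_germ η x hxV m).symm.trans hv).trans (map_zero (germ _ x hxV)).symm)
    have h1 : η.app (W ⊓ U) (res F (inf_le_left.trans i.le) m) = 0 := by
      have hn : η.app (W ⊓ U) (res F (inf_le_left.trans i.le) m) =
          res _ (inf_le_left.trans i.le) (η.app V m) :=
        congr($(η.mapPresheaf.naturality (homOfLE ((inf_le_left : W ⊓ U ≤ W).trans i.le)).op) m)
      rw [hn, ← res_res _ i.le (inf_le_left : W ⊓ U ≤ W)]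
      refine (congrArg (res _ (inf_le_left : W ⊓ U ≤ W)) e).trans ?_
      rw [map_zero, map_zero]
    rw [← germ_res F ((inf_le_left : W ⊓ U ≤ W).trans i.le) x ⟨hxW, hx⟩ m,
      (happ _ inf_le_right).1 (h1.trans (map_zero _).symm), map_zero]
  · obtain ⟨V, hxV, g, rfl⟩ := exists_germ _ x v
    obtain ⟨m, hm⟩ := (happ (V ⊓ U) inf_le_right).2 (res _ inf_le_left g)
    have hxI : x ∈ V ⊓ U := ⟨hxV, hx⟩
    refine ⟨germ F x hxI m, (RefHull.stalkMapₗ_germ _ x hxI m).trans ?_⟩
    exact (congrArg (germ _ x hxI) hm).trans (germ_res _ inf_le_left x hxI g)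

/-- The unit is an isomorphism when the depth is at least two outside `U`. -/
theorem isIso_unit_of_depth {U : X.Opens} {F : X.Modules} (hF : Coh.IsCoh F)
    (hd : ∀ x : X, x ∉ U → (2 : ℕ∞) ≤ LocCoh.depth (X.presheaf.stalk x) (F.presheaf.stalk x)) :
    IsIso ((Scheme.Modules.restrictAdjunction U.ι).unit.app F) := by
  have := hF.1
  have hq : ((Scheme.Modules.pushforward U.ι).obj (F.restrict U.ι)).IsQuasicoherent :=
    QCohMod.isQCoh_pushforward _ U.ι
  refine isIso_of_depth _ hF hq fun x => ?_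
  by_cases hx : x ∈ U
  · exact Or.inl (stalk_unit_bijective F hx)
  · exact Or.inr ⟨hd x hx, eq_zero_of_killed
      (G := (Scheme.Modules.pushforward U.ι).obj (F.restrict U.ι))
      (fun W => (resBijAll_pushforward (F.restrict U.ι) W).1) hx⟩

theorem eq_genericPoint_of_isField [IsIntegral X] {x : X} (h : IsField (X.presheaf.stalk x)) :
    x = genericPoint ↥X := by
  have h0 : ringKrullDim (X.presheaf.stalk x) = 0 := ringKrullDim_eq_zero_of_isField h
  rw [ringKrullDim_stalk_eq_coheight] at h0
  have hmax := Order.coheight_eq_zero.mp (WithBot.coe_eq_zero.mp h0)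
  exact ((genSpec x).antisymm (Scheme.le_iff_specializes.mp
    (hmax (Scheme.le_iff_specializes.mpr (genSpec x))))).eq.symm

end Groth.RefRank
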