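import Mathlib
import Groth.Agent.RefRank.CDivDimOne
import Groth.Agent.RefRank.BigOpen
import Groth.Agent.RefRank.DepthTwo
import Groth.Agent.RefRank.Ord
import Groth.Agent.RefRank.Normality

/-!
# Divisors on normal schemes: orders at points of codimension one, factoriality
-/

set_option autoImplicit false
universe u

open CategoryTheory AlgebraicGeometry TopologicalSpace IsLocalRing Groth.QCohMod

namespace Groth.RefRank.CDivNormal

open Groth.RefRank

variable {X : Scheme.{u}}

/-- The prime of the local ring at `y` attached to a generization `x`. -/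
noncomputable def primeAt {x y : X} (h : x ⤳ y) : Ideal (X.presheaf.stalk y) :=
  (maximalIdeal (X.presheaf.stalk x)).comap (rspec h)

instance {x y : X} (h : x ⤳ y) : (primeAt h).IsPrime := Ideal.IsPrime.comap _

theorem mem_primeAt {x y : X} (h : x ⤳ y) (r : X.presheaf.stalk y) :
    r ∈ primeAt h ↔ ¬ IsUnit (rspec h r) := Iff.rfl

theorem comap_germ_primeAt {x y : X} (h : x ⤳ y) {V : X.Opens} (hV : IsAffineOpen V) (hy : y ∈ V) :
    (primeAt h).comap (X.presheaf.germ V y hy).hom = (hV.primeIdealOf ⟨x, h.mem_open V.2 hy⟩).asIdeal := by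
  ext a
  rw [Ideal.mem_comap, mem_primeAt, rspec_germ h hy, ← Scheme.mem_basicOpen X a x (h.mem_open V.2 hy),
    mem_basicOpen_iff_notMem_primeIdealOf hV a x (h.mem_open V.2 hy), not_not]

theorem height_primeAt {x y : X} (h : x ⤳ y) :
    ((primeAt h).height : WithBot ℕ∞) = ringKrullDim (X.presheaf.stalk x) := by
  obtain ⟨V, hV, hy⟩ := exists_affine_mem y
  let _ := TopCat.Presheaf.algebra_section_stalk X.presheaf ⟨y, hy⟩
  have := hV.isLocalization_stalk ⟨y, hy⟩
  rw [Divisors.ringKrullDim_stalk_eq_height hV (h.mem_open V.2 hy), ← comap_germ_primeAt h hV hy]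
  exact_mod_cast (IsLocalization.height_under (hV.primeIdealOf ⟨y, hy⟩).asIdeal.primeCompl (primeAt h)).symm

theorem primeAt_inj {x x' y : X} (h : x ⤳ y) (h' : x' ⤳ y) (e : primeAt h = primeAt h') : x = x' := by
  obtain ⟨V, hV, hy⟩ := exists_affine_mem y
  have := congrArg (Ideal.comap (X.presheaf.germ V y hy).hom) e
  rw [comap_germ_primeAt h hV hy, comap_germ_primeAt h' hV hy] at this
  have hp : hV.primeIdealOf ⟨x, h.mem_open V.2 hy⟩ = hV.primeIdealOf ⟨x', h'.mem_open V.2 hy⟩ :=
    PrimeSpectrum.ext this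
  have := congrArg hV.fromSpec hp
  rwa [hV.fromSpec_primeIdealOf, hV.fromSpec_primeIdealOf] at this

theorem maximalIdeal_eq_map_primeAt {x y : X} (h : x ⤳ y) :
    maximalIdeal (X.presheaf.stalk x) = (primeAt h).map (rspec h) := by
  refine le_antisymm ?_ (Ideal.map_le_iff_le_comap.2 le_rfl)
  obtain ⟨V, hV, hy⟩ := exists_affine_mem y
  have hxV := h.mem_open V.2 hy
  let _ := TopCat.Presheaf.algebra_section_stalk X.presheaf ⟨x, hxV⟩
  have := hV.isLocalization_stalk ⟨x, hxV⟩
  rw [← IsLocalization.AtPrime.map_eq_maximalIdeal (hV.primeIdealOf ⟨x, hxV⟩).asIdeal (X.presheaf.stalk x),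
    Ideal.map_le_iff_le_comap]
  intro a ha
  rw [← comap_germ_primeAt h hV hy, Ideal.mem_comap] at ha
  have := Ideal.mem_map_of_mem (rspec h) ha
  rw [rspec_germ h hy] at this
  exact this

variable [IsIntegral X]

theorem algebraMap_rspec {x y : X} (h : x ⤳ y) (a : X.presheaf.stalk y) :
    algebraMap (X.presheaf.stalk x) X.functionField (rspec h a) =
      algebraMap (X.presheaf.stalk y) X.functionField a :=
  rspec_rspec h (genSpec x) a

variable [IsLocallyNoetherian X]

section

variable {x : X} (hx : Order.coheight x = 1)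
include hx

theorem ord_mul' {f g : X.functionField} (hf : f ≠ 0) (hg : g ≠ 0) :
    Scheme.ord (f * g) x = Scheme.ord f x + Scheme.ord g x := by
  rw [ord_eq_ordK hx, ord_eq_ordK hx, ord_eq_ordK hx]
  exact ordK_mul ((coheight_eq_one_iff x).mp hx).le hf hg

theorem ord_inv' {f : X.functionField} (hf : f ≠ 0) : Scheme.ord f⁻¹ x = - Scheme.ord f x := by
  rw [ord_eq_ordK hx, ord_eq_ordK hx]
  exact ordK_inv ((coheight_eq_one_iff x).mp hx).le hf

theorem ord_algebraMap_nonneg {a : X.presheaf.stalk x} (ha : a ≠ 0) :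
    0 ≤ Scheme.ord (algebraMap (X.presheaf.stalk x) X.functionField a) x := by
  have := krullDimLE_of_dim_le ((coheight_eq_one_iff x).mp hx).le
  rw [ord_eq_ordK hx, ordK, ordFrac_algebraMap' ha]
  exact Int.natCast_nonneg _

theorem ord_of_isUnit' {a : X.presheaf.stalk x} (ha : IsUnit a) :
    Scheme.ord (algebraMap (X.presheaf.stalk x) X.functionField a) x = 0 := by
  have := krullDimLE_of_dim_le ((coheight_eq_one_iff x).mp hx).le
  rw [ord_eq_ordK hx, ordK]
  exact ordFrac_of_isUnit' ha

theorem ord_one' : Scheme.ord (1 : X.functionField) x = 0 := by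
  rw [← map_one (algebraMap (X.presheaf.stalk x) X.functionField)]
  exact ord_of_isUnit' hx isUnit_one

theorem ord_uniformizer {a : X.presheaf.stalk x} (ha0 : a ≠ 0)
    (ha : maximalIdeal (X.presheaf.stalk x) = Ideal.span {a}) :
    Scheme.ord (algebraMap (X.presheaf.stalk x) X.functionField a) x = 1 := by
  have := krullDimLE_of_dim_le ((coheight_eq_one_iff x).mp hx).le
  rw [ord_eq_ordK hx, ordK, ordFrac_algebraMap' ha0]
  have : IsSimpleModule (X.presheaf.stalk x) (X.presheaf.stalk x ⧸ Ideal.span {a}) :=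
    isSimpleModule_iff_isCoatom.2 (ha ▸ Ideal.isMaximal_def.1 (maximalIdeal.isMaximal _))
  have h1 : Ring.ord (X.presheaf.stalk x) a = 1 := by
    unfold Ring.ord
    exact Module.length_eq_one (X.presheaf.stalk x) _
  rw [h1]
  rfl

variable (hX : Pi1.IsNormalScheme X)
include hX

theorem isUnit_of_ord_eq_zero {a : X.presheaf.stalk x} (ha : a ≠ 0)
    (h : Scheme.ord (algebraMap (X.presheaf.stalk x) X.functionField a) x = 0) : IsUnit a := by
  rw [ord_eq_ordK hx] at h
  obtain ⟨b, hb, e⟩ := exists_unit_of_ordK_eq_zero hX ((coheight_eq_one_iff x).mp hx)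
    (fun e => ha (IsFractionRing.injective (X.presheaf.stalk x) X.functionField (e.trans (map_zero _).symm))) h
  rwa [← IsFractionRing.injective (X.presheaf.stalk x) X.functionField e]

theorem mem_range_of_ord_nonneg {f : X.functionField} (hf : f ≠ 0) (h : 0 ≤ Scheme.ord f x) :
    f ∈ Set.range (algebraMap (X.presheaf.stalk x) X.functionField) := by
  have := isDiscreteValuationRing_stalk hX ((coheight_eq_one_iff x).mp hx)
  rcases ValuationRing.isInteger_or_isInteger (X.presheaf.stalk x) f with ⟨a, ha⟩ | ⟨a, ha⟩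
  · exact ⟨a, ha⟩
  · have ha0 : a ≠ 0 := fun e => hf (inv_eq_zero.mp (by rw [← ha, e, map_zero]))
    have h1 := ord_algebraMap_nonneg hx ha0
    rw [ha, ord_inv' hx hf] at h1
    have hu := isUnit_of_ord_eq_zero hx hX ha0 (by rw [ha, ord_inv' hx hf]; omega)
    refine ⟨(hu.unit⁻¹ : (X.presheaf.stalk x)ˣ), ?_⟩
    rw [map_units_inv]
    change (algebraMap (X.presheaf.stalk x) X.functionField a)⁻¹ = f
    rw [ha, inv_inv]

end

section

variable (hX : Pi1.IsNormalScheme X)
include hX

/-- A rational function with nonnegative orders at the codimension one generizations of `y` is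
regular at `y`. -/
theorem mem_range_of_ord (y : X) {f : X.functionField} (hf : f ≠ 0)
    (h : ∀ x : X, x ⤳ y → Order.coheight x = 1 → 0 ≤ Scheme.ord f x) :
    f ∈ Set.range (algebraMap (X.presheaf.stalk y) X.functionField) := by
  refine (CDivDepth.isEffectiveAt_iff (D := CDiv.div (Units.mk0 f hf)) (f := Units.mk0 f hf) rfl).1
    (CDivDepth.effective_of_depth_one _ y fun z hz hd => (CDivDepth.isEffectiveAt_iff rfl).2 ?_)
  by_cases hzη : z = genericPoint ↥X
  · subst hzη
    exact CDivDepth.mem_range_genericPoint _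
  refine mem_range_of_ord_nonneg ?_ hX hf (h z hz ?_) <;>
  · by_contra hc
    have h0 : Order.coheight z ≠ 0 := fun h0 => hzη ((((genSpec z).antisymm
      (Scheme.le_iff_specializes.mp (Order.coheight_eq_zero.mp h0
        (Scheme.le_iff_specializes.mpr (genSpec z))))).eq).symm)
    have h2 : (2 : ℕ∞) ≤ Order.coheight z := by
      have h1 : (1 : ℕ∞) < Order.coheight z :=
        lt_of_le_of_ne (Order.one_le_iff_ne_zero.2 h0) (Ne.symm hc)
      exact (ENat.add_one_le_iff ENat.one_ne_top).2 h1
    have := depth_of_dim hX (x := z) (by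
      rw [ringKrullDim_stalk_eq_coheight]; exact WithBot.coe_le_coe.2 h2)
    rw [hd] at this
    exact absurd this (by decide)

theorem isEffective_iff (D : CDiv.Divisor X) :
    CDiv.IsEffective D ↔ ∀ x : X, Order.coheight x = 1 → ∀ f : CDiv.KUnits X,
      D.1 x = CDiv.germOf X x f → 0 ≤ Scheme.ord (f : X.functionField) x := by
  constructor
  · intro h x hx f hf
    obtain ⟨a, ha⟩ := (CDivDepth.isEffectiveAt_iff hf).1 (h x)
    rw [← ha]
    exact ord_algebraMap_nonneg hx fun e => f.ne_zero (by rw [← ha, e, map_zero])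
  · intro h y
    obtain ⟨U, f, hy, hU⟩ := D.2 y
    exact (CDivDepth.isEffectiveAt_iff (hU y hy)).2
      (mem_range_of_ord hX y f.ne_zero fun x hxy hx => h x hx f (hU x (hxy.mem_open U.2 hy)))

theorem eq_one_of_ord_eq_zero (D : CDiv.Divisor X)
    (h : ∀ x : X, Order.coheight x = 1 → ∀ f : CDiv.KUnits X,
      D.1 x = CDiv.germOf X x f → Scheme.ord (f : X.functionField) x = 0) : D = 1 := by
  refine Subtype.ext (funext fun y => CDivDepth.eq_one_iff.2
    ⟨(isEffective_iff hX D).2 (fun x hx f hf => (h x hx f hf).ge) y,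
     (isEffective_iff hX D⁻¹).2 (fun x hx f hf => ?_) y⟩)
  have h' := h x hx f⁻¹ ((inv_eq_iff_eq_inv.1 (show (D.1 x)⁻¹ = CDiv.germOf X x f from hf)).trans rfl)
  rw [Units.val_inv_eq_inv_val, ord_inv' hx f.ne_zero] at h'
  omega

open Classical in
theorem isFactorial_iff :
    (∀ x : X, UniqueFactorizationMonoid (X.presheaf.stalk x)) ↔
      ∀ x₀ : X, Order.coheight x₀ = 1 → ∃ D : CDiv.Divisor X,
        (∀ f : CDiv.KUnits X, D.1 x₀ = CDiv.germOf X x₀ f → Scheme.ord (f : X.functionField) x₀ = 1) ∧
          ∀ x : X, x ≠ x₀ → Order.coheight x = 1 → ∀ f : CDiv.KUnits X, D.1 x = CDiv.germOf X x f →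
            Scheme.ord (f : X.functionField) x = 0 := by
  constructor
  · intro hU x₀ hx₀
    let δ : X → ℤ := fun x => if x = x₀ then 1 else 0
    have key : ∀ y : X, ∃ f : CDiv.KUnits X, ∀ x : X, x ⤳ y → Order.coheight x = 1 →
        Scheme.ord (f : X.functionField) x = δ x := by
      intro y
      by_cases h : x₀ ⤳ y
      swap
      · exact ⟨1, fun x hxy hx => (ord_one' hx).trans (if_neg fun e : x = x₀ => h (e ▸ hxy)).symm⟩
      have := hU y
      have hht : (primeAt h).height = 1 := by
        have := height_primeAt h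
        rw [(coheight_eq_one_iff x₀).mp hx₀] at this
        exact_mod_cast this
      have hne : primeAt h ≠ ⊥ := fun e => by simp [e] at hht
      obtain ⟨g, hg, hgp⟩ :=
        (UniqueFactorizationMonoid.iff_exists_prime_mem_of_isPrime.1 this) _ hne inferInstance
      have hgI := (Ideal.span_singleton_prime hgp.ne_zero).2 hgp
      have heq : ∀ (Q : Ideal (X.presheaf.stalk y)), Q.IsPrime → Q.height = 1 → g ∈ Q →
          Q = Ideal.span {g} := by
        intro Q hQ hQ1 hgQ
        refine by_contra fun hne' => ?_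
        have hlt : Ideal.span {g} < Q :=
          lt_of_le_of_ne ((Ideal.span_singleton_le_iff_mem _).2 hgQ) (Ne.symm hne')
        have h1 := Ideal.height_strict_mono_of_isPrime hlt
        rw [hQ1] at h1
        have h0 := Ideal.height_eq_zero_iff_eq_bot.1 (Order.lt_one_iff.1 h1)
        exact hgp.ne_zero (Ideal.span_singleton_eq_bot.1 h0)
      have hP := heq _ inferInstance hht hg
      have hg0 : algebraMap (X.presheaf.stalk y) X.functionField g ≠ 0 := fun e =>
        hgp.ne_zero (IsFractionRing.injective (X.presheaf.stalk y) X.functionField (e.trans (map_zero _).symm))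
      refine ⟨Units.mk0 _ hg0, fun x hxy hx => ?_⟩
      rw [Units.val_mk0, ← algebraMap_rspec hxy g]
      by_cases hxx : x = x₀
      · subst hxx
        have hr0 : rspec h g ≠ 0 := fun e => hg0 (by rw [← algebraMap_rspec h g, e, map_zero])
        rw [show δ x = 1 from if_pos rfl]
        exact ord_uniformizer hx hr0 (by
          rw [maximalIdeal_eq_map_primeAt h, hP, Ideal.map_span, Set.image_singleton])
      · rw [show δ x = 0 from if_neg hxx]
        refine ord_of_isUnit' hx (by_contra fun hu => hxx (primeAt_inj hxy h ?_))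
        have hQ1 : (primeAt hxy).height = 1 := by
          have := height_primeAt hxy
          rw [(coheight_eq_one_iff x).mp hx] at this
          exact_mod_cast this
        rw [hP, heq _ inferInstance hQ1 hu]
    choose f hf using key
    have hsame : ∀ y z : X, (∀ x : X, x ⤳ z → Order.coheight x = 1 →
        Scheme.ord (f y : X.functionField) x = δ x) → CDiv.germOf X z (f z) = CDiv.germOf X z (f y) := by
      intro y z h
      rw [CDiv.germOf, CDiv.germOf, QuotientGroup.eq]
      let u := (f z)⁻¹ * f y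
      have hu : ∀ x : X, x ⤳ z → Order.coheight x = 1 → Scheme.ord (u : X.functionField) x = 0 :=
        fun x hxz hx => by
          rw [Units.val_mul, ord_mul' hx ((f z)⁻¹).ne_zero (f y).ne_zero, Units.val_inv_eq_inv_val,
            ord_inv' hx (f z).ne_zero, hf z x hxz hx, h x hxz hx, neg_add_cancel]
      have h1 := mem_range_of_ord hX z u.ne_zero fun x hxz hx => (hu x hxz hx).ge
      have h2 := mem_range_of_ord hX z u⁻¹.ne_zero fun x hxz hx => by
        rw [Units.val_inv_eq_inv_val, ord_inv' hx u.ne_zero, hu x hxz hx, neg_zero]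
      obtain ⟨a, ha⟩ := h1
      obtain ⟨b, hb⟩ := h2
      refine ⟨⟨a, b, ?_, ?_⟩, Units.ext ha⟩ <;>
        refine IsFractionRing.injective (X.presheaf.stalk z) X.functionField ?_ <;>
        simp [ha, hb]
    refine ⟨⟨fun z => CDiv.germOf X z (f z), fun y => ?_⟩, fun g hg => ?_, fun x hxne hx g hg => ?_⟩
    · obtain ⟨V, hV, hy⟩ := exists_affine_mem y
      let W : X.Opens := ⟨(CDiv.supp (CDiv.div (f y)))ᶜ, (CDivDepth.isClosed_supp _).isOpen_compl⟩
      have hW : genericPoint ↥X ∈ W := fun h => h (CDivDepth.eq_one_genericPoint _)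
      let B : Set X := {x | Order.coheight x = 1 ∧ x ∈ V ∧ Scheme.ord (f y : X.functionField) x ≠ δ x}
      have hB : B.Finite := by
        refine (((finite_codim_one_compl hW hV).union (Set.finite_singleton x₀))).subset ?_
        rintro x ⟨hx, hxV, hne⟩
        by_cases hxx : x = x₀
        · exact Or.inr hxx
        refine Or.inl ⟨hxV, hx, fun hxW => hne ?_⟩
        obtain ⟨v, hv⟩ := (QuotientGroup.eq_one_iff (f y)).1
          (not_not.1 hxW : (CDiv.div (f y)).1 x = 1)
        rw [show δ x = 0 from if_neg hxx, show (f y : X.functionField) =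
          algebraMap (X.presheaf.stalk x) X.functionField v from congrArg Units.val hv.symm]
        exact ord_of_isUnit' hx v.isUnit
      have hcl : IsClosed (⋃ x ∈ B, closure ({x} : Set X)) :=
        hB.isClosed_biUnion fun _ _ => isClosed_closure
      refine ⟨V ⊓ ⟨(⋃ x ∈ B, closure ({x} : Set X))ᶜ, hcl.isOpen_compl⟩, f y, ⟨hy, ?_⟩,
        fun z hz => hsame y z fun x hxz hx => ?_⟩
      · intro hmem
        obtain ⟨x, hxB, hxy⟩ := Set.mem_iUnion₂.1 hmem
        exact hxB.2.2 (hf y x (specializes_iff_mem_closure.2 hxy) hxB.1)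
      · exact by_contra fun hne => hz.2 (Set.mem_iUnion₂.2
          ⟨x, ⟨hx, hxz.mem_open V.2 hz.1, hne⟩, specializes_iff_mem_closure.1 hxz⟩)
    all_goals
      obtain ⟨v, hv⟩ := QuotientGroup.eq.1 hg
    · have : g = f x₀ * Units.map (algebraMap (X.presheaf.stalk x₀) X.functionField).toMonoidHom v := by
        rw [hv, mul_inv_cancel_left]
      rw [this, Units.val_mul, ord_mul' hx₀ (f x₀).ne_zero (Units.ne_zero _), hf x₀ x₀ specializes_rfl hx₀]
      erw [ord_of_isUnit' hx₀ v.isUnit]
      exact (add_zero _).trans (if_pos rfl)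
    · have : g = f x * Units.map (algebraMap (X.presheaf.stalk x) X.functionField).toMonoidHom v := by
        rw [hv, mul_inv_cancel_left]
      rw [this, Units.val_mul, ord_mul' hx (f x).ne_zero (Units.ne_zero _), hf x x specializes_rfl hx]
      erw [ord_of_isUnit' hx v.isUnit]
      exact (add_zero _).trans (if_neg hxne)
  · intro h y
    refine UniqueFactorizationMonoid.iff_exists_prime_mem_of_isPrime.2 fun P hP hPp => ?_
    obtain ⟨c, hcP, hc0⟩ := Submodule.exists_mem_ne_zero_of_ne_bot hP
    obtain ⟨Q, hQ, hQP⟩ := Ideal.exists_minimalPrimes_le ((Ideal.span_singleton_le_iff_mem _).2 hcP)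
    have := hQ.1.1
    have hQ1 : Q.height = 1 := by
      refine le_antisymm (Ideal.height_le_one_of_isPrincipal_of_mem_minimalPrimes _ Q hQ)
        (Order.one_le_iff_ne_zero.2 fun h0 => hc0 ?_)
      simpa [Ideal.height_eq_zero_iff_eq_bot.1 h0] using hQ.1.2 (Ideal.mem_span_singleton_self c)
    obtain ⟨x₀, h₀, hu, hdim⟩ := exists_generization_of_prime Q
    rw [hQ1] at hdim
    have hx₀ : Order.coheight x₀ = 1 := (coheight_eq_one_iff x₀).2 hdim
    obtain ⟨D, hD1, hD0⟩ := h x₀ hx₀
    obtain ⟨U, f, hyU, hU⟩ := D.2 y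
    have hord : ∀ x : X, x ⤳ y → Order.coheight x = 1 →
        Scheme.ord (f : X.functionField) x = if x = x₀ then 1 else 0 := by
      intro x hxy hx
      have hfx := hU x (hxy.mem_open U.2 hyU)
      by_cases hxx : x = x₀
      · subst hxx; rw [if_pos rfl]; exact hD1 f hfx
      · rw [if_neg hxx]; exact hD0 x hxx hx f hfx
    obtain ⟨a, ha⟩ := mem_range_of_ord hX y f.ne_zero fun x hxy hx => by
      rw [hord x hxy hx]; split_ifs <;> decide
    have ha0 : a ≠ 0 := fun e => f.ne_zero (by rw [← ha, e, map_zero])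
    have haQ : a ∈ Q := by
      by_contra haQ
      have h1 := hord x₀ h₀ hx₀
      rw [if_pos rfl, ← ha, ← algebraMap_rspec h₀ a, ord_of_isUnit' hx₀ ((hu a).2 haQ)] at h1
      exact zero_ne_one h1
    have hQeq : Q = Ideal.span {a} := by
      refine le_antisymm (fun b hb => ?_) ((Ideal.span_singleton_le_iff_mem _).2 haQ)
      rw [Ideal.mem_span_singleton]
      rcases eq_or_ne b 0 with rfl | hb0
      · exact dvd_zero a
      have hb' : algebraMap (X.presheaf.stalk y) X.functionField b ≠ 0 := fun e =>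
        hb0 (IsFractionRing.injective (X.presheaf.stalk y) X.functionField (e.trans (map_zero _).symm))
      obtain ⟨r, hr⟩ := mem_range_of_ord hX y (div_ne_zero hb' f.ne_zero) fun x hxy hx => by
        have hb1 : rspec hxy b ≠ 0 := fun e => hb' (by rw [← algebraMap_rspec hxy b, e, map_zero])
        rw [div_eq_mul_inv, ord_mul' hx hb' (inv_ne_zero f.ne_zero), ord_inv' hx f.ne_zero,
          hord x hxy hx, ← algebraMap_rspec hxy b]
        have h2 := ord_algebraMap_nonneg hx hb1
        split_ifs with hxx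
        · subst hxx
          have h3 : Scheme.ord (algebraMap (X.presheaf.stalk x) X.functionField (rspec hxy b)) x ≠ 0 :=
            fun e => (hu b).1 (isUnit_of_ord_eq_zero hx hX hb1 e) hb
          omega
        · omega
      refine ⟨r, IsFractionRing.injective (X.presheaf.stalk y) X.functionField ?_⟩
      rw [map_mul, hr, ha, mul_div_cancel₀ _ f.ne_zero]
    exact ⟨a, hQP haQ, (Ideal.span_singleton_prime ha0).1 (hQeq ▸ hQ.1.1)⟩

end

end Groth.RefRank.CDivNormal
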