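import Mathlib
import Groth.Agent.RefRank.CDivNormal
import Groth.Agent.RefRank.AffineCompl
import Groth.Agent.Divisors.EffCartierDim
import Groth.Agent.Ega4Algebra2.RegularImmersion

/-!
# Effective Cartier divisors from local data in factorial local rings
-/

set_option autoImplicit false
universe u

open CategoryTheory AlgebraicGeometry TopologicalSpace IsLocalRing Groth.QCohMod

namespace Groth.RefRank.EffCartierLocal

open Groth.RefRank Groth.RefRank.CDivNormal

variable {X : Scheme.{u}}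

theorem mem_support_iff_map_germ_ne_top (D : X.IdealSheafData) {V : X.affineOpens} {x : X}
    (hx : x ∈ V.1) : x ∈ D.support ↔ (D.ideal V).map (X.presheaf.germ V.1 x hx).hom ≠ ⊤ := by
  rw [Scheme.IdealSheafData.mem_support_iff_of_mem hx, Scheme.mem_zeroLocus_iff]
  constructor
  · intro h e
    have hle : (D.ideal V).map (X.presheaf.germ V.1 x hx).hom ≤ maximalIdeal _ :=
      Ideal.map_le_iff_le_comap.2 fun a ha hu => h a ha ((X.mem_basicOpen a x hx).2 hu)
    exact (maximalIdeal.isMaximal _).ne_top (top_le_iff.1 (e ▸ hle))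
  · intro h a ha hax
    exact h (Ideal.eq_top_of_isUnit_mem _ (Ideal.mem_map_of_mem _ ha) ((X.mem_basicOpen a x hx).1 hax))

theorem map_rspec {x y : X} (h : y ⤳ x) {V : X.Opens} (hx : x ∈ V) (I : Ideal Γ(X, V)) :
    (I.map (X.presheaf.germ V x hx).hom).map (rspec h) =
      I.map (X.presheaf.germ V y (h.mem_open V.2 hx)).hom := by
  rw [Ideal.map_map]
  congr 1
  exact RingHom.ext fun t => rspec_germ h hx t

theorem primeAt_eq {x y : X} (h : y ⤳ x) {P : Ideal (X.presheaf.stalk x)}
    (hu : ∀ r, IsUnit (rspec h r) ↔ r ∉ P) : primeAt h = P :=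
  Ideal.ext fun r => ⟨fun hr => by_contra fun hP => (mem_primeAt h r).1 hr ((hu r).2 hP),
    fun hP => (mem_primeAt h r).2 fun hr => (hu r).1 hr hP⟩

theorem mem_support_of_le (D : X.IdealSheafData) {V : X.affineOpens} {x y : X} (hx : x ∈ V.1)
    (h : y ⤳ x) (hle : (D.ideal V).map (X.presheaf.germ V.1 x hx).hom ≤ primeAt h) : y ∈ D.support := by
  rw [mem_support_iff_map_germ_ne_top D (h.mem_open V.1.2 hx), ← map_rspec h hx]
  intro e
  have : (maximalIdeal (X.presheaf.stalk y)) = ⊤ :=
    top_le_iff.1 (e ▸ Ideal.map_le_iff_le_comap.2 hle)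
  exact (maximalIdeal.isMaximal _).ne_top this

/-- A minimal prime of a stalk ideal is a maximal point of the support. -/
theorem exists_maximal_point (D : X.IdealSheafData) {V : X.affineOpens} {x : X} (hx : x ∈ V.1)
    {P : Ideal (X.presheaf.stalk x)} (hP : P ∈ ((D.ideal V).map (X.presheaf.germ V.1 x hx).hom).minimalPrimes) :
    ∃ (y : X) (h : y ⤳ x), primeAt h = P ∧ y ∈ D.support ∧
      (∀ y' ∈ D.support, y' ⤳ y → y' = y) ∧
      ringKrullDim (X.presheaf.stalk y) = (P.height : WithBot ℕ∞) := by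
  have := hP.1.1
  obtain ⟨y, h, hu, hdim⟩ := exists_generization_of_prime P
  have he := primeAt_eq h hu
  refine ⟨y, h, he, mem_support_of_le D hx h (he.symm ▸ hP.1.2), fun y' hy' h' => ?_, hdim⟩
  have hle : primeAt (h'.trans h) ≤ P := fun r hr => by
    rw [← he, mem_primeAt]
    intro hur
    exact (mem_primeAt _ r).1 hr (by rw [← rspec_rspec h h' r]; exact hur.map _)
  have hJ : (D.ideal V).map (X.presheaf.germ V.1 x hx).hom ≤ primeAt (h'.trans h) := by
    refine Ideal.map_le_iff_le_comap.2 fun a ha => Ideal.mem_comap.2 ((mem_primeAt _ _).2 ?_)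
    rw [rspec_germ (h'.trans h) hx, ← X.mem_basicOpen a y' ((h'.trans h).mem_open V.1.2 hx)]
    exact ((Scheme.mem_zeroLocus_iff _ _ _).1
      ((D.mem_support_iff_of_mem ((h'.trans h).mem_open V.1.2 hx)).1 hy')) a ha
  exact primeAt_inj (h'.trans h) h (le_antisymm (hle.trans he.ge) (he.le.trans (hP.2 ⟨inferInstance, hJ⟩ hle)))

/-- An associated prime of a stalk quotient gives a point where the maximal ideal is associated. -/
theorem exists_assoc_point [IsLocallyNoetherian X] (D : X.IdealSheafData) {V : X.affineOpens} {x : X}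
    (hx : x ∈ V.1) {P : Ideal (X.presheaf.stalk x)}
    (hP : P ∈ associatedPrimes (X.presheaf.stalk x)
      (X.presheaf.stalk x ⧸ (D.ideal V).map (X.presheaf.germ V.1 x hx).hom)) :
    ∃ (y : X) (h : y ⤳ x), primeAt h = P ∧ y ∈ D.support ∧ ∃ a : Γ(X, V.1),
      X.presheaf.germ V.1 y (h.mem_open V.1.2 hx) a ∉
        (D.ideal V).map (X.presheaf.germ V.1 y (h.mem_open V.1.2 hx)).hom ∧
      ∀ r ∈ maximalIdeal (X.presheaf.stalk y), r * X.presheaf.germ V.1 y (h.mem_open V.1.2 hx) a ∈
        (D.ideal V).map (X.presheaf.germ V.1 y (h.mem_open V.1.2 hx)).hom := by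
  have : P.IsPrime := IsAssociatedPrime.isPrime hP
  let _ := TopCat.Presheaf.algebra_section_stalk X.presheaf ⟨x, hx⟩
  have := V.2.isLocalization_stalk ⟨x, hx⟩
  obtain ⟨y, h, hu, -⟩ := exists_generization_of_prime P
  have he := primeAt_eq h hu
  obtain ⟨-, c, hc⟩ := isAssociatedPrime_iff.1 hP
  obtain ⟨c, rfl⟩ := Ideal.Quotient.mk_surjective c
  have hmem : ∀ r, r ∈ P ↔ r * c ∈ (D.ideal V).map (X.presheaf.germ V.1 x hx).hom := by
    intro r
    rw [hc, Submodule.mem_colon_singleton, Submodule.mem_bot, Algebra.smul_def,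
      Ideal.Quotient.algebraMap_eq, ← map_mul, Ideal.Quotient.eq_zero_iff_mem]
  obtain ⟨⟨a, s⟩, has⟩ := IsLocalization.surj (V.2.primeIdealOf ⟨x, hx⟩).asIdeal.primeCompl c
  have hs : IsUnit (X.presheaf.germ V.1 x hx s.1) :=
    IsLocalization.map_units (X.presheaf.stalk x) s
  have hmem' : ∀ r, r ∈ P ↔
      r * X.presheaf.germ V.1 x hx a ∈ (D.ideal V).map (X.presheaf.germ V.1 x hx).hom := by
    intro r
    rw [hmem r, show X.presheaf.germ V.1 x hx a = c * X.presheaf.germ V.1 x hx s.1 from has.symm, ← mul_assoc]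
    exact (Ideal.mul_unit_mem_iff_mem _ hs).symm
  have hle : (D.ideal V).map (X.presheaf.germ V.1 x hx).hom ≤ P := fun r hr =>
    (hmem r).2 (Ideal.mul_mem_right _ _ hr)
  have hyV := h.mem_open V.1.2 hx
  let _ := TopCat.Presheaf.algebra_section_stalk X.presheaf ⟨y, hyV⟩
  have := V.2.isLocalization_stalk ⟨y, hyV⟩
  refine ⟨y, h, he, mem_support_of_le D hx h (he.symm ▸ hle), a, fun hay => ?_, fun r hr => ?_⟩
  · obtain ⟨t, ht, hta⟩ :=
      (IsLocalization.algebraMap_mem_map_algebraMap_iff (V.2.primeIdealOf ⟨y, hyV⟩).asIdeal.primeCompl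
        (X.presheaf.stalk y) _ _).1 hay
    refine ht ?_
    rw [← comap_germ_primeAt h V.2 hx]
    show X.presheaf.germ V.1 x hx t ∈ primeAt h
    rw [he, hmem', ← map_mul]
    exact Ideal.mem_map_of_mem _ hta
  · rw [maximalIdeal_eq_map_primeAt h, he] at hr
    have hle' : P.map (rspec h) ≤ Submodule.comap (LinearMap.mulRight (X.presheaf.stalk y)
        (X.presheaf.germ V.1 y hyV a)) ((D.ideal V).map (X.presheaf.germ V.1 y hyV).hom) := by
      refine Ideal.map_le_iff_le_comap.2 fun p hp => ?_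
      rw [Ideal.mem_comap, Submodule.mem_comap, LinearMap.mulRight_apply]
      rw [← rspec_germ h hx, ← map_mul, ← map_rspec h hx]
      exact Ideal.mem_map_of_mem _ ((hmem' p).1 hp)
    exact hle' hr

/-- Generizations of a point with a Noetherian domain as local ring. -/
theorem stalk_generization_isDomain {x y : X} (h : y ⤳ x) [IsDomain (X.presheaf.stalk x)]
    [IsIntegrallyClosed (X.presheaf.stalk x)] :
    IsDomain (X.presheaf.stalk y) ∧ IsIntegrallyClosed (X.presheaf.stalk y) := by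
  obtain ⟨V, hV, hx⟩ := exists_affine_mem x
  have hy := h.mem_open V.2 hx
  let _ := TopCat.Presheaf.algebra_section_stalk X.presheaf ⟨x, hx⟩
  let _ := TopCat.Presheaf.algebra_section_stalk X.presheaf ⟨y, hy⟩
  have := hV.isLocalization_stalk ⟨x, hx⟩
  have := hV.isLocalization_stalk ⟨y, hy⟩
  let _ : Algebra (X.presheaf.stalk x) (X.presheaf.stalk y) := (rspec h).toAlgebra
  have : IsScalarTower Γ(X, V) (X.presheaf.stalk x) (X.presheaf.stalk y) :=
    IsScalarTower.of_algebraMap_eq fun t => (rspec_germ h hx t).symm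
  have hle : (hV.primeIdealOf ⟨x, hx⟩).asIdeal.primeCompl ≤
      (hV.primeIdealOf ⟨y, hy⟩).asIdeal.primeCompl := by
    intro a ha hay
    rw [← comap_germ_primeAt h hV hx] at hay
    exact (mem_primeAt h (X.presheaf.germ V x hx a)).1 hay ((IsLocalization.map_units (X.presheaf.stalk x)
      (⟨a, ha⟩ : (hV.primeIdealOf ⟨x, hx⟩).asIdeal.primeCompl)).map _)
  have hloc := IsLocalization.isLocalization_of_submonoid_le (X.presheaf.stalk x) (X.presheaf.stalk y)
    (hV.primeIdealOf ⟨x, hx⟩).asIdeal.primeCompl (hV.primeIdealOf ⟨y, hy⟩).asIdeal.primeCompl hle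
  have hM : (hV.primeIdealOf ⟨y, hy⟩).asIdeal.primeCompl.map (algebraMap Γ(X, V) (X.presheaf.stalk x)) ≤
      nonZeroDivisors (X.presheaf.stalk x) := by
    rintro _ ⟨a, ha, rfl⟩
    refine mem_nonZeroDivisors_of_ne_zero fun e => ha ?_
    rw [← comap_germ_primeAt h hV hx]
    show algebraMap Γ(X, V) (X.presheaf.stalk x) a ∈ primeAt h
    rw [e]
    exact zero_mem _
  exact ⟨IsLocalization.isDomain_of_le_nonZeroDivisors (X.presheaf.stalk y) hM,
    isIntegrallyClosed_of_isLocalization (X.presheaf.stalk y) _ hM⟩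

variable [IsLocallyNoetherian X]

/-- A stalk ideal in a factorial ring is principal when it has no embedded primes and is of pure
height one. -/
theorem exists_generator_of_pure (D : X.IdealSheafData) {V : X.affineOpens} {x : X} (hx : x ∈ V.1)
    (hxD : x ∈ D.support) [IsDomain (X.presheaf.stalk x)]
    [UniqueFactorizationMonoid (X.presheaf.stalk x)]
    (hass : ∀ P ∈ associatedPrimes (X.presheaf.stalk x)
      (X.presheaf.stalk x ⧸ (D.ideal V).map (X.presheaf.germ V.1 x hx).hom),
        P ∈ ((D.ideal V).map (X.presheaf.germ V.1 x hx).hom).minimalPrimes)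
    (hdim : ∀ y ∈ D.support, y ⤳ x → (∀ y' ∈ D.support, y' ⤳ y → y' = y) →
      ringKrullDim (X.presheaf.stalk y) = 1) :
    ∃ g : X.presheaf.stalk x, g ∈ nonZeroDivisors (X.presheaf.stalk x) ∧
      (D.ideal V).map (X.presheaf.germ V.1 x hx).hom = Ideal.span {g} := by
  have hh : ∀ P ∈ ((D.ideal V).map (X.presheaf.germ V.1 x hx).hom).minimalPrimes, P.height = 1 := by
    intro P hP
    obtain ⟨y, h, -, hyD, hmax, hd⟩ := exists_maximal_point D hx hP
    rw [hdim y hyD h hmax] at hd
    exact_mod_cast hd.symm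
  obtain ⟨g, hg⟩ := Groth.Divisors.ideal_principal_of_height_one _ _ hass hh
  refine ⟨g, mem_nonZeroDivisors_of_ne_zero fun e => ?_, hg⟩
  have hbot : (D.ideal V).map (X.presheaf.germ V.1 x hx).hom = ⊥ := by
    rw [hg, e, Ideal.span_singleton_eq_bot.2 rfl]
  have := hh ⊥ (by rw [hbot]; exact ⟨⟨Ideal.isPrime_bot, le_rfl⟩, fun q hq _ => bot_le⟩)
  rw [Ideal.height_bot] at this
  exact zero_ne_one this

omit [IsLocallyNoetherian X] in
theorem associatedPrime_minimal_of_isRadical {R : Type*} [CommRing R] [IsNoetherianRing R] {J : Ideal R}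
    (hJ : J.IsRadical) {P : Ideal R} (hP : P ∈ associatedPrimes R (R ⧸ J)) : P ∈ J.minimalPrimes := by
  have : P.IsPrime := IsAssociatedPrime.isPrime hP
  obtain ⟨-, c, hc⟩ := isAssociatedPrime_iff.1 hP
  obtain ⟨c, rfl⟩ := Ideal.Quotient.mk_surjective c
  have hmem : ∀ r, r ∈ P ↔ r * c ∈ J := by
    intro r
    rw [hc, Submodule.mem_colon_singleton, Submodule.mem_bot, Algebra.smul_def,
      Ideal.Quotient.algebraMap_eq, ← map_mul, Ideal.Quotient.eq_zero_iff_mem]
  have hcJ : c ∉ J := fun h => ‹P.IsPrime›.ne_top ((Ideal.eq_top_iff_one P).2 ((hmem 1).2 (by rwa [one_mul])))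
  have hle : J ≤ P := fun r hr => (hmem r).2 (J.mul_mem_right _ hr)
  refine ⟨⟨inferInstance, hle⟩, fun Q hQ hQP r hr => ?_⟩
  have hcP : c ∉ P := fun h => hcJ (hJ ⟨2, by rw [sq]; exact (hmem c).1 h⟩)
  exact (hQ.1.mem_or_mem (hQ.2 ((hmem r).1 hr))).resolve_right fun h => hcP (hQP h)

theorem isRadical_map_germ (D : X.IdealSheafData) (hD : ∀ V, (D.ideal V).IsRadical) {V : X.affineOpens}
    {x : X} (hx : x ∈ V.1) : ((D.ideal V).map (X.presheaf.germ V.1 x hx).hom).IsRadical := by
  let _ := TopCat.Presheaf.algebra_section_stalk X.presheaf ⟨x, hx⟩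
  have := V.2.isLocalization_stalk ⟨x, hx⟩
  rw [← Ideal.radical_eq_iff]
  have := IsLocalization.map_radical (V.2.primeIdealOf ⟨x, hx⟩).asIdeal.primeCompl
    (X.presheaf.stalk x) (D.ideal V)
  rw [(hD V).radical] at this
  exact this.symm

theorem isRadical_vanishingIdeal (Z : Closeds X) (V : X.affineOpens) :
    ((Scheme.IdealSheafData.vanishingIdeal Z).ideal V).IsRadical := by
  rw [Scheme.IdealSheafData.vanishingIdeal_ideal]
  intro a ha
  obtain ⟨n, hn⟩ := ha
  rw [PrimeSpectrum.mem_vanishingIdeal] at hn ⊢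
  exact fun p hp => p.2.mem_of_pow_mem n (hn p hp)

theorem exists_effCartier_compl (U : X.Opens) [IsAffineHom U.ι] (hdense : Dense (U : Set X))
    (hufd : ∀ x : X, x ∉ U → IsDomain (X.presheaf.stalk x) ∧ UniqueFactorizationMonoid (X.presheaf.stalk x)) :
    ∃ 𝓘 : X.IdealSheafData, BlowUp.IsEffCartierIdeal 𝓘 ∧ (𝓘.support : Set X) = (U : Set X)ᶜ := by
  let Z : Closeds X := ⟨(U : Set X)ᶜ, U.2.isClosed_compl⟩
  let D := Scheme.IdealSheafData.vanishingIdeal Z
  have hsupp : (D.support : Set X) = (U : Set X)ᶜ :=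
    Scheme.IdealSheafData.coe_support_vanishingIdeal Z
  refine ⟨D, Groth.Divisors.isEffCartierIdeal_of_stalk D fun x hxD V hx => ?_, hsupp⟩
  have hxU : x ∉ U := (Set.ext_iff.1 hsupp x).1 hxD
  obtain ⟨_, _⟩ := hufd x hxU
  refine exists_generator_of_pure D hx hxD
    (fun P hP => associatedPrime_minimal_of_isRadical
      (isRadical_map_germ D (isRadical_vanishingIdeal Z) hx) hP) fun y hy _ hmax => ?_
  exact Groth.RefRank.AffineCompl.stalk_dim_eq_one U y ((Set.ext_iff.1 hsupp y).1 hy)
    (fun y' hy' => hmax y' ((Set.ext_iff.1 hsupp y').2 hy')) (hdense y)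

theorem isEffCartierIdeal_of_no_embedded (D : X.IdealSheafData)
    (h1 : ∀ z : ↥D.subscheme, IsAssociatedPrime (maximalIdeal ↑(D.subscheme.presheaf.stalk z))
      ↑(D.subscheme.presheaf.stalk z) → ∀ z' : ↥D.subscheme, z' ⤳ z → z' = z)
    (h2 : ∀ z : ↥D.subscheme, (∀ z' : ↥D.subscheme, z' ⤳ z → z' = z) →
      ringKrullDim (X.presheaf.stalk (D.subschemeι z)) = 1)
    (h3 : ∀ x : X, x ∈ D.support → IsDomain (X.presheaf.stalk x) ∧
      UniqueFactorizationMonoid (X.presheaf.stalk x)) : BlowUp.IsEffCartierIdeal D := by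
  have hlift : ∀ y ∈ D.support, ∃ z : ↥D.subscheme, D.subschemeι z = y := fun y hy =>
    (Set.ext_iff.1 D.range_subschemeι y).2 hy
  have hι : ∀ z : ↥D.subscheme, D.subschemeι z ∈ D.support := fun z =>
    (Set.ext_iff.1 D.range_subschemeι _).1 ⟨z, rfl⟩
  have hind := D.subschemeι.isClosedEmbedding.isInducing
  have hmaxiff : ∀ z : ↥D.subscheme, (∀ z' : ↥D.subscheme, z' ⤳ z → z' = z) ↔
      ∀ y ∈ D.support, y ⤳ D.subschemeι z → y = D.subschemeι z := by
    intro z
    constructor
    · intro h y hy hyz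
      obtain ⟨z', rfl⟩ := hlift y hy
      rw [h z' (hind.specializes_iff.1 hyz)]
    · intro h z' hz'
      exact D.subschemeι.isClosedEmbedding.injective (h _ (hι z') (hz'.map D.subschemeι.continuous))
  refine Groth.Divisors.isEffCartierIdeal_of_stalk D fun x hxD V hx => ?_
  obtain ⟨_, _⟩ := h3 x hxD
  refine exists_generator_of_pure D hx hxD (fun P hP => ?_) fun y hy _ hmax => ?_
  · obtain ⟨y, h, he, hyD, a, ha, hm⟩ := exists_assoc_point D hx hP
    obtain ⟨z, rfl⟩ := hlift y hyD
    have hker : RingHom.ker (D.subschemeι.stalkMap z).hom =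
        (D.ideal V).map (X.presheaf.germ V.1 (D.subschemeι z) (h.mem_open V.1.2 hx)).hom :=
      (Groth.Ega4b.ker_stalkMap_eq_map D.subschemeι V.2 z (h.mem_open V.1.2 hx)).trans
        (by rw [D.ker_subschemeι])
    have hass : IsAssociatedPrime (maximalIdeal ↑(D.subscheme.presheaf.stalk z))
        ↑(D.subscheme.presheaf.stalk z) := by
      refine ⟨inferInstance, (D.subschemeι.stalkMap z).hom (X.presheaf.germ V.1 _ (h.mem_open V.1.2 hx) a), ?_⟩
      refine ((maximalIdeal.isMaximal _).eq_of_le ?_ fun r hr => ?_)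
      · rw [Ne, Ideal.radical_eq_top, Ideal.eq_top_iff_one, Submodule.mem_colon_singleton,
          Submodule.mem_bot, one_smul, ← RingHom.mem_ker, hker]
        exact ha
      · obtain ⟨r', rfl⟩ := D.subschemeι.stalkMap_surjective z r
        have hr' : r' ∈ maximalIdeal (X.presheaf.stalk (D.subschemeι z)) := fun hu => hr (hu.map _)
        refine Ideal.le_radical ?_
        rw [Submodule.mem_colon_singleton, Submodule.mem_bot, smul_eq_mul]
        show (D.subschemeι.stalkMap z).hom r' * _ = 0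
        rw [← map_mul, ← RingHom.mem_ker, hker]
        exact hm r' hr'
    have hmax := (hmaxiff z).1 (h1 z hass)
    have : P.IsPrime := IsAssociatedPrime.isPrime hP
    have hle : (D.ideal V).map (X.presheaf.germ V.1 x hx).hom ≤ P := by
      rw [← he]
      refine Ideal.map_le_iff_le_comap.2 fun b hb => Ideal.mem_comap.2 ((mem_primeAt _ _).2 ?_)
      rw [rspec_germ h hx, ← X.mem_basicOpen b (D.subschemeι z) (h.mem_open V.1.2 hx)]
      exact ((Scheme.mem_zeroLocus_iff _ _ _).1 ((D.mem_support_iff_of_mem (h.mem_open V.1.2 hx)).1 hyD)) b hb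
    refine ⟨⟨inferInstance, hle⟩, fun Q hQ hQP => ?_⟩
    have := hQ.1
    obtain ⟨Q', hQ', hQ'Q⟩ := Ideal.exists_minimalPrimes_le hQ.2
    obtain ⟨y', h', he', hy'D, -, -⟩ := exists_maximal_point D hx hQ'
    have hQ'P : primeAt h' ≤ primeAt h := by rw [he, he']; exact hQ'Q.trans hQP
    have hyy : y' ⤳ D.subschemeι z := by
      obtain ⟨W, hW, hxW⟩ := exists_affine_mem x
      have hle' := Ideal.comap_mono (f := (X.presheaf.germ W x hxW).hom) hQ'P
      rw [comap_germ_primeAt h' hW hxW, comap_germ_primeAt h hW hxW] at hle'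
      have := ((PrimeSpectrum.le_iff_specializes _ _).1 hle').map hW.fromSpec.continuous
      rwa [hW.fromSpec_primeIdealOf, hW.fromSpec_primeIdealOf] at this
    have := hmax y' hy'D hyy
    subst this
    exact (he.ge.trans (he'.le.trans hQ'Q))
  · obtain ⟨z, rfl⟩ := hlift y hy
    exact h2 z ((hmaxiff z).2 hmax)

theorem isEffCartierIdeal_of_isIntegral (D : X.IdealSheafData) [IsIntegral D.subscheme]
    (hcodim : ringKrullDim (X.presheaf.stalk (D.subschemeι (genericPoint ↥D.subscheme))) = 1)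
    (hufd : ∀ x : X, x ∈ D.support → IsDomain (X.presheaf.stalk x) ∧
      UniqueFactorizationMonoid (X.presheaf.stalk x)) : BlowUp.IsEffCartierIdeal D := by
  have : IsLocallyNoetherian D.subscheme := LocallyOfFiniteType.isLocallyNoetherian D.subschemeι
  have hgen : ∀ z' : ↥D.subscheme, z' ⤳ genericPoint ↥D.subscheme → z' = genericPoint ↥D.subscheme :=
    fun z' hz' => (hz'.antisymm (genSpec z')).eq
  refine isEffCartierIdeal_of_no_embedded D (fun z hz => ?_) (fun z hz => ?_) hufd
  · have hf : IsField ↑(D.subscheme.presheaf.stalk z) := by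
      rw [IsLocalRing.isField_iff_maximalIdeal_eq]
      obtain ⟨-, c, hc⟩ := isAssociatedPrime_iff.1 hz
      have hc0 : c ≠ 0 := by
        rintro rfl
        refine (maximalIdeal.isMaximal _).ne_top (hc.trans ?_)
        rw [Ideal.eq_top_iff_one, Submodule.mem_colon_singleton, smul_zero]
        exact zero_mem _
      refine eq_bot_iff.2 fun r hr => ?_
      rw [hc, Submodule.mem_colon_singleton, Submodule.mem_bot, smul_eq_mul] at hr
      exact (mul_eq_zero.1 hr).resolve_right hc0
    rw [eq_genericPoint_of_isField hf]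
    exact hgen
  · rw [← hz _ (genSpec z)]
    exact hcodim

end Groth.RefRank.EffCartierLocal
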