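/-
The ideal sheaf of an effective divisor, the reflexive module of a divisor.
-/
import Groth.Agent.RefRank.LocFin
import Groth.Agent.OmegaSheaf.IdealMod

universe u

open CategoryTheory CategoryTheory.Limits AlgebraicGeometry TopologicalSpace Opposite Topology

namespace Groth.RefRank

open Groth.QCohMod

variable {X : Scheme.{u}}

theorem isCoh_idealMod [IsLocallyNoetherian X] (I : X.IdealSheafData) :
    Coh.IsCoh (ClSub.idealMod I) := by
  refine (isCoh_iff _).mpr ⟨inferInstance, fun U hU => ?_⟩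
  have : IsNoetherianRing Γ(X, U) := IsLocallyNoetherian.component_noetherian ⟨U, hU⟩
  exact Module.Finite.equiv (OmegaSheaf.idealSecEquiv I ⟨U, hU⟩).symm

/-- The inclusion of an ideal sheaf on the stalk at `x`. -/
noncomputable def incl (I : X.IdealSheafData) (x : X) :
    (ClSub.idealMod I).presheaf.stalk x →ₗ[X.presheaf.stalk x] X.presheaf.stalk x :=
  (oneEquiv x).symm.toLinearMap ∘ₗ RefHull.stalkMapₗ (ClSub.idealModι I) x

theorem incl_germ (I : X.IdealSheafData) {U : X.Opens} (x : X) (hx : x ∈ U)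
    (k : Γ(ClSub.idealMod I, U)) :
    incl I x (germ (ClSub.idealMod I) x hx k) = X.presheaf.germ U x hx (OmegaSh.idealSect I U k) := by
  change (oneEquiv x).symm _ = _
  rw [LinearEquiv.symm_apply_eq, oneEquiv_apply, smul_oneGerm]
  exact RefHull.stalkMapₗ_germ _ x hx k

theorem incl_mspec (I : X.IdealSheafData) {x y : X} (h : y ⤳ x)
    (v : (ClSub.idealMod I).presheaf.stalk x) :
    incl I y (mspec _ h v) = rspec h (incl I x v) := by
  obtain ⟨U, hx, k, rfl⟩ := exists_germ _ x v
  rw [incl_germ, mspec_germ, incl_germ, rspec_germ]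

theorem incl_injective [IsIntegral X] (I : X.IdealSheafData) (x : X) :
    Function.Injective (incl I x) := by
  refine (injective_iff_map_eq_zero _).mpr fun v hv => ?_
  obtain ⟨U, hx, k, rfl⟩ := exists_germ _ x v
  rw [incl_germ] at hv
  have h0 := germ_injective_of_isIntegral X x hx (hv.trans (map_zero _).symm)
  have hk : k = 0 := OmegaSheaf.idealSect_injective I U (h0.trans (map_zero _).symm)
  rw [hk, map_zero]

section Ideal

variable (d : X → ℕ)

/-- Functions vanishing to order at least `d`. -/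
noncomputable def divIdealFun (U : X.affineOpens) : Ideal Γ(X, U.1) :=
  ⨅ y : U.1, (IsLocalRing.maximalIdeal (X.presheaf.stalk y.1) ^ d y.1).comap
    (X.presheaf.germ U.1 y.1 y.2).hom

theorem mem_divIdealFun {U : X.affineOpens} {r : Γ(X, U.1)} :
    r ∈ divIdealFun d U ↔ ∀ (y : X) (hy : y ∈ U.1),
      X.presheaf.germ U.1 y hy r ∈ IsLocalRing.maximalIdeal (X.presheaf.stalk y) ^ d y := by
  rw [divIdealFun, Submodule.mem_iInf]
  exact ⟨fun h y hy => h ⟨y, hy⟩, fun h y => h y.1 y.2⟩

theorem finite_support_inter (hd : ∀ z, ∃ t ∈ 𝓝 z, (t ∩ Function.support d).Finite) {U : X.Opens}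
    (hU : IsAffineOpen U) : ((U : Set X) ∩ Function.support d).Finite := by
  choose t ht htf using hd
  obtain ⟨T, -, hT⟩ := hU.isCompact.elim_nhds_subcover t fun x _ => ht x
  refine (T.finite_toSet.biUnion fun x _ => htf x).subset ?_
  rintro y ⟨hyU, hy⟩
  obtain ⟨x, hxT, hxy⟩ := Set.mem_iUnion₂.mp (hT hyU)
  exact Set.mem_iUnion₂.mpr ⟨x, hxT, hxy, hy⟩

theorem divIdealFun_map (hd : ∀ z, ∃ t ∈ 𝓝 z, (t ∩ Function.support d).Finite) (U : X.affineOpens)
    (f : Γ(X, U.1)) :
    (divIdealFun d U).map (X.presheaf.map (homOfLE <| X.basicOpen_le f).op).hom =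
      divIdealFun d (X.affineBasicOpen f) := by
  have hres : ∀ (r : Γ(X, U.1)) (y : X) (hy : y ∈ X.basicOpen f),
      X.presheaf.germ (X.basicOpen f) y hy (X.presheaf.map (homOfLE <| X.basicOpen_le f).op r) =
        X.presheaf.germ U.1 y (X.basicOpen_le f hy) r := fun r y hy =>
    TopCat.Presheaf.germ_res_apply X.presheaf _ _ _ _
  refine le_antisymm (Ideal.map_le_iff_le_comap.mpr fun r hr => ?_) fun b hb => ?_
  · refine (mem_divIdealFun d (U := X.affineBasicOpen f)).mpr fun y hy => ?_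
    change X.presheaf.germ (X.basicOpen f) y hy (X.presheaf.map _ r) ∈ _
    rw [hres]
    exact (mem_divIdealFun d).mp hr y _
  · classical
    let _ : Algebra Γ(X, U.1) Γ(X, X.basicOpen f) :=
      (X.presheaf.map (homOfLE <| X.basicOpen_le f).op).hom.toAlgebra
    have : IsLocalization.Away f Γ(X, X.basicOpen f) := U.2.isLocalization_basicOpen f
    obtain ⟨⟨a, _, k, rfl⟩, ha⟩ := IsLocalization.surj (M := Submonoid.powers f)
      (show Γ(X, X.basicOpen f) from b)
    obtain ⟨N, hN⟩ := ((finite_support_inter d hd U.2).image d).bddAbove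
    have hmem : a * f ^ N ∈ divIdealFun d U := (mem_divIdealFun d).mpr fun y hy => by
      rw [map_mul]
      by_cases hyf : y ∈ X.basicOpen f
      · have e := congrArg (X.presheaf.germ (X.basicOpen f) y hyf).hom ha
        rw [RingHom.algebraMap_toAlgebra, map_mul] at e
        rw [hres, hres] at e
        refine Ideal.mul_mem_right _ _ ?_
        rw [← e]
        exact Ideal.mul_mem_right _ _ ((mem_divIdealFun d).mp hb y hyf)
      · refine Ideal.mul_mem_left _ _ ?_
        rw [map_pow]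
        have hm : X.presheaf.germ U.1 y hy f ∈ IsLocalRing.maximalIdeal (X.presheaf.stalk y) :=
          fun h => hyf ((Scheme.mem_basicOpen X f y hy).mpr h)
        refine Ideal.pow_le_pow_right ?_ (Ideal.pow_mem_pow hm N)
        rcases eq_or_ne (d y) 0 with h0 | h0
        · exact h0 ▸ Nat.zero_le _
        · exact hN ⟨y, ⟨hy, h0⟩, rfl⟩
    have hu : IsUnit (algebraMap Γ(X, U.1) Γ(X, X.basicOpen f) f) :=
      IsLocalization.map_units _ (⟨f, 1, pow_one f⟩ : Submonoid.powers f)
    refine (Ideal.mul_unit_mem_iff_mem _ (hu.pow (k + N))).mp ?_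
    have e : (show Γ(X, X.basicOpen f) from b) * algebraMap Γ(X, U.1) Γ(X, X.basicOpen f) f ^ (k + N) =
        algebraMap Γ(X, U.1) Γ(X, X.basicOpen f) (a * f ^ N) := by
      rw [map_mul, ← ha, map_pow, map_pow, pow_add, mul_assoc]
    change (show Γ(X, X.basicOpen f) from b) * algebraMap Γ(X, U.1) Γ(X, X.basicOpen f) f ^ (k + N) ∈ _
    rw [e]
    exact Ideal.mem_map_of_mem _ hmem

/-- The ideal sheaf of functions vanishing to order at least `d`. -/
noncomputable def divIdeal (hd : ∀ z, ∃ t ∈ 𝓝 z, (t ∩ Function.support d).Finite) :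
    X.IdealSheafData where
  ideal := divIdealFun d
  map_ideal_basicOpen := divIdealFun_map d hd

variable [IsIntegral X] [IsLocallyNoetherian X] {d}

/-- An affine neighbourhood meeting the support of `d` only in generizations of `x`. -/
theorem exists_affine_support (hd : ∀ z, ∃ t ∈ 𝓝 z, (t ∩ Function.support d).Finite) (x : X) :
    ∃ U : X.affineOpens, x ∈ U.1 ∧ ∀ y ∈ U.1, d y ≠ 0 → y ⤳ x := by
  obtain ⟨U₀, hU₀, hx⟩ := exists_affine_mem x
  let T : Set X := {y | y ∈ U₀ ∧ d y ≠ 0 ∧ ¬ y ⤳ x}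
  have hT : T.Finite := (finite_support_inter d hd hU₀).subset fun y hy => ⟨hy.1, hy.2.1⟩
  let O : X.Opens := ⟨(U₀ : Set X) ∩ (⋃ y ∈ T, closure ({y} : Set X))ᶜ,
    U₀.2.inter (hT.isClosed_biUnion fun _ _ => isClosed_closure).isOpen_compl⟩
  have hxO : x ∈ O := ⟨hx, fun h => by
    obtain ⟨y, hy, hxy⟩ := Set.mem_iUnion₂.mp h
    exact hy.2.2 (specializes_iff_mem_closure.mpr hxy)⟩
  obtain ⟨U, hxU, hle⟩ := Divisors.exists_affine_le x O hxO
  refine ⟨U, hxU, fun y hy hdy => ?_⟩
  by_contra hns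
  exact (hle hy).2 (Set.mem_iUnion₂.mpr ⟨y, ⟨(hle hy).1, hdy, hns⟩, subset_closure rfl⟩)

theorem hasDiv_ddual_divIdeal (hX : Pi1.IsNormalScheme X)
    (hd : ∀ z, ∃ t ∈ 𝓝 z, (t ∩ Function.support d).Finite)
    (hsupp : ∀ x, Order.coheight x ≠ 1 → d x = 0) :
    RefHull.IsRef1 (RefHull.ddual (ClSub.idealMod (divIdeal d hd))) ∧
      HasDiv (RefHull.ddual (ClSub.idealMod (divIdeal d hd))) (fun x => -(d x : ℤ)) := by
  classical
  set I := divIdeal d hd with hI
  have hcoh := isCoh_idealMod I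
  have := hcoh.1
  obtain ⟨Uη, hη, hUη⟩ := exists_affine_support hd (genericPoint ↥X)
  have hone : (1 : Γ(X, Uη.1)) ∈ I.ideal Uη := (mem_divIdealFun d).mpr fun y hy => by
    have h0 : d y = 0 := by
      by_contra h
      have hy' : y = genericPoint ↥X := ((hUη y hy h).antisymm (genSpec y)).eq
      have hy1 : Order.coheight y = 1 := by_contra fun h1 => h (hsupp y h1)
      have hy2 := ((coheight_eq_one_iff y).mp hy1)
      subst hy'
      rw [ringKrullDim_eq_zero_of_isField (Field.toIsField X.functionField)] at hy2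
      exact zero_ne_one hy2
    rw [h0, pow_zero, Ideal.one_eq_top]
    trivial
  obtain ⟨k₁, hk₁⟩ := OmegaSheaf.exists_idealSect I Uη hone
  let w := germ (ClSub.idealMod I) (genericPoint ↥X) hη k₁
  have hw1 : incl I (genericPoint ↥X) w = 1 := by rw [incl_germ, hk₁, map_one]
  have hw : w ≠ 0 := fun e => one_ne_zero (hw1.symm.trans (by rw [e, map_zero]))
  have hbw : IsStalkBasis (ClSub.idealMod I) (genericPoint ↥X) w := by
    refine ⟨fun a b hab => ?_, fun v => ⟨incl I _ v, incl_injective I _ ?_⟩⟩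
    · have h := congrArg (incl I (genericPoint ↥X)) hab
      dsimp only at h
      rwa [map_smul, map_smul, hw1, smul_eq_mul, smul_eq_mul, mul_one, mul_one] at h
    · rw [map_smul, hw1, smul_eq_mul, mul_one]
  refine ⟨isRef1_of (isCoh_ddual hcoh) (isReflexive_ddual hcoh) (isRankOne_ddual hcoh ⟨w, hbw⟩),
    _, fun e => hw ((bidual_gen_bijective hcoh).1 (e.trans (map_zero _).symm)), fun x hx => ?_⟩
  have hx1 := (coheight_eq_one_iff x).mpr hx
  have := isDiscreteValuationRing_stalk hX hx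
  obtain ⟨p, hp⟩ := IsDiscreteValuationRing.exists_irreducible (X.presheaf.stalk x)
  obtain ⟨U, hxU, hU⟩ := exists_affine_support hd x
  have hmax : IsLocalRing.maximalIdeal (X.presheaf.stalk x) = Ideal.span {p} := hp.maximalIdeal_eq
  have hmemI : ∀ r : Γ(X, U.1), r ∈ I.ideal U ↔
      X.presheaf.germ U.1 x hxU r ∈ Ideal.span {p ^ d x} := fun r => by
    rw [← Ideal.span_singleton_pow, ← hmax]
    refine ⟨fun h => (mem_divIdealFun d).mp h x hxU, fun h => (mem_divIdealFun d).mpr fun y hy => ?_⟩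
    rcases eq_or_ne (d y) 0 with h0 | h0
    · rw [h0, pow_zero, Ideal.one_eq_top]; trivial
    · rcases eq_or_ne y x with rfl | hne
      · exact h
      · have he := eq_genericPoint_of_specializes hx1 (hU y hy h0) hne
        subst he
        have hy1 : Order.coheight (genericPoint ↥X) = 1 := by_contra fun h1 => h0 (hsupp _ h1)
        have hy2 := (coheight_eq_one_iff _).mp hy1
        rw [ringKrullDim_eq_zero_of_isField (Field.toIsField X.functionField)] at hy2
        exact absurd hy2 zero_ne_one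
  obtain ⟨r, c, hc, hcr⟩ := exists_mul_germ_eq U.2 hxU (p ^ d x)
  have hcu : IsUnit (X.presheaf.germ U.1 x hxU c) := (Scheme.mem_basicOpen X c x hxU).mp hc
  have hrI : r ∈ I.ideal U := (hmemI r).mpr
    (Ideal.mem_span_singleton.mpr ⟨_, hcr.symm.trans (mul_comm _ _)⟩)
  obtain ⟨k, hk⟩ := OmegaSheaf.exists_idealSect I U hrI
  obtain ⟨t, ht⟩ : ∃ t, t = (↑hcu.unit⁻¹ : X.presheaf.stalk x) • germ (ClSub.idealMod I) x hxU k :=
    ⟨_, rfl⟩
  have ht1 : incl I x t = p ^ d x := by
    rw [ht, map_smul, incl_germ, hk, ← hcr, smul_eq_mul, ← mul_assoc, IsUnit.val_inv_mul, one_mul]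
  have hp0 : p ^ d x ≠ 0 := pow_ne_zero _ hp.ne_zero
  have hbt : IsStalkBasis (ClSub.idealMod I) x t := by
    refine ⟨fun a b hab => ?_, fun v => ?_⟩
    · have h := congrArg (incl I x) hab
      dsimp only at h
      rw [map_smul, map_smul, ht1, smul_eq_mul, smul_eq_mul] at h
      exact mul_right_cancel₀ hp0 h
    · obtain ⟨e, m, he, hem⟩ := exists_smul_germ_eq (ClSub.idealMod I) U.2 x hxU v
      have heu : IsUnit (X.presheaf.germ U.1 x hxU e) := (Scheme.mem_basicOpen X e x hxU).mp he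
      obtain ⟨q, hq⟩ := Ideal.mem_span_singleton.mp
        ((hmemI _).mp (OmegaSheaf.idealSect_mem I U m))
      refine ⟨↑heu.unit⁻¹ * q, incl_injective I x (heu.mul_left_cancel ?_)⟩
      rw [map_smul, ht1, smul_eq_mul, ← smul_eq_mul (X.presheaf.germ U.1 x hxU e) (incl I x v),
        ← map_smul, hem, incl_germ, hq, ← mul_assoc, ← mul_assoc, IsUnit.mul_val_inv, one_mul,
        mul_comm]
  rw [ordSec_bidual hX hcoh hx hbt hw]
  have hP : rspec (genSpec x) (p ^ d x) ≠ 0 := fun e => hp0 (rspec_gen_injective x (e.trans (map_zero _).symm))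
  rw [ordSec_eq hx.le hbt (φ := show X.presheaf.stalk (genericPoint ↥X) from
    (show X.functionField from rspec (genSpec x) (p ^ d x))⁻¹) (incl_injective I _ (by
      rw [map_smul, incl_mspec, ht1, hw1, smul_eq_mul]
      exact inv_mul_cancel₀ hP))]
  change ordK x ((show X.functionField from rspec (genSpec x) (p ^ d x))⁻¹) = _
  rw [ordK_inv hx.le hP]
  congr 1
  have := krullDimLE_of_dim_le hx.le
  change CycAlg.ordFrac _ _ (algebraMap (X.presheaf.stalk x) X.functionField (p ^ d x)) = _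
  rw [ordFrac_algebraMap' hp0, Ring.ord_pow (mem_nonZeroDivisors_of_ne_zero hp.ne_zero),
    Ring.ord_of_irreducible hp]
  simp

/-- Every divisor is the divisor of a rational section of a reflexive module of rank one. -/
theorem exists_ref1_hasDiv (hX : Pi1.IsNormalScheme X) (D : AlgebraicCycle X ℤ)
    (hD : ∀ x, Order.coheight x ≠ 1 → D x = 0) :
    ∃ F : X.Modules, RefHull.IsRef1 F ∧ HasDiv F (fun x => D x) := by
  have hloc : ∀ z, ∃ t ∈ 𝓝 z, (t ∩ Function.support (fun x => D x)).Finite := fun z =>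
    D.supportLocallyFiniteWithinDomain' z trivial
  have hP : ∀ z, ∃ t ∈ 𝓝 z, (t ∩ Function.support (fun x => (D x).toNat)).Finite := fun z => by
    obtain ⟨t, ht, hf⟩ := hloc z
    refine ⟨t, ht, hf.subset fun y hy => ⟨hy.1, fun e => hy.2 ?_⟩⟩
    dsimp only at e ⊢
    rw [e]; rfl
  have hM : ∀ z, ∃ t ∈ 𝓝 z, (t ∩ Function.support (fun x => (-D x).toNat)).Finite := fun z => by
    obtain ⟨t, ht, hf⟩ := hloc z
    refine ⟨t, ht, hf.subset fun y hy => ⟨hy.1, fun e => hy.2 ?_⟩⟩
    dsimp only at e ⊢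
    rw [e]; rfl
  obtain ⟨hp1, hp2⟩ := hasDiv_ddual_divIdeal hX hP fun x hx => by simp [hD x hx]
  obtain ⟨hm1, hm2⟩ := hasDiv_ddual_divIdeal hX hM fun x hx => by simp [hD x hx]
  refine ⟨_, isRef1_refTensor (isRef1_dual hp1) hm1, ?_⟩
  obtain ⟨w, hw, h⟩ := hasDiv_refTensor hX (isRef1_dual hp1) hm1 (hasDiv_dual hX hp1 hp2) hm2
  refine ⟨w, hw, fun y hy => ?_⟩
  rw [h y hy]
  dsimp only
  omega

end Ideal

end Groth.RefRank
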