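import Groth.Agent.RefRank.DualInv
import Groth.Agent.RefRank.DivSheaf
import Groth.Agent.RefRank.EffCartierLocal
import Groth.Agent.RefRank.LocFin
import Groth.Agent.PicAux.EffCartierLine
import Groth.Agent.ProjFormula.Bidual
import Groth.Agent.CohTwo.PushClosed

/-!
# Divisors of the twists by an integral effective Cartier divisor, cokernels supported on it
-/

set_option autoImplicit false
universe u

open CategoryTheory CategoryTheory.Limits AlgebraicGeometry TopologicalSpace Groth.QCohMod

namespace Groth.RefRank.CartierTwist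

variable {X : Scheme.{u}} [IsIntegral X] [IsLocallyNoetherian X]

theorem isRef1_of_isInvertible {L : X.Modules} (hL : PicF.IsInvertible L) : RefHull.IsRef1 L := by
  obtain ⟨t, ht⟩ := exists_isStalkBasis_of_isInvertible hL (genericPoint ↥X)
  exact isRef1_of (EulerDeg.isCoh_of_isInvertible hL)
    (_root_.Groth.ProjFormula.isIso_bidualMap
      (LocFree.isFinLocFree_of_rank (LocFree.isInvertible_iff_ofRank_one.1 hL))) ⟨t, ht⟩

theorem hasDiv_tensor {L M : X.Modules} (hL : PicF.IsInvertible L) (hM : PicF.IsInvertible M)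
    {d e : X → ℤ} (hd : HasDiv L d) (he : HasDiv M e) :
    HasDiv (CohB1.tensorMod L M) (fun y => d y + e y) := by
  obtain ⟨s, hs, hd⟩ := hd
  obtain ⟨t, ht, he⟩ := he
  haveI := isQuasicoherent_of_isInvertible hL
  haveI := isQuasicoherent_of_isInvertible hM
  refine ⟨_, stalkTensor_ne_zero (isRankOne_of_genInvertible (isRef1_of_isInvertible hL).2.2)
    (isRankOne_of_genInvertible (isRef1_of_isInvertible hM).2.2) hs ht, fun y hy => ?_⟩
  obtain ⟨u, hu⟩ := exists_isStalkBasis_of_isInvertible hL y
  obtain ⟨v, hv⟩ := exists_isStalkBasis_of_isInvertible hM y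
  rw [ordSec_tensor hy.le hu hv hs ht, hd y hy, he y hy]

theorem hasDiv_tensorPow {L : X.Modules} (hL : PicF.IsInvertible L) {d : X → ℤ} (hd : HasDiv L d) :
    ∀ n : ℕ, HasDiv (CohB1.tensorPow L n) (fun y => (n : ℤ) * d y)
  | 0 => by
    have e : (fun y => ((0 : ℕ) : ℤ) * d y) = fun _ => (0 : ℤ) := funext fun y => by simp
    rw [e]
    exact hasDiv_structure
  | n + 1 => by
    have e : (fun y => ((n + 1 : ℕ) : ℤ) * d y) = fun y => (n : ℤ) * d y + d y :=
      funext fun y => by push_cast; ring
    rw [e]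
    exact hasDiv_tensor (Abvar.PicCalc.isInvertible_tensorPow hL n) hL (hasDiv_tensorPow hL hd n) hd

variable {D : X.IdealSheafData}

theorem genericPoint_notMem_support (hD : BlowUp.IsEffCartierIdeal D) :
    genericPoint ↥X ∉ D.support := by
  obtain ⟨W, hxW, -, g, hg, hgI⟩ := Divisors.exists_generator hD (genericPoint ↥X) ⊤ trivial
  rw [EffCartierLocal.mem_support_iff_map_germ_ne_top D hxW, not_not, hgI, Ideal.map_span,
    Set.image_singleton, Ideal.span_singleton_eq_top]
  exact isUnit_gen_iff.2 (nonZeroDivisors.ne_zero (hg _ hxW))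

open Classical in
/-- The divisor of `O(D)` for a reduced effective Cartier divisor. -/
theorem hasDiv_dual_idealMod (hX : Pi1.IsNormalScheme X) (hD : BlowUp.IsEffCartierIdeal D)
    [IsReduced D.subscheme] :
    HasDiv (RefHull.dual (ClSub.idealMod D)) (fun y => if y ∈ D.support then 1 else 0) := by
  have hinv := PicAux.isInvertible_idealMod hD
  have hr1 := isRef1_of_isInvertible hinv
  have := hr1.1.1
  have hrad : ∀ V : X.affineOpens, (D.ideal V).IsRadical := fun V => by
    rw [Ideal.isRadical_iff_quotient_reduced]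
    exact isReduced_of_injective (D.subschemeObjIso V).inv.hom
      (D.subschemeObjIso V).symm.commRingCatIsoToRingEquiv.injective
  suffices h : HasDiv (ClSub.idealMod D) (fun y => -(if y ∈ D.support then (1 : ℤ) else 0)) by
    have := hasDiv_dual hX hr1 h
    simpa using this
  obtain ⟨W₀, hW₀, -, k₀, hk₀, hnz₀, hI₀⟩ := PicAux.exists_gen_idealMod hD (genericPoint ↥X) ⊤ trivial
  have hg₀ : X.presheaf.germ W₀.1 _ hW₀ (OmegaSh.idealSect D W₀.1 k₀) ≠ 0 :=
    nonZeroDivisors.ne_zero (hnz₀ _ hW₀)
  obtain ⟨w, hw⟩ : ∃ w, incl D (genericPoint ↥X) w = 1 :=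
    ⟨(↑(isUnit_gen_iff.2 hg₀).unit⁻¹ : X.presheaf.stalk (genericPoint ↥X)) •
      germ (ClSub.idealMod D) _ hW₀ k₀, by
        rw [map_smul, incl_germ, smul_eq_mul, IsUnit.val_inv_mul]⟩
  refine ⟨w, fun e => one_ne_zero (hw.symm.trans (by rw [e, map_zero])), fun y hy => ?_⟩
  have := isDiscreteValuationRing_stalk hX hy
  have := krullDimLE_of_dim_le hy.le
  obtain ⟨W, hyW, -, k, hk, hnz, hI⟩ := PicAux.exists_gen_idealMod hD y ⊤ trivial
  let g := X.presheaf.germ W.1 y hyW (OmegaSh.idealSect D W.1 k)
  have hg : g ≠ 0 := nonZeroDivisors.ne_zero (hnz _ hyW)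
  have hρg : rspec (genSpec y) g ≠ 0 := fun e => hg (rspec_gen_injective y (e.trans (map_zero _).symm))
  have hbasis := isStalkBasis_germ_of_gen hk hyW
  rw [ordSec_eq hy.le hbasis (φ := (show X.functionField from rspec (genSpec y) g)⁻¹)
    (incl_injective D _ (by
      rw [map_smul, incl_mspec, incl_germ, hw, smul_eq_mul]
      exact inv_mul_cancel₀ hρg))]
  change ordK y ((show X.functionField from rspec (genSpec y) g)⁻¹) = _
  rw [ordK_inv hy.le hρg]
  refine congrArg Neg.neg ?_
  have hmap : (D.ideal W).map (X.presheaf.germ W.1 y hyW).hom = Ideal.span {g} := by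
    rw [hI, Ideal.map_span, Set.image_singleton]
  by_cases hys : y ∈ D.support
  · rw [if_pos hys]
    have hne : Ideal.span {g} ≠ ⊤ :=
      hmap ▸ (EffCartierLocal.mem_support_iff_map_germ_ne_top D hyW).1 hys
    obtain ⟨p, hp⟩ := IsDiscreteValuationRing.exists_irreducible (X.presheaf.stalk y)
    obtain ⟨n, hn⟩ := IsDiscreteValuationRing.associated_pow_irreducible hg hp
    have hrad' : (Ideal.span {g}).IsRadical :=
      hmap ▸ EffCartierLocal.isRadical_map_germ D hrad hyW
    have hpg : p ∈ Ideal.span {g} := hrad' ⟨n, Ideal.mem_span_singleton.2 hn.dvd⟩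
    have hgp : Irreducible g := by
      obtain ⟨c, hc⟩ := Ideal.mem_span_singleton.1 hpg
      rcases hp.isUnit_or_isUnit hc with h | h
      · exact absurd (Ideal.span_singleton_eq_top.2 h) hne
      · exact (Associated.irreducible_iff ⟨h.unit, hc.symm⟩).2 hp
    change CycAlg.ordFrac _ _ (algebraMap (X.presheaf.stalk y) X.functionField g) = _
    rw [ordFrac_algebraMap' hg, Ring.ord_of_irreducible hgp]
    rfl
  · rw [if_neg hys]
    have : IsUnit g := by
      rw [← Ideal.span_singleton_eq_top, ← hmap]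
      by_contra h
      exact hys ((EffCartierLocal.mem_support_iff_map_germ_ne_top D hyW).2 h)
    exact ordK_of_isUnit hy.le this

theorem eq_image_genericPoint [IsIntegral D.subscheme] (hD : BlowUp.IsEffCartierIdeal D) {y : X}
    (hy : ringKrullDim (X.presheaf.stalk y) = 1) (hys : y ∈ D.support) :
    D.subschemeι (genericPoint ↥D.subscheme) = y := by
  obtain ⟨z, rfl⟩ : y ∈ Set.range D.subschemeι := by
    rw [Scheme.IdealSheafData.range_subschemeι]; exact hys
  by_contra hne
  have h := eq_genericPoint_of_specializes ((coheight_eq_one_iff _).2 hy)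
    ((genericPoint_specializes z).map D.subschemeι.continuous) hne
  refine genericPoint_notMem_support hD ?_
  rw [← h, ← SetLike.mem_coe, ← Scheme.IdealSheafData.range_subschemeι]
  exact ⟨_, rfl⟩

theorem subsingleton_stalk_push (G : D.subscheme.Modules) {y : X} (hy : y ∉ D.support) :
    Subsingleton (((Scheme.Modules.pushforward D.subschemeι).obj G).presheaf.stalk y) := by
  by_contra h
  have h' := CohTwo.support_push_subset D.subschemeι G h
  rw [Scheme.IdealSheafData.range_subschemeι] at h'
  exact hy h'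

theorem pushStalk_smul (G : D.subscheme.Modules) (z : D.subscheme)
    (c : X.presheaf.stalk (D.subschemeι z))
    (t : ((Scheme.Modules.pushforward D.subschemeι).obj G).presheaf.stalk (D.subschemeι z)) :
    CohTwo.pushStalk D.subschemeι G z (c • t) =
      D.subschemeι.stalkMap z c • CohTwo.pushStalk D.subschemeι G z t := by
  obtain ⟨U, hU, r, rfl⟩ := TopCat.Presheaf.exists_germ_eq X.presheaf c
  obtain ⟨V, hV, m, rfl⟩ := exists_germ _ _ t
  have hW : D.subschemeι z ∈ U ⊓ V := ⟨hU, hV⟩
  rw [← TopCat.Presheaf.germ_res_apply X.presheaf (homOfLE (inf_le_left : U ⊓ V ≤ U)) _ hW r,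
    ← germ_res _ (inf_le_right : U ⊓ V ≤ V) _ hW m, ← germ_smul]
  erw [Scheme.Hom.germ_stalkMap_apply, CohTwo.pushStalk_germ, CohTwo.pushStalk_germ]
  exact germ_smul G (U := D.subschemeι ⁻¹ᵁ (U ⊓ V)) z hW _ _

/-- At a point of codimension one, `i_* G` is killed by the maximal ideal and has few generators. -/
theorem exists_gens_push (hD : BlowUp.IsEffCartierIdeal D) [IsIntegral D.subscheme]
    {G : D.subscheme.Modules} {s : ℕ} (hG : FlatMod.IsFinLocFreeOfRank s G) {y : X}
    (hy : ringKrullDim (X.presheaf.stalk y) = 1) :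
    (∀ c ∈ IsLocalRing.maximalIdeal (X.presheaf.stalk y),
      ∀ q : ((Scheme.Modules.pushforward D.subschemeι).obj G).presheaf.stalk y, c • q = 0) ∧
    ∃ g : Fin s → ((Scheme.Modules.pushforward D.subschemeι).obj G).presheaf.stalk y,
      Submodule.span (X.presheaf.stalk y) (Set.range g) = ⊤ := by
  by_cases hys : y ∈ D.support
  swap
  · have := subsingleton_stalk_push G hys
    exact ⟨fun c _ q => Subsingleton.elim _ _, 0, Subsingleton.elim _ _⟩
  obtain rfl := eq_image_genericPoint hD hy hys
  let z := genericPoint ↥D.subscheme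
  let i := D.subschemeι
  haveI := LocFree.finite_stalk (LocFree.isFinLocFree_of_rank hG) z
  letI : Field (D.subscheme.presheaf.stalk z) := inferInstanceAs (Field D.subscheme.functionField)
  have hb := CohTwo.bijective_pushStalk i G z
  refine ⟨fun c hc q => hb.1 ?_, ?_⟩
  · rw [pushStalk_smul, map_zero]
    have h0 : i.stalkMap z c = 0 := by
      by_contra h
      exact hc (IsUnit.of_map (i.stalkMap z).hom c (isUnit_iff_ne_zero.2 h))
    rw [h0, zero_smul]
  · let b := Module.finBasisOfFinrankEq (D.subscheme.presheaf.stalk z) (G.presheaf.stalk z)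
      (LocFree.finrank_stalk hG z)
    choose g hg using fun j => hb.2 (b j)
    refine ⟨g, eq_top_iff.2 ?_⟩
    rintro q -
    choose c hc using fun j => i.stalkMap_surjective z (b.repr (CohTwo.pushStalk i G z q) j)
    have : q = ∑ j, c j • g j := hb.1 (by
      rw [map_sum]
      refine (b.sum_repr _).symm.trans (Finset.sum_congr rfl fun j _ => ?_)
      rw [pushStalk_smul, hg, ← hc j])
    rw [this]
    exact Submodule.sum_mem _ fun j _ => Submodule.smul_mem _ _ (Submodule.subset_span ⟨j, rfl⟩)

end Groth.RefRank.CartierTwist
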