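import Mathlib
import Groth.Agent.RefRank.EffCartierLocal
import Groth.Agent.RefRank.Algebra

/-!
# Extending effective Cartier divisors across factorial local rings
-/

set_option autoImplicit false
universe u

open CategoryTheory CategoryTheory.Limits AlgebraicGeometry TopologicalSpace IsLocalRing Groth.QCohMod

namespace Groth.RefRank.EffCartierLocal

open Groth.RefRank Groth.RefRank.CDivNormal

variable {X : Scheme.{u}}

theorem map_germ_eq (D : X.IdealSheafData) {V W : X.affineOpens} {x : X} (hV : x ∈ V.1) (hW : x ∈ W.1) :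
    (D.ideal V).map (X.presheaf.germ V.1 x hV).hom = (D.ideal W).map (X.presheaf.germ W.1 x hW).hom := by
  obtain ⟨_, ⟨W', hW', rfl⟩, hx, hle⟩ :=
    X.isBasis_affineOpens.exists_subset_of_mem_open (a := x) (u := ((V.1 ⊓ W.1 : X.Opens) : Set X))
      ⟨hV, hW⟩ (V.1 ⊓ W.1).2
  have key : ∀ (U : X.affineOpens) (hU : x ∈ U.1) (h : W' ≤ U.1),
      (D.ideal U).map (X.presheaf.germ U.1 x hU).hom =
        (D.ideal ⟨W', hW'⟩).map (X.presheaf.germ W' x hx).hom := by
    intro U hU h
    rw [← D.map_ideal (U := ⟨W', hW'⟩) (V := U) h, Ideal.map_map, ← CommRingCat.hom_comp]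
    erw [X.presheaf.germ_res (homOfLE h) x hx]
  rw [key V hV fun a ha => (hle ha).1, key W hW fun a ha => (hle ha).2]

theorem germ_mem_nonZeroDivisors {W : X.affineOpens} {x : X} (hx : x ∈ W.1) {g : Γ(X, W.1)}
    (hg : g ∈ nonZeroDivisors Γ(X, W.1)) :
    X.presheaf.germ W.1 x hx g ∈ nonZeroDivisors (X.presheaf.stalk x) := by
  let _ := TopCat.Presheaf.algebra_section_stalk X.presheaf ⟨x, hx⟩
  have := W.2.isLocalization_stalk ⟨x, hx⟩
  exact IsLocalization.nonZeroDivisors_le_comap (W.2.primeIdealOf ⟨x, hx⟩).asIdeal.primeCompl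
    (X.presheaf.stalk x) hg

variable [IsLocallyNoetherian X] (U : X.Opens) (D : (U : Scheme.{u}).IdealSheafData)

/-- The scheme-theoretic closure of a closed subscheme of an open. -/
noncomputable def closureIdeal : X.IdealSheafData := Scheme.Hom.ker (D.subschemeι ≫ U.ι)

theorem ideal_comap_closureIdeal (W : (U : Scheme.{u}).affineOpens) :
    D.ideal W = ((closureIdeal U D).ideal ⟨U.ι ''ᵁ W.1, W.2.image_of_isOpenImmersion _⟩).comap
      (U.ι.appIso W.1).inv.hom := by
  have := Scheme.ker_ideal_of_isPullback_of_isOpenImmersion (D.subschemeι ≫ U.ι) D.subschemeι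
    (𝟙 D.subscheme) U.ι (IsPullback.of_vert_isIso_mono ⟨by simp⟩) W
  rwa [D.ker_subschemeι] at this

theorem comap_closureIdeal : (closureIdeal U D).comap U.ι = D := by
  refine Scheme.IdealSheafData.ext (funext fun W => ?_)
  rw [Scheme.IdealSheafData.ideal_comap_of_isOpenImmersion, ← ideal_comap_closureIdeal]

theorem exists_generator_closureIdeal (hD : BlowUp.IsEffCartierIdeal D) {y : X} (hy : y ∈ U)
    {V : X.affineOpens} (hyV : y ∈ V.1) :
    ∃ g : X.presheaf.stalk y, g ∈ nonZeroDivisors (X.presheaf.stalk y) ∧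
      ((closureIdeal U D).ideal V).map (X.presheaf.germ V.1 y hyV).hom = Ideal.span {g} := by
  obtain ⟨W, hyW, f, hf, hDf⟩ := hD ⟨y, hy⟩
  let e := (U.ι.appIso W.1).commRingCatIsoToRingEquiv
  have hyW' : y ∈ U.ι ''ᵁ W.1 := ⟨⟨y, hy⟩, hyW, rfl⟩
  have hI : (closureIdeal U D).ideal ⟨U.ι ''ᵁ W.1, W.2.image_of_isOpenImmersion _⟩ =
      Ideal.span {(U.ι.appIso W.1).inv.hom f} := by
    rw [← Ideal.map_comap_of_surjective (U.ι.appIso W.1).inv.hom
      (ConcreteCategory.bijective_of_isIso (U.ι.appIso W.1).inv).2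
      ((closureIdeal U D).ideal ⟨U.ι ''ᵁ W.1, W.2.image_of_isOpenImmersion _⟩),
      ← ideal_comap_closureIdeal, hDf, Ideal.map_span, Set.image_singleton]
  have hnzd : (U.ι.appIso W.1).inv.hom f ∈ nonZeroDivisors Γ(X, U.ι ''ᵁ W.1) := by
    rw [mem_nonZeroDivisors_iff_right]
    intro b hb
    refine e.injective ?_
    rw [map_zero]
    refine mem_nonZeroDivisors_iff_right.1 hf _ ?_
    have := congrArg e hb
    rwa [map_mul, map_zero, show e ((U.ι.appIso W.1).inv.hom f) = f from
      (U.ι.appIso W.1).inv_hom_id_apply f] at this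
  refine ⟨X.presheaf.germ (U.ι ''ᵁ W.1) y hyW' ((U.ι.appIso W.1).inv.hom f),
    germ_mem_nonZeroDivisors (W := ⟨_, W.2.image_of_isOpenImmersion _⟩) hyW' hnzd, ?_⟩
  rw [map_germ_eq (closureIdeal U D) hyV (W := ⟨_, W.2.image_of_isOpenImmersion _⟩) hyW', hI,
    Ideal.map_span, Set.image_singleton]

theorem mem_of_assoc {y : X} {V : X.affineOpens} (hyV : y ∈ V.1) {a : Γ(X, V.1)}
    (ha : X.presheaf.germ V.1 y hyV a ∉
      ((closureIdeal U D).ideal V).map (X.presheaf.germ V.1 y hyV).hom)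
    (hm : ∀ r ∈ maximalIdeal (X.presheaf.stalk y), r * X.presheaf.germ V.1 y hyV a ∈
      ((closureIdeal U D).ideal V).map (X.presheaf.germ V.1 y hyV).hom) : y ∈ U := by
  classical
  by_contra hyU
  have : IsNoetherianRing Γ(X, V.1) := IsLocallyNoetherian.component_noetherian V
  let _ := TopCat.Presheaf.algebra_section_stalk X.presheaf ⟨y, hyV⟩
  have := V.2.isLocalization_stalk ⟨y, hyV⟩
  let J := (closureIdeal U D).ideal V
  let p := (V.2.primeIdealOf ⟨y, hyV⟩).asIdeal
  obtain ⟨G, hG⟩ := IsNoetherian.noetherian p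
  have hGp : ∀ b ∈ G, b ∈ p := fun b hb => hG ▸ Submodule.subset_span hb
  have hs : ∀ b : G, ∃ s ∈ p.primeCompl, s * (b.1 * a) ∈ J := by
    intro b
    refine (IsLocalization.algebraMap_mem_map_algebraMap_iff p.primeCompl
      (X.presheaf.stalk y) J (b.1 * a)).1 ?_
    rw [map_mul]
    exact hm _ ((IsLocalization.AtPrime.to_map_mem_maximal_iff (X.presheaf.stalk y) p b.1).2 (hGp b.1 b.2))
  choose s hs hsJ using hs
  let t := ∏ b : G, s b
  have ht : t ∈ p.primeCompl := p.primeCompl.prod_mem fun b _ => hs b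
  have hta : ∀ b : G, b.1 * (t * a) ∈ J := fun b => by
    obtain ⟨r, hr⟩ := Finset.dvd_prod_of_mem s (Finset.mem_univ b)
    rw [show b.1 * (t * a) = r * (s b * (b.1 * a)) by rw [show t = s b * r from hr]; ring]
    exact J.mul_mem_left r (hsJ b)
  refine ha ?_
  suffices htJ : t * a ∈ J from
    (IsLocalization.algebraMap_mem_map_algebraMap_iff p.primeCompl (X.presheaf.stalk y) J a).2
      ⟨t, ht, htJ⟩
  let g := D.subschemeι ≫ U.ι
  have hker : J = RingHom.ker (g.app V.1).hom := Scheme.Hom.ker_apply _ V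
  rw [hker, RingHom.mem_ker]
  refine TopCat.Presheaf.section_ext D.subscheme.sheaf _ _ 0 fun z hz => ?_
  change D.subscheme.presheaf.germ _ z hz (g.app V.1 (t * a)) = D.subscheme.presheaf.germ _ z hz 0
  rw [map_zero]
  have hzV : g z ∈ V.1 := hz
  have hzU : g z ∈ U := (D.subschemeι z).2
  obtain ⟨b, hb⟩ : ∃ b : G, IsUnit (X.presheaf.germ V.1 (g z) hzV b.1) := by
    by_contra! hall
    have hle : p ≤ (V.2.primeIdealOf ⟨g z, hzV⟩).asIdeal := by
      rw [← hG, Submodule.span_le]
      intro b hb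
      by_contra hbq
      exact hall ⟨b, hb⟩ ((Groth.Divisors.isUnit_germ_iff V.2 hzV b).2 hbq)
    have hsp := ((PrimeSpectrum.le_iff_specializes _ _).1 hle).map V.2.fromSpec.continuous
    rw [V.2.fromSpec_primeIdealOf, V.2.fromSpec_primeIdealOf] at hsp
    exact hyU (hsp.mem_open U.2 hzU)
  have h0 : g.app V.1 (b.1 * (t * a)) = 0 := RingHom.mem_ker.1 (hker ▸ hta b)
  have hu : IsUnit (D.subscheme.presheaf.germ _ z hz (g.app V.1 b.1)) :=
    (Scheme.Hom.germ_stalkMap_apply g V.1 z hzV b.1) ▸ hb.map (g.stalkMap z).hom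
  refine hu.mul_right_eq_zero.1 ?_
  rw [← map_mul, ← map_mul, h0, map_zero]

theorem isEffCartierIdeal_closureIdeal (hD : BlowUp.IsEffCartierIdeal D)
    (hufd : ∀ x : X, x ∉ U → IsDomain (X.presheaf.stalk x) ∧ UniqueFactorizationMonoid (X.presheaf.stalk x)) :
    BlowUp.IsEffCartierIdeal (closureIdeal U D) := by
  refine Groth.Divisors.isEffCartierIdeal_of_stalk _ fun x hxD V hx => ?_
  by_cases hxU : x ∈ U
  · exact exists_generator_closureIdeal U D hD hxU hx
  obtain ⟨_, _⟩ := hufd x hxU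
  let J := ((closureIdeal U D).ideal V).map (X.presheaf.germ V.1 x hx).hom
  have key : ∀ P ∈ associatedPrimes (X.presheaf.stalk x) (X.presheaf.stalk x ⧸ J),
      P ∈ J.minimalPrimes ∧ P.height = 1 := by
    intro P hP
    obtain ⟨y, h, he, hyD, a, ha, hm⟩ := exists_assoc_point (closureIdeal U D) hx hP
    have hyV := h.mem_open V.1.2 hx
    obtain ⟨_, _⟩ := stalk_generization_isDomain h
    obtain ⟨g, hg, hgJ⟩ :=
      exists_generator_closureIdeal U D hD (mem_of_assoc U D hyV ha hm) hyV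
    have hg0 := nonZeroDivisors.ne_zero hg
    have hgm : g ∈ maximalIdeal (X.presheaf.stalk y) := fun hu =>
      (mem_support_iff_map_germ_ne_top _ hyV).1 hyD (hgJ ▸ Ideal.span_singleton_eq_top.2 hu)
    rw [hgJ] at ha hm
    have hmbot : maximalIdeal (X.presheaf.stalk y) ≠ ⊥ := fun e => hg0 (by simpa [e] using hgm)
    obtain ⟨π, hπ, s, hs, hπs⟩ := Groth.RefRank.exists_generator_up_to hmbot hg0
      (fun hd => ha (Ideal.mem_span_singleton.2 hd)) fun q hq => Ideal.mem_span_singleton.1 (hm q hq)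
    have hmax : maximalIdeal (X.presheaf.stalk y) = Ideal.span {π} := by
      refine le_antisymm (fun q hq => ?_) ((Ideal.span_singleton_le_iff_mem _).2 hπ)
      obtain ⟨r, hr⟩ := hπs q hq
      exact ((IsLocalRing.notMem_maximalIdeal.1 hs).dvd_mul_left.1 ⟨r, hr.trans (mul_comm r π)⟩
        |> Ideal.mem_span_singleton.2)
    have h1 : (maximalIdeal (X.presheaf.stalk y)).height ≤ 1 := by
      refine Ideal.height_le_one_of_isPrincipal_of_mem_minimalPrimes (Ideal.span {π}) _ ?_
      rw [← hmax]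
      exact ⟨⟨inferInstance, le_rfl⟩, fun q hq _ => hq.2⟩
    have hPy : P.height = (maximalIdeal (X.presheaf.stalk y)).height := by
      have := height_primeAt h
      rw [he, ← maximalIdeal_height_eq_ringKrullDim] at this
      exact_mod_cast this
    have hP1 : P.height = 1 := le_antisymm (hPy ▸ h1) (Order.one_le_iff_ne_zero.2 fun h0 =>
      hmbot (Ideal.height_eq_zero_iff_eq_bot.1 (hPy ▸ h0)))
    refine ⟨?_, hP1⟩
    have : P.IsPrime := IsAssociatedPrime.isPrime hP
    have hJP : J ≤ P := by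
      rw [← he]
      refine Ideal.map_le_iff_le_comap.2 fun b hb => ?_
      show X.presheaf.germ V.1 x hx b ∈ primeAt h
      rw [mem_primeAt, rspec_germ h hx, ← X.mem_basicOpen b y hyV]
      exact ((Scheme.mem_zeroLocus_iff _ _ _).1
        (((closureIdeal U D).mem_support_iff_of_mem hyV).1 hyD)) b hb
    refine ⟨⟨inferInstance, hJP⟩, fun Q hQ hQP => ?_⟩
    by_contra hne
    have := hQ.1
    have hlt := Ideal.height_strict_mono_of_isPrime (lt_of_le_not_ge hQP hne)
    rw [hP1] at hlt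
    have hJ0 : J = ⊥ :=
      le_bot_iff.1 (hQ.2.trans (Ideal.height_eq_zero_iff_eq_bot.1 (Order.lt_one_iff.1 hlt)).le)
    refine hg0 (Ideal.span_singleton_eq_bot.1 ?_)
    rw [← hgJ, ← map_rspec h hx, show ((closureIdeal U D).ideal V).map (X.presheaf.germ V.1 x hx).hom = ⊥
      from hJ0, Ideal.map_bot]
  obtain ⟨g, hg⟩ := Groth.Divisors.ideal_principal_of_height_one _ J (fun P hP => (key P hP).1)
    fun P hP => (key P (Module.associatedPrimes.minimalPrimes_annihilator_subset_associatedPrimes _ _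
      (by rwa [Ideal.annihilator_quotient]))).2
  refine ⟨g, mem_nonZeroDivisors_of_ne_zero fun e => ?_, hg⟩
  have hJ0 : J = ⊥ := by rw [hg, e, Ideal.span_singleton_eq_bot.2 rfl]
  have := (key ⊥ (Module.associatedPrimes.minimalPrimes_annihilator_subset_associatedPrimes _ _
    (by rw [Ideal.annihilator_quotient, hJ0]; exact ⟨⟨Ideal.isPrime_bot, le_rfl⟩, fun q _ _ => bot_le⟩))).2
  rw [Ideal.height_bot] at this
  exact zero_ne_one this

end Groth.RefRank.EffCartierLocal
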