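import Mathlib
import Groth.Agent.RefRank.EffCartierExtend
import Groth.Agent.BlowUpBasics.CartierDiv

/-!
# Decomposing an effective Cartier divisor into integral ones
-/

set_option autoImplicit false
universe u

open CategoryTheory CategoryTheory.Limits AlgebraicGeometry TopologicalSpace IsLocalRing Groth.QCohMod

namespace Groth.RefRank.EffCartierLocal

open Groth.RefRank Groth.RefRank.CDivNormal

variable {X : Scheme.{u}}

theorem wellFoundedGT_idealSheafData [IsNoetherian X] : WellFoundedGT X.IdealSheafData := by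
  obtain ⟨T, hT⟩ := (CompactSpace.isCompact_univ (X := X)).elim_finite_subcover
    (fun U : X.affineOpens => (U.1 : Set X)) (fun U => U.1.2) (fun x _ => by
      obtain ⟨_, ⟨W, hW, rfl⟩, hx, -⟩ :=
        X.isBasis_affineOpens.exists_subset_of_mem_open (Set.mem_univ x) isOpen_univ
      exact Set.mem_iUnion.2 ⟨⟨W, hW⟩, hx⟩)
  have hcov : ⨆ U : T, U.1.1 = ⊤ := top_le_iff.1 fun z _ => by
    obtain ⟨U, hU, hz⟩ := Set.mem_iUnion₂.1 (hT (Set.mem_univ z))
    exact Opens.mem_iSup.2 ⟨⟨U, hU⟩, hz⟩
  have : ∀ U : T, IsNoetherianRing Γ(X, U.1.1) := fun U =>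
    IsLocallyNoetherian.component_noetherian U.1
  let Φ : X.IdealSheafData → ∀ U : T, Ideal Γ(X, U.1.1) := fun I U => I.ideal U.1
  have hΦ : StrictMono Φ := Monotone.strictMono_of_injective (fun I J h U => h U.1) fun I J h =>
    Scheme.IdealSheafData.ext_of_iSup_eq_top (fun U : T => U.1) hcov fun U => congrFun h U
  let Φ' : X.IdealSheafData → ∀ U : T, (Ideal Γ(X, U.1.1))ᵒᵈ := fun I U => OrderDual.toDual (Φ I U)
  have hΦ' : ∀ {a b : X.IdealSheafData}, a > b → Φ' a < Φ' b := fun {a b} hab => by
    obtain ⟨hle, j, hj⟩ := Pi.lt_def.1 (hΦ hab)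
    exact Pi.lt_def.2 ⟨fun U => hle U, j, hj⟩
  exact ⟨Subrelation.wf hΦ' (InvImage.wf Φ' wellFounded_lt)⟩

theorem le_of_isReduced_subscheme {D E : X.IdealSheafData} [IsReduced E.subscheme]
    (h : (E.support : Set X) ⊆ D.support) : D ≤ E := by
  refine le_trans (Scheme.IdealSheafData.le_support_iff_le_vanishingIdeal.1 (show E.support ≤ D.support from h)) ?_
  rw [Scheme.IdealSheafData.vanishingIdeal_support]
  intro W
  rw [Scheme.IdealSheafData.radical_ideal]
  refine (Ideal.radical_eq_iff.2 ?_).le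
  rw [Ideal.isRadical_iff_quotient_reduced]
  exact isReduced_of_injective (E.subschemeObjIso W).inv.hom
    (E.subschemeObjIso W).symm.commRingCatIsoToRingEquiv.injective

theorem eq_of_dim_eq_one [IsLocallyNoetherian X] {x y : X} (h : x ⤳ y)
    (hx : ringKrullDim (X.presheaf.stalk x) = 1) (hy : ringKrullDim (X.presheaf.stalk y) = 1) :
    x = y := by
  refine primeAt_inj h (specializes_refl y) ?_
  have hrefl : primeAt (specializes_refl y) = maximalIdeal (X.presheaf.stalk y) :=
    primeAt_eq _ fun r => by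
      rw [show rspec (specializes_refl y) r = r by simp [rspec], IsLocalRing.notMem_maximalIdeal]
  rw [hrefl]
  by_contra hne
  have hlt : primeAt h < maximalIdeal (X.presheaf.stalk y) :=
    lt_of_le_of_ne (IsLocalRing.le_maximalIdeal (Ideal.IsPrime.ne_top inferInstance)) hne
  have h1 := Ideal.height_strict_mono_of_isPrime hlt
  have h2 := height_primeAt h
  rw [hx] at h2
  rw [← maximalIdeal_height_eq_ringKrullDim] at hy
  have h2' : (primeAt h).height = 1 := by exact_mod_cast h2
  have h3 : (maximalIdeal (X.presheaf.stalk y)).height = 1 := by exact_mod_cast hy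
  rw [h2', h3] at h1
  exact lt_irrefl _ h1

theorem exists_eq_prod [IsNoetherian X] (D : X.IdealSheafData) (hD : BlowUp.IsEffCartierIdeal D)
    {ι : Type} [Fintype ι] (Ds : ι → X.IdealSheafData) (hDs : ∀ i, BlowUp.IsEffCartierIdeal (Ds i))
    (hint : ∀ i, IsIntegral (Ds i).subscheme)
    (hsub : (D.support : Set X) ⊆ ⋃ i, ((Ds i).support : Set X)) :
    ∃ a : ι → ℕ, D = ∏ i, Ds i ^ a i := by
  classical
  have := wellFoundedGT_idealSheafData (X := X)
  induction D using WellFoundedGT.induction with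
  | ind D ih =>
    by_cases htop : D = ⊤
    · refine ⟨0, ?_⟩
      simp only [Pi.zero_apply, pow_zero, Finset.prod_const_one]
      exact htop.trans Scheme.IdealSheafData.one_eq_top.symm
    obtain ⟨x, hx⟩ : (D.support : Set X).Nonempty := by
      by_contra hne
      exact htop ((Scheme.IdealSheafData.support_eq_bot_iff D).1 (SetLike.coe_injective
        ((Set.not_nonempty_iff_eq_empty.1 hne).trans (Closeds.coe_bot).symm)))
    obtain ⟨_, ⟨V, hV, rfl⟩, hxV, -⟩ :=
      X.isBasis_affineOpens.exists_subset_of_mem_open (Set.mem_univ x) isOpen_univ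
    obtain ⟨P, hP, -⟩ := Ideal.exists_minimalPrimes_le (IsLocalRing.le_maximalIdeal
      ((mem_support_iff_map_germ_ne_top D (V := ⟨V, hV⟩) hxV).1 hx))
    obtain ⟨y, -, -, hyD, hmax, -⟩ := exists_maximal_point D (V := ⟨V, hV⟩) hxV hP
    obtain ⟨i, hi⟩ := Set.mem_iUnion.1 (hsub hyD)
    have := hint i
    have hd1 := Groth.Divisors.dim_stalk_eq_one_of_maximal_support hD hyD hmax
    let ξ := (Ds i).subschemeι (genericPoint ↥(Ds i).subscheme)
    have hlift : ∀ z ∈ (Ds i).support, ξ ⤳ z := fun z hz => by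
      obtain ⟨w, rfl⟩ := (Set.ext_iff.1 (Ds i).range_subschemeι z).2 hz
      exact (genSpec w).map (Ds i).subschemeι.continuous
    have hξ : ξ ∈ (Ds i).support := (Set.ext_iff.1 (Ds i).range_subschemeι _).1 ⟨_, rfl⟩
    have hd2 := Groth.Divisors.dim_stalk_eq_one_of_maximal_support (hDs i) hξ
      fun z hz h => (h.antisymm (hlift z hz)).eq
    have hξy : ξ = y := eq_of_dim_eq_one (hlift y hi) hd2 hd1
    have hle : D ≤ Ds i := le_of_isReduced_subscheme fun z hz =>
      (hξy ▸ hlift z hz).mem_closed D.support.isClosed hyD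
    obtain ⟨D', hD'⟩ := Groth.BlowUpBasics.exists_eq_mul_of_le (hDs i) hle
    have hD'c : BlowUp.IsEffCartierIdeal D' := (Groth.Divisors.isEffCartierIdeal_factors (hD' ▸ hD)).1
    have hle' : D ≤ D' := hD' ▸ fun W => by
      rw [Scheme.IdealSheafData.ideal_mul, Pi.mul_apply]
      exact Ideal.mul_le_left
    have hne : D ≠ D' := by
      intro e
      obtain ⟨W, hyW, f, hf, hDf⟩ := hD y
      have hg := germ_mem_nonZeroDivisors hyW hf
      have hmul := congrArg (fun I : X.IdealSheafData =>
        (I.ideal W).map (X.presheaf.germ W.1 y hyW).hom) hD'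
      rw [← e] at hmul
      simp only [Scheme.IdealSheafData.ideal_mul, Pi.mul_apply, Ideal.map_mul, hDf, Ideal.map_span,
        Set.image_singleton] at hmul
      have hmem : X.presheaf.germ W.1 y hyW f ∈ Ideal.span {X.presheaf.germ W.1 y hyW f} *
          ((Ds i).ideal W).map (X.presheaf.germ W.1 y hyW).hom :=
        hmul ▸ Ideal.mem_span_singleton_self _
      obtain ⟨z, hz, hzf⟩ := Ideal.mem_span_singleton_mul.1 hmem
      have hz1 : z = 1 := by
        refine (mul_cancel_left_mem_nonZeroDivisors hg).1 ?_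
        rw [mul_one]
        exact hzf
      exact (mem_support_iff_map_germ_ne_top (Ds i) hyW).1 hi ((Ideal.eq_top_iff_one _).2 (hz1 ▸ hz))
    obtain ⟨a, ha⟩ := ih D' (lt_of_le_of_ne hle' hne) hD'c fun z hz =>
      hsub (by rw [hD']; exact Or.inl hz)
    refine ⟨a + Pi.single i 1, ?_⟩
    simp only [Pi.add_apply, pow_add, Finset.prod_mul_distrib, ← ha]
    rw [hD']
    congr 1
    rw [Finset.prod_eq_single i (fun j _ hj => by simp [hj]) (fun h => absurd (Finset.mem_univ i) h)]
    simp

end Groth.RefRank.EffCartierLocal
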