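import Groth.Agent.BlowUpBasics.Global
import Groth.Agent.Flatmor4.ThickFT
import Groth.Agent.S1683

/-!
# Admissible blow-ups
-/

universe u

open CategoryTheory Limits AlgebraicGeometry TopologicalSpace

namespace Groth.RefRank

variable {X Y : Scheme.{u}}

theorem isFiniteTypeIdeal_comap (f : X ⟶ Y) {I : Y.IdealSheafData}
    (hI : BlowUp.IsFiniteTypeIdeal I) : BlowUp.IsFiniteTypeIdeal (I.comap f) := fun U => by
  have : LocallyOfFinitePresentation I.subschemeι :=
    Groth.Flatmor4.lfp_of_ker_fg I.subschemeι (by rw [I.ker_subschemeι]; exact hI)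
  have : LocallyOfFinitePresentation (I.comap f).subschemeι := by
    rw [← Scheme.IdealSheafData.comapIso_hom_fst]; infer_instance
  simpa using Groth.Flatmor4.ker_fg_of_lfp (I.comap f).subschemeι U

theorem isAdmissibleFor_top (U : X.Opens) : BlowUp.IsAdmissibleFor U (⊤ : X.IdealSheafData) :=
  ⟨fun V => by
    rw [Scheme.IdealSheafData.ideal_top]
    exact ⟨{1}, by simp⟩,
   by rw [Scheme.IdealSheafData.support_top]; simp⟩

theorem isAdmissibleFor_mul {U : X.Opens} {I J : X.IdealSheafData}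
    (hI : BlowUp.IsAdmissibleFor U I) (hJ : BlowUp.IsAdmissibleFor U J) :
    BlowUp.IsAdmissibleFor U (I * J) :=
  ⟨fun V => by
    rw [Scheme.IdealSheafData.ideal_mul, Pi.mul_apply]
    exact (hI.1 V).mul (hJ.1 V),
   by
    rw [Scheme.IdealSheafData.support_mul]
    exact Set.disjoint_union_left.2 ⟨hI.2, hJ.2⟩⟩

theorem isAdmissibleFor_prod {U : X.Opens} {ι : Type*} (s : Finset ι) (I : ι → X.IdealSheafData)
    (hI : ∀ i ∈ s, BlowUp.IsAdmissibleFor U (I i)) : BlowUp.IsAdmissibleFor U (∏ i ∈ s, I i) := by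
  classical
  induction s using Finset.induction with
  | empty =>
    rw [Finset.prod_empty, Scheme.IdealSheafData.one_eq_top]
    exact isAdmissibleFor_top U
  | insert a t ha ih =>
    rw [Finset.prod_insert ha]
    exact isAdmissibleFor_mul (hI a (Finset.mem_insert_self a t))
      (ih fun i hi => hI i (Finset.mem_insert_of_mem hi))

theorem isAdmissibleFor_comap (f : X ⟶ Y) {U : Y.Opens} {I : Y.IdealSheafData}
    (hI : BlowUp.IsAdmissibleFor U I) : BlowUp.IsAdmissibleFor (f ⁻¹ᵁ U) (I.comap f) := by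
  refine ⟨isFiniteTypeIdeal_comap f hI.1, ?_⟩
  rw [Scheme.IdealSheafData.support_comap]
  exact Disjoint.preimage f hI.2

theorem isBlowUp_iso_comp {X' X'' : Scheme.{u}} {b : X' ⟶ X} {I : X.IdealSheafData}
    (hb : BlowUp.IsBlowUp b I) (e : X'' ≅ X') : BlowUp.IsBlowUp (e.hom ≫ b) I := by
  refine ⟨?_, fun Y g hg => ?_⟩
  · rw [Scheme.IdealSheafData.comap_comp]
    exact Groth.BlowUpBasics.isEffCartierIdeal_comap_of_flat e.hom hb.1
  · obtain ⟨h, hh, hu⟩ := hb.2 Y g hg
    refine ⟨h ≫ e.inv, by simp [hh], fun k hk => ?_⟩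
    rw [← hu (k ≫ e.hom) (by simpa using hk)]
    simp

end Groth.RefRank
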