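import Groth.Agent.RefRank.BlowUpCharts
import Groth.Agent.RefRank.AdmBlowUp
import Groth.Agent.FlatMorOne.FTIdealExtend

/-!
# Finite type ideals on a blow-up, after twisting by the exceptional divisor, come from the base
-/

set_option autoImplicit false

universe u

open CategoryTheory CategoryTheory.Limits AlgebraicGeometry TopologicalSpace

set_option backward.isDefEq.respectTransparency.types false

namespace Groth.RefRank

open BlowChart

variable {X X' : Scheme.{u}} {b : X' ⟶ X} {I : X.IdealSheafData}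

theorem mem_map_ideal_of_forall (T : X'.IdealSheafData) (b : X' ⟶ X) [QuasiCompact b]
    (A : X.affineOpens) (a : Γ(X, A.1))
    (h : ∀ x ∈ b ⁻¹ᵁ A.1, ∃ (W : X'.affineOpens) (hW : W.1 ≤ b ⁻¹ᵁ A.1), x ∈ W.1 ∧
      (b.appLE A.1 W.1 hW).hom a ∈ T.ideal W) : a ∈ (T.map b).ideal A := by
  choose W hW hxW hmem using h
  let φ := T.subschemeι ≫ b
  show a ∈ φ.ker.ideal A
  rw [Scheme.Hom.ker_apply, RingHom.mem_ker]
  apply TopCat.Sheaf.eq_of_locally_eq' (Scheme.sheaf _)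
    (fun x : (b ⁻¹ᵁ A.1 : X'.Opens) => T.subschemeι ⁻¹ᵁ (W x.1 x.2).1) (φ ⁻¹ᵁ A.1)
    (fun x => homOfLE (T.subschemeι.preimage_mono (hW x.1 x.2)))
  · intro z hz
    exact Opens.mem_iSup.mpr ⟨⟨T.subschemeι z, hz⟩, hxW _ hz⟩
  · intro x
    refine Eq.trans ?_ (map_zero _).symm
    have hb := hmem x.1 x.2
    rw [← T.ker_subschemeι, Scheme.Hom.ker_apply, RingHom.mem_ker] at hb
    refine Eq.trans ?_ hb
    change ((φ.app A.1) ≫ _).hom a = ((b.appLE A.1 (W x.1 x.2).1 (hW x.1 x.2)) ≫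
      T.subschemeι.app _).hom a
    congr 2
    simp [φ, Scheme.Hom.appLE, Scheme.Hom.naturality]
    rfl

/-- The ideal `J ⊗ E^n`, for `E` the exceptional divisor. -/
noncomputable abbrev twistIdeal (b : X' ⟶ X) (I : X.IdealSheafData) (J : X'.IdealSheafData) (n : ℕ) :
    X'.IdealSheafData :=
  J * (I.comap b) ^ n

theorem twistIdeal_ideal (J : X'.IdealSheafData) (n : ℕ) (U : X.affineOpens) (W : X'.affineOpens)
    (h : W.1 ≤ b ⁻¹ᵁ U.1) :
    (twistIdeal b I J n).ideal W = J.ideal W * (I.ideal U).map (b.appLE U.1 W.1 h).hom ^ n := by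
  rw [twistIdeal, Scheme.IdealSheafData.ideal_mul, Pi.mul_apply, Scheme.IdealSheafData.ideal_pow,
    Pi.pow_apply, Groth.Divisors.ideal_comap_affine I b U W h]

/-- The statement over one affine open of the base. -/
def TwistData (b : X' ⟶ X) (I : X.IdealSheafData) (J : X'.IdealSheafData) (U : X.affineOpens) (n : ℕ) :
    Prop :=
  ∃ q : Ideal Γ(X, U.1), q.FG ∧ ∀ y ∈ b ⁻¹ᵁ U.1, ∃ (W : X'.affineOpens) (h : W.1 ≤ b ⁻¹ᵁ U.1),
    y ∈ W.1 ∧ q.map (b.appLE U.1 W.1 h).hom = (twistIdeal b I J n).ideal W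

theorem TwistData.mono {J : X'.IdealSheafData} {U : X.affineOpens} {n n' : ℕ}
    (hI : (I.ideal U).FG) (H : TwistData b I J U n) (hn : n ≤ n') : TwistData b I J U n' := by
  obtain ⟨q, hq, hcov⟩ := H
  obtain ⟨k, rfl⟩ := Nat.exists_eq_add_of_le hn
  refine ⟨q * I.ideal U ^ k, hq.mul (Submodule.FG.pow hI k), fun y hy => ?_⟩
  obtain ⟨W, h, hyW, e⟩ := hcov y hy
  refine ⟨W, h, hyW, ?_⟩
  rw [Ideal.map_mul, Ideal.map_pow, e, twistIdeal_ideal J n U W h, twistIdeal_ideal J (n + k) U W h,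
    pow_add, mul_assoc]

theorem exists_twistData [QuasiCompact b] (hb : BlowUp.IsBlowUp b I) (J : X'.IdealSheafData)
    (hJ : ∀ W, (J.ideal W).FG) (U : X.affineOpens) : ∃ n, TwistData b I J U n := by
  classical
  obtain ⟨W, hW, hchart, hcov, hov⟩ := exists_charts hb U
  obtain ⟨F, hF⟩ : ∃ F : Finset (I.ideal U), ∀ y ∈ b ⁻¹ᵁ U.1, ∃ a ∈ F, y ∈ (W a).1 := by
    obtain ⟨F, hF⟩ := (QuasiCompact.isCompact_preimage (f := b) _ U.1.2 U.2.isCompact).elim_finite_subcover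
      (fun a => ((W a).1 : Set X')) (fun a => (W a).1.isOpen) fun y hy => by
        obtain ⟨a, ha⟩ := hcov y hy
        exact Set.mem_iUnion.2 ⟨a, ha⟩
    exact ⟨F, fun y hy => by simpa using hF hy⟩
  let ψ : ∀ a : I.ideal U, Γ(X, U.1) →+* Γ(X', (W a).1) := fun a => (b.appLE U.1 (W a).1 (hW a)).hom
  choose S hS using fun a => hJ (W a)
  choose m c hc hce using fun (a : I.ideal U) (x : Γ(X', (W a).1)) => (hchart a).surj x
  have key : ∀ (a : I.ideal U) (x : Γ(X', (W a).1)), x ∈ J.ideal (W a) → ∀ a' : I.ideal U,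
      ∃ N, ∀ n, N + m a x ≤ n →
        ψ a' (a.1 ^ (n - m a x) * c a x) ∈ J.ideal (W a') * Ideal.span {ψ a' a'.1} ^ n := by
    intro a x hx a'
    obtain ⟨γ, hγ, hγW⟩ := hov a a'
    obtain ⟨y, hy⟩ : ∃ y, y * ψ a' a'.1 ^ m a x = ψ a' (c a x) := by
      rw [← Ideal.mem_span_singleton', ← Ideal.span_singleton_pow,
        ← (hchart a').span_eq, ← Ideal.map_pow]
      exact Ideal.mem_map_of_mem _ (hc a x)
    let D : X'.affineOpens := X'.affineBasicOpen γ
    have hDU : D.1 ≤ b ⁻¹ᵁ U.1 := hγW.trans (hW a)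
    let ρ := (X'.presheaf.map (homOfLE (X'.basicOpen_le γ)).op).hom
    let σ := (X'.presheaf.map (homOfLE hγW).op).hom
    have hρ : ∀ r, ρ (ψ a' r) = (b.appLE U.1 D.1 hDU).hom r := fun r => by
      change ((b.appLE U.1 (W a').1 (hW a')) ≫ X'.presheaf.map _).hom r = _
      rw [Scheme.Hom.appLE_map]
      rfl
    have hσ : ∀ r, σ (ψ a r) = (b.appLE U.1 D.1 hDU).hom r := fun r => by
      change ((b.appLE U.1 (W a).1 (hW a)) ≫ X'.presheaf.map _).hom r = _
      rw [Scheme.Hom.appLE_map]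
      rfl
    have hyD : ρ y ∈ (J.ideal (W a')).map ρ := by
      have hnzd : ρ (ψ a' a'.1) ^ m a x ∈ nonZeroDivisors Γ(X', D.1) :=
        Submonoid.pow_mem _ (Groth.BlowUpBasics.restrict_mem_nonZeroDivisors
          (U := W a') (V := D) (X'.basicOpen_le γ) (hchart a').nzd) _
      have e : ρ y = ρ γ ^ m a x * σ x := by
        refine (mul_cancel_right_mem_nonZeroDivisors hnzd).1 ?_
        rw [← map_pow, ← map_mul, hy, hρ, ← hσ, hce, map_mul, map_pow, hσ, ← hρ, hγ, map_mul, mul_pow,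
          map_pow]
        ring
      rw [J.map_ideal_basicOpen (W a') γ, e]
      exact Ideal.mul_mem_left _ _ (J.ideal_le_comap_ideal (U := D) (V := W a) hγW hx)
    obtain ⟨N, hN⟩ : ∃ N, γ ^ N * y ∈ J.ideal (W a') := by
      letI : Algebra Γ(X', (W a').1) Γ(X', X'.basicOpen γ) :=
        (X'.presheaf.map (homOfLE (X'.basicOpen_le γ)).op).hom.toAlgebra
      have := (W a').2.isLocalization_basicOpen γ
      obtain ⟨s, ⟨N, rfl⟩, hs⟩ :=
        (IsLocalization.algebraMap_mem_map_algebraMap_iff (Submonoid.powers γ) _ _ _).1 hyD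
      exact ⟨N, hs⟩
    refine ⟨N, fun n hn => ?_⟩
    obtain ⟨k, rfl⟩ := Nat.exists_eq_add_of_le hn
    rw [show N + m a x + k - m a x = N + k by omega, map_mul, map_pow, ← hy,
      show ψ a' a.1 = γ * ψ a' a'.1 from hγ, Ideal.span_singleton_pow,
      show (γ * ψ a' a'.1) ^ (N + k) * (y * ψ a' a'.1 ^ m a x) =
        (γ ^ k * (γ ^ N * y)) * ψ a' a'.1 ^ (N + m a x + k) by ring]
    exact Ideal.mul_mem_mul (Ideal.mul_mem_left _ _ hN) (Ideal.mem_span_singleton_self _)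
  choose N hN using key
  have hSJ : ∀ a, ∀ x ∈ S a, x ∈ J.ideal (W a) := fun a x hx => hS a ▸ Ideal.subset_span hx
  let n := F.sup fun a => (S a).attach.sup fun x => m a x.1 + F.sup fun a' =>
    N a x.1 (hSJ a x.1 x.2) a'
  have hn : ∀ a ∈ F, ∀ (x : Γ(X', (W a).1)) (hx : x ∈ S a), ∀ a' ∈ F,
      N a x (hSJ a x hx) a' + m a x ≤ n := by
    intro a ha x hx a' ha'
    have h1 : N a x (hSJ a x hx) a' ≤ F.sup (fun a' => N a x (hSJ a x hx) a') :=
      Finset.le_sup (f := fun a' => N a x (hSJ a x hx) a') ha'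
    have h2 : (m a x + F.sup fun a' => N a x (hSJ a x hx) a') ≤
        (S a).attach.sup fun x => m a x.1 + F.sup fun a' => N a x.1 (hSJ a x.1 x.2) a' :=
      Finset.le_sup (f := fun x : {x // x ∈ S a} => m a x.1 + F.sup fun a' =>
        N a x.1 (hSJ a x.1 x.2) a') (Finset.mem_attach _ ⟨x, hx⟩)
    have h3 := Finset.le_sup (f := fun a => (S a).attach.sup fun x => m a x.1 + F.sup fun a' =>
      N a x.1 (hSJ a x.1 x.2) a') ha
    exact le_trans (by omega) (h2.trans h3)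
  let G : Finset Γ(X, U.1) := F.biUnion fun a => (S a).image fun x => a.1 ^ (n - m a x) * c a x
  refine ⟨n, Ideal.span G, ⟨G, rfl⟩, fun y hy => ?_⟩
  obtain ⟨a, haF, hya⟩ := hF y hy
  refine ⟨W a, hW a, hya, ?_⟩
  rw [twistIdeal_ideal J n U (W a) (hW a), (hchart a).span_eq, Ideal.map_span]
  apply le_antisymm
  · rw [Ideal.span_le]
    rintro _ ⟨s, hs, rfl⟩
    obtain ⟨a₁, ha₁, hs⟩ := Finset.mem_biUnion.1 hs
    obtain ⟨x, hx, rfl⟩ := Finset.mem_image.1 hs
    exact hN a₁ x (hSJ a₁ x hx) a n (hn a₁ ha₁ x hx a haF)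
  · rw [Ideal.span_singleton_pow, ← hS a, Ideal.span_mul_span', Ideal.span_le]
    rintro _ ⟨x, hx, _, rfl, rfl⟩
    have hm : m a x ≤ n := le_trans (Nat.le_add_left _ _) (hn a haF x hx a haF)
    refine Ideal.subset_span ⟨a.1 ^ (n - m a x) * c a x,
      Finset.mem_biUnion.2 ⟨a, haF, Finset.mem_image_of_mem _ hx⟩, ?_⟩
    change ψ a (a.1 ^ (n - m a x) * c a x) = x * ψ a a.1 ^ n
    rw [map_mul, map_pow, show ψ a (c a x) = ψ a a.1 ^ m a x * x from hce a x, ← mul_assoc, ← pow_add,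
      Nat.sub_add_cancel hm, mul_comm]

theorem exists_ftIdeal_comap_eq_twist [CompactSpace X] [QuasiSeparatedSpace X] [QuasiCompact b]
    (hb : BlowUp.IsBlowUp b I) (hI : ∀ U, (I.ideal U).FG) (J : X'.IdealSheafData)
    (hJ : ∀ W, (J.ideal W).FG) :
    ∃ (n : ℕ) (K : X.IdealSheafData), (∀ U, (K.ideal U).FG) ∧ K.comap b = twistIdeal b I J n := by
  classical
  obtain ⟨s, hs⟩ : ∃ s : Finset X.affineOpens, ∀ x : X, ∃ V ∈ s, x ∈ V.1 := by
    obtain ⟨s, hs⟩ := isCompact_univ.elim_finite_subcover (fun V : X.affineOpens => (V.1 : Set X))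
      (fun V => V.1.isOpen) (fun x _ => by
        obtain ⟨U, hU, hxU, -⟩ := exists_isAffineOpen_mem_and_subset (x := x) (U := ⊤) trivial
        exact Set.mem_iUnion.mpr ⟨⟨U, hU⟩, hxU⟩)
    exact ⟨s, fun x => by simpa using hs (Set.mem_univ x)⟩
  choose ν hν using exists_twistData hb J hJ
  let n := s.sup ν
  choose! q hq hcov using fun U (hU : U ∈ s) =>
    (hν U).mono (hI U) (Finset.le_sup (f := ν) hU : ν U ≤ n)
  have hle : ∀ U ∈ s, q U ≤ ((twistIdeal b I J n).map b).ideal U := by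
    intro U hU a ha
    refine mem_map_ideal_of_forall _ b U a fun y hy => ?_
    obtain ⟨W, h, hyW, e⟩ := hcov U hU y hy
    exact ⟨W, h, hyW, e ▸ Ideal.mem_map_of_mem _ ha⟩
  have hK := fun U : s => Groth.FlatMorOne.exists_ftIdeal_eq ((twistIdeal b I J n).map b) U.1 (q U.1)
    (hq U.1 U.2) (hle U.1 U.2)
  choose Kp hKle hKfg hKeq using hK
  let K : X.IdealSheafData := s.attach.sup Kp
  refine ⟨n, K, fun A => ?_, ?_⟩
  · refine Finset.sup_induction (p := fun L : X.IdealSheafData => (L.ideal A).FG) ?_ ?_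
      fun U _ => hKfg U A
    · rw [Scheme.IdealSheafData.ideal_bot]
      exact Submodule.fg_bot
    · intro L hL L' hL'
      rw [Scheme.IdealSheafData.ideal_sup, Pi.sup_apply]
      exact Submodule.FG.sup hL hL'
  · have h1 : K.comap b ≤ twistIdeal b I J n :=
      (Scheme.IdealSheafData.comap_mono b (Finset.sup_le fun U _ => hKle U)).trans
        (Scheme.IdealSheafData.comap_map_le _ _)
    refine Groth.Divisors.ext_of_cover fun y => ?_
    obtain ⟨U, hU, hyU⟩ := hs (b y)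
    obtain ⟨W, h, hyW, e⟩ := hcov U hU y hyU
    refine ⟨W, hyW, le_antisymm (h1 W) ?_⟩
    rw [Groth.Divisors.ideal_comap_affine K b U W h, ← e]
    refine Ideal.map_mono ?_
    rw [← hKeq ⟨U, hU⟩]
    exact (Finset.le_sup (f := Kp) (Finset.mem_attach _ ⟨U, hU⟩) : Kp ⟨U, hU⟩ ≤ K) U

end Groth.RefRank
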