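import Mathlib

/-!
# Flatness along a nonzerodivisor
-/

set_option autoImplicit false
universe u

open TensorProduct

namespace Groth.RefRank.RelDiv

variable {R A : Type u} [CommRing R] [CommRing A] [Algebra R A]

/-- Multiplication by `g` as an `R`-linear map. -/
noncomputable def mulMap (g : A) : A →ₗ[R] A := LinearMap.mulLeft R g

/-- The quotient map as an `R`-linear map. -/
noncomputable def quotMap (J : Ideal A) : A →ₗ[R] A ⧸ J := (Ideal.Quotient.mkₐ R J).toLinearMap

theorem exact_mul_quot (g : A) :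
    Function.Exact (mulMap (R := R) g) (quotMap (R := R) (Ideal.span {g})) := by
  intro a
  simp only [quotMap, mulMap, AlgHom.toLinearMap_apply, Ideal.Quotient.mkₐ_eq_mk,
    Ideal.Quotient.eq_zero_iff_mem, Ideal.mem_span_singleton', Set.mem_range, LinearMap.mulLeft_apply]
  exact ⟨fun ⟨c, hc⟩ => ⟨c, (mul_comm g c).trans hc⟩, fun ⟨c, hc⟩ => ⟨c, (mul_comm c g).trans hc⟩⟩

theorem mulMap_injective {g : A} (hg : g ∈ nonZeroDivisors A) :
    Function.Injective (mulMap (R := R) g) := fun _ _ h =>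
  (mul_cancel_left_mem_nonZeroDivisors hg).1 h

theorem lTensor_mul_injective {g : A} (hg : g ∈ nonZeroDivisors A)
    [Module.Flat R (A ⧸ Ideal.span {g})] (M : Type u) [AddCommGroup M] [Module R M] :
    Function.Injective ((mulMap (R := R) g).lTensor M) :=
  LinearMap.lTensor_injective_of_exact_of_flat (quotMap (Ideal.span {g}))
    Ideal.Quotient.mk_surjective _ (mulMap_injective hg) (exact_mul_quot g) M

theorem rid_eq (I : Ideal R) (ξ : A ⊗[R] I) :
    (TensorProduct.AlgebraTensorModule.rid R A A) (AlgebraTensorModule.lTensor A A I.subtype ξ) =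
      (TensorProduct.rid R A) ((I.subtype.lTensor A) ξ) := rfl

/-- The map `A ⊗ I → A`, linear over `A`. -/
noncomputable def mu (I : Ideal R) : A ⊗[R] I →ₗ[A] A :=
  (TensorProduct.AlgebraTensorModule.rid R A A).toLinearMap.comp
    (AlgebraTensorModule.lTensor A A I.subtype)

theorem flat_of_ker_mu (h : ∀ I : Ideal R, I.FG → ∀ ξ, mu (A := A) I ξ = 0 → ξ = 0) :
    Module.Flat R A := by
  rw [Module.Flat.iff_lTensor_injective]
  intro I hI
  rw [injective_iff_map_eq_zero]
  intro ξ hξ
  refine h I hI ξ ?_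
  show (TensorProduct.rid R A) ((I.subtype.lTensor A) ξ) = 0
  rw [hξ, map_zero]

theorem smul_injective {g : A} (hg : g ∈ nonZeroDivisors A) [Module.Flat R (A ⧸ Ideal.span {g})]
    (I : Ideal R) : Function.Injective fun ξ : A ⊗[R] I => g • ξ := by
  have h := (LinearMap.lTensor_inj_iff_rTensor_inj (I : Type u) (mulMap (R := R) g)).1
    (lTensor_mul_injective hg _)
  have e : ∀ ξ : A ⊗[R] I, (mulMap (R := R) g).rTensor I ξ = g • ξ := by
    intro ξ
    induction ξ using TensorProduct.induction_on with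
    | zero => simp
    | tmul a i => rw [LinearMap.rTensor_tmul, TensorProduct.smul_tmul']; rfl
    | add x y hx hy => rw [map_add, hx, hy, smul_add]
  intro x y hxy
  refine h ?_
  rw [e, e]
  exact hxy

theorem exists_eq_smul_of_mu_eq_zero {g : A} (hg : g ∈ nonZeroDivisors A)
    [Module.Flat R (A ⧸ Ideal.span {g})] (I : Ideal R) {ξ : A ⊗[R] I} (hξ : mu I ξ = 0) :
    ∃ η, ξ = g • η ∧ mu I η = 0 := by
  let q : A →ₗ[R] A ⧸ Ideal.span {g} := quotMap _
  have hinj : Function.Injective (I.subtype.lTensor (A ⧸ Ideal.span {g})) :=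
    Module.Flat.lTensor_preserves_injective_linearMap _ Subtype.val_injective
  have h0 : q.rTensor I ξ = 0 := by
    refine hinj ?_
    have hsub : (I.subtype.lTensor A) ξ = 0 :=
      (TensorProduct.rid R A).injective (hξ.trans (map_zero _).symm)
    rw [map_zero, ← LinearMap.comp_apply, LinearMap.lTensor_comp_rTensor,
      ← LinearMap.rTensor_comp_lTensor, LinearMap.comp_apply, hsub, map_zero]
  obtain ⟨η, hη⟩ :=
    (rTensor_exact (I : Type u) (exact_mul_quot (R := R) g) Ideal.Quotient.mk_surjective ξ).1 h0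
  have e : ∀ ζ : A ⊗[R] I, (mulMap (R := R) g).rTensor I ζ = g • ζ := by
    intro ζ
    induction ζ using TensorProduct.induction_on with
    | zero => simp
    | tmul a i => rw [LinearMap.rTensor_tmul, TensorProduct.smul_tmul']; rfl
    | add x y hx hy => rw [map_add, hx, hy, smul_add]
  rw [e] at hη
  refine ⟨η, hη.symm, ?_⟩
  rw [← hη, map_smul, smul_eq_mul] at hξ
  exact mul_left_mem_nonZeroDivisors_eq_zero_iff hg |>.1 hξ

/-- Noetherian case. -/
theorem flat_of_flat_quotient [IsLocalRing A] [IsNoetherianRing A] {g : A}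
    (hg : g ∈ nonZeroDivisors A) (hgm : g ∈ IsLocalRing.maximalIdeal A)
    [Module.Flat R (A ⧸ Ideal.span {g})] : Module.Flat R A := by
  refine flat_of_ker_mu fun I hI ξ hξ => ?_
  have : Module.Finite R I := Module.Finite.iff_fg.2 hI
  let K := LinearMap.ker (mu (A := A) I)
  have hK : K ≤ Ideal.span {g} • K := by
    intro x hx
    obtain ⟨η, rfl, hη⟩ := exists_eq_smul_of_mu_eq_zero hg I (LinearMap.mem_ker.1 hx)
    exact Submodule.smul_mem_smul (Ideal.mem_span_singleton_self g) (LinearMap.mem_ker.2 hη)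
  have hb : K = ⊥ := Submodule.eq_bot_of_le_smul_of_le_jacobson_bot (Ideal.span {g}) K
    (IsNoetherian.noetherian K) hK ((Ideal.span_singleton_le_iff_mem _).2
      (by rw [IsLocalRing.jacobson_eq_maximalIdeal ⊥ bot_ne_top]; exact hgm))
  exact LinearMap.ker_eq_bot'.1 hb ξ hξ

/-- A relation that becomes trivial in a flat localisation. -/
theorem exists_smul_eq_zero (I : Ideal R) (A' : Type u) [CommRing A'] [Algebra R A'] [Algebra A A']
    [IsScalarTower R A A'] (M : Submonoid A) [IsLocalization M A'] [Module.Flat R A'] {ξ : A ⊗[R] I}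
    (hξ : mu I ξ = 0) : ∃ s ∈ M, s • ξ = 0 := by
  classical
  obtain ⟨S, hS⟩ := TensorProduct.exists_finset ξ
  have h0 : ∑ i : S, (i.1.2 : R) • i.1.1 = 0 := by
    rw [← hξ, hS, map_sum, ← Finset.sum_coe_sort S fun i => mu I (i.1 ⊗ₜ i.2)]
    exact Finset.sum_congr rfl fun i _ => rfl
  have h1 : ∑ i : S, (i.1.2 : R) • algebraMap A A' i.1.1 = 0 := by
    have := congrArg (IsScalarTower.toAlgHom R A A') h0
    simpa [map_sum, map_zero, map_smul] using this
  obtain ⟨k, a, y, hy, ha⟩ := Module.Flat.isTrivialRelation_of_sum_smul_eq_zero (R := R) (M := A')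
    (f := fun i : S => (i.1.2 : R)) (x := fun i : S => algebraMap A A' i.1.1) h1
  obtain ⟨d, hd⟩ := IsLocalization.exist_integer_multiples M (Finset.univ : Finset (Fin k)) y
  choose y' hy' using fun j => hd j (Finset.mem_univ j)
  have h2 : ∀ i : S, ∃ c : M, (c : A) * ((d : A) * i.1.1) = (c : A) * ∑ j, a i j • y' j := by
    intro i
    refine IsLocalization.exists_of_eq (S := A') ?_
    rw [map_mul, show algebraMap A A' i.1.1 = _ from hy i, map_sum, Finset.mul_sum]
    refine Finset.sum_congr rfl fun j _ => ?_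
    rw [mul_smul_comm, ← IsScalarTower.coe_toAlgHom' R A A', map_smul, IsScalarTower.coe_toAlgHom',
      hy', Algebra.smul_def (d : A) (y j)]
  choose c hc using h2
  refine ⟨(∏ i, c i : M) * d, Submonoid.mul_mem _ (∏ i, c i : M).2 d.2, ?_⟩
  rw [hS, ← Finset.sum_coe_sort S fun i => i.1 ⊗ₜ[R] i.2, Finset.smul_sum]
  calc ∑ i : S, (((∏ i, c i : M) : A) * d) • (i.1.1 ⊗ₜ[R] i.1.2)
      = ∑ i : S, ∑ j, (((∏ i, c i : M) : A) * y' j) ⊗ₜ[R] (a i j • i.1.2) := by
        refine Finset.sum_congr rfl fun i _ => ?_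
        obtain ⟨e, he⟩ := Finset.dvd_prod_of_mem (fun i => (c i : A)) (Finset.mem_univ i)
        rw [TensorProduct.smul_tmul', smul_eq_mul, Submonoid.coe_finsetProd, mul_assoc]
        rw [show (∏ i, (c i : A)) = c i * e from he, mul_comm (c i : A) e, mul_assoc, hc i,
          ← mul_assoc, Finset.mul_sum, TensorProduct.sum_tmul]
        refine Finset.sum_congr rfl fun j _ => ?_
        rw [mul_smul_comm, TensorProduct.smul_tmul]
    _ = 0 := by
        rw [Finset.sum_comm]
        refine Finset.sum_eq_zero fun j _ => ?_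
        rw [← TensorProduct.tmul_sum]
        convert TensorProduct.tmul_zero (I : Type u) _
        refine Subtype.ext ?_
        rw [AddSubmonoidClass.coe_finsetSum, ZeroMemClass.coe_zero, ← ha j]
        exact Finset.sum_congr rfl fun i _ => mul_comm (a i j) (i.1.2 : R)

/-- Flat away from `g` and modulo `g`. -/
theorem flat_of_flat_away {g : A} (hg : g ∈ nonZeroDivisors A) [Module.Flat R (A ⧸ Ideal.span {g})]
    (h : ∀ q : Ideal A, q.IsPrime → g ∉ q → ∀ (I : Ideal R) (ξ : A ⊗[R] I), mu I ξ = 0 →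
      ∃ s ∉ q, s • ξ = 0) : Module.Flat R A := by
  refine flat_of_ker_mu fun I _ ξ hξ => ?_
  let Ann : Ideal A := LinearMap.ker (LinearMap.toSpanSingleton A (A ⊗[R] I) ξ)
  have hgA : g ∈ Ann.radical := by
    rw [Ideal.radical_eq_sInf, Ideal.mem_sInf]
    rintro q ⟨hle, hq⟩
    by_contra hgq
    obtain ⟨s, hs, hs0⟩ := h q hq hgq I ξ hξ
    exact hs (hle hs0)
  obtain ⟨n, hn⟩ := hgA
  have hn' : g ^ n • ξ = 0 := hn
  clear hn
  induction n with
  | zero => simpa using hn'
  | succ n ih =>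
    refine ih (smul_injective hg I ?_)
    show g • (g ^ n • ξ) = g • (0 : A ⊗[R] I)
    rw [smul_zero, smul_smul, ← pow_succ', hn']

theorem exact_mul_factor {f g : A} (hf : f ∈ nonZeroDivisors A) :
    ∃ (i : A ⧸ Ideal.span {g} →ₗ[R] A ⧸ Ideal.span {f * g})
      (p : A ⧸ Ideal.span {f * g} →ₗ[R] A ⧸ Ideal.span {f}),
      Function.Injective i ∧ Function.Surjective p ∧ Function.Exact i p := by
  let p : A ⧸ Ideal.span {f * g} →ₗ[R] A ⧸ Ideal.span {f} :=
    (Ideal.Quotient.factorₐ R (Ideal.span_singleton_le_span_singleton.2 (dvd_mul_right f g))).toLinearMap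
  let i₀ : A →ₗ[R] A ⧸ Ideal.span {f * g} := (quotMap _).comp (mulMap f)
  have hker : (Ideal.span {g}).restrictScalars R ≤ LinearMap.ker i₀ := by
    intro a ha
    obtain ⟨c, rfl⟩ := Ideal.mem_span_singleton'.1 ha
    rw [LinearMap.mem_ker]
    exact Ideal.Quotient.eq_zero_iff_mem.2 (Ideal.mem_span_singleton'.2 ⟨c, by
      show c * (f * g) = f * (c * g); ring⟩)
  let i : A ⧸ Ideal.span {g} →ₗ[R] A ⧸ Ideal.span {f * g} :=
    ((Ideal.span {g}).restrictScalars R).liftQ i₀ hker ∘ₗ
      (Submodule.Quotient.restrictScalarsEquiv R (Ideal.span {g})).symm.toLinearMap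
  have hi : ∀ a, i (Ideal.Quotient.mk _ a) = Ideal.Quotient.mk _ (f * a) := fun a => rfl
  refine ⟨i, p, ?_, Ideal.Quotient.factor_surjective
    (Ideal.span_singleton_le_span_singleton.2 (dvd_mul_right f g)), ?_⟩
  · refine (injective_iff_map_eq_zero _).2 fun x hx => ?_
    obtain ⟨a, rfl⟩ := Ideal.Quotient.mk_surjective x
    rw [hi, Ideal.Quotient.eq_zero_iff_mem, Ideal.mem_span_singleton'] at hx
    obtain ⟨c, hc⟩ := hx
    refine Ideal.Quotient.eq_zero_iff_mem.2 (Ideal.mem_span_singleton'.2 ⟨c,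
      (mul_cancel_left_mem_nonZeroDivisors hf).1 ?_⟩)
    rw [← hc]; ring
  · intro x
    obtain ⟨a, rfl⟩ := Ideal.Quotient.mk_surjective x
    constructor
    · intro hx
      obtain ⟨c, hc⟩ := Ideal.mem_span_singleton'.1 (Ideal.Quotient.eq_zero_iff_mem.1 hx)
      exact ⟨Ideal.Quotient.mk _ c, by rw [hi, ← hc, mul_comm f c]⟩
    · rintro ⟨y, hy⟩
      obtain ⟨c, rfl⟩ := Ideal.Quotient.mk_surjective y
      rw [← hy, hi]
      exact Ideal.Quotient.eq_zero_iff_mem.2 (Ideal.mem_span_singleton'.2 ⟨c, mul_comm c f⟩)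

theorem flat_quotient_mul {f g : A} (hf : f ∈ nonZeroDivisors A)
    [Module.Flat R (A ⧸ Ideal.span {f})] [Module.Flat R (A ⧸ Ideal.span {g})] :
    Module.Flat R (A ⧸ Ideal.span {f * g}) := by
  obtain ⟨i, p, hi, hp, hex⟩ := exact_mul_factor (R := R) (g := g) hf
  refine Module.Flat.iff_lTensor_preserves_injective_linearMap.2 fun M N _ _ _ _ φ hφ => ?_
  rw [injective_iff_map_eq_zero]
  intro y hy
  have : p.rTensor M y = 0 := by
    apply Module.Flat.lTensor_preserves_injective_linearMap (M := A ⧸ Ideal.span {f}) φ hφ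
    rw [map_zero, ← LinearMap.comp_apply, LinearMap.lTensor_comp_rTensor,
      ← LinearMap.rTensor_comp_lTensor, LinearMap.comp_apply, hy, map_zero]
  obtain ⟨x, rfl⟩ := (rTensor_exact M hex hp y).1 this
  have hinj := (LinearMap.lTensor_inj_iff_rTensor_inj N i).1
    (LinearMap.lTensor_injective_of_exact_of_flat p hp i hi hex N)
  rw [← LinearMap.comp_apply, LinearMap.lTensor_comp_rTensor, ← LinearMap.rTensor_comp_lTensor,
    LinearMap.comp_apply] at hy
  rw [(map_eq_zero_iff _ (Module.Flat.lTensor_preserves_injective_linearMap φ hφ)).1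
    ((map_eq_zero_iff _ hinj).1 hy), map_zero]

theorem flat_quotient_of_mul {f g : A} (hf : f ∈ nonZeroDivisors A)
    [Module.Flat R (A ⧸ Ideal.span {f})] [Module.Flat R (A ⧸ Ideal.span {f * g})] :
    Module.Flat R (A ⧸ Ideal.span {g}) := by
  obtain ⟨i, p, hi, hp, hex⟩ := exact_mul_factor (R := R) (g := g) hf
  refine Module.Flat.iff_lTensor_preserves_injective_linearMap.2 fun M N _ _ _ _ φ hφ => ?_
  refine Function.Injective.of_comp (f := i.rTensor N) ?_
  rw [← LinearMap.coe_comp, LinearMap.rTensor_comp_lTensor, ← LinearMap.lTensor_comp_rTensor,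
    LinearMap.coe_comp]
  exact (Module.Flat.lTensor_preserves_injective_linearMap φ hφ).comp
    ((LinearMap.lTensor_inj_iff_rTensor_inj M i).1
      (LinearMap.lTensor_injective_of_exact_of_flat p hp i hi hex M))

theorem isSMulRegular_tensor {g : A} (hg : g ∈ nonZeroDivisors A)
    [Module.Flat R (A ⧸ Ideal.span {g})] (B : Type u) [CommRing B] [Algebra R B] :
    (g ⊗ₜ[R] (1 : B)) ∈ nonZeroDivisors (A ⊗[R] B) := by
  have h := (LinearMap.lTensor_inj_iff_rTensor_inj B (mulMap (R := R) g)).1 (lTensor_mul_injective hg _)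
  have e : ∀ z : A ⊗[R] B, (mulMap (R := R) g).rTensor B z = (g ⊗ₜ[R] (1 : B)) * z := by
    intro z
    induction z using TensorProduct.induction_on with
    | zero => simp
    | tmul a b => rw [LinearMap.rTensor_tmul, Algebra.TensorProduct.tmul_mul_tmul, one_mul]; rfl
    | add x y hx hy => rw [map_add, hx, hy, mul_add]
  rw [mem_nonZeroDivisors_iff_right]
  intro z hz
  refine h ?_
  rw [e, e, mul_zero, mul_comm, hz]

end Groth.RefRank.RelDiv
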