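import Mathlib
import Groth.Agent.RefRank.EffCartierExtend
import Groth.Agent.RefRank.RelDivAlg

/-!
# Relative effective Cartier divisors
-/

set_option autoImplicit false
universe u

open CategoryTheory CategoryTheory.Limits AlgebraicGeometry TopologicalSpace IsLocalRing Groth.QCohMod

namespace Groth.RefRank.RelDiv

open Groth.RefRank Groth.RefRank.CDivNormal Groth.RefRank.EffCartierLocal

variable {X S : Scheme.{u}}

theorem exists_stalk_gen {I : X.IdealSheafData} (hI : BlowUp.IsEffCartierIdeal I) {x : X}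
    {V : X.affineOpens} (hx : x ∈ V.1) :
    ∃ g : X.presheaf.stalk x, g ∈ nonZeroDivisors (X.presheaf.stalk x) ∧
      (I.ideal V).map (X.presheaf.germ V.1 x hx).hom = Ideal.span {g} := by
  obtain ⟨W, hxW, f, hf, hIf⟩ := hI x
  refine ⟨X.presheaf.germ W.1 x hxW f, germ_mem_nonZeroDivisors hxW hf, ?_⟩
  rw [map_germ_eq I hx hxW, hIf, Ideal.map_span, Set.image_singleton]

theorem flat_comp_mk_iff {R A : Type u} [CommRing R] [CommRing A] [Algebra R A] (J : Ideal A) :
    ((Ideal.Quotient.mk J).comp (algebraMap R A)).Flat ↔ Module.Flat R (A ⧸ J) :=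
  RingHom.flat_algebraMap_iff

theorem flat_subscheme_iff (f : X ⟶ S) (I : X.IdealSheafData) :
    Flat (I.subschemeι ≫ f) ↔ ∀ (x : X) (V : X.affineOpens) (hx : x ∈ V.1),
      ((Ideal.Quotient.mk ((I.ideal V).map (X.presheaf.germ V.1 x hx).hom)).comp
        (f.stalkMap x).hom).Flat := by
  have key : ∀ (z : ↥I.subscheme) (V : X.affineOpens) (hx : I.subschemeι z ∈ V.1),
      ((I.subschemeι ≫ f).stalkMap z).hom.Flat ↔
        ((Ideal.Quotient.mk ((I.ideal V).map (X.presheaf.germ V.1 (I.subschemeι z) hx).hom)).comp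
          (f.stalkMap (I.subschemeι z)).hom).Flat := by
    intro z V hx
    have hker : RingHom.ker (I.subschemeι.stalkMap z).hom =
        (I.ideal V).map (X.presheaf.germ V.1 (I.subschemeι z) hx).hom :=
      (Groth.Ega4b.ker_stalkMap_eq_map I.subschemeι V.2 z hx).trans (by rw [I.ker_subschemeι])
    let e := (Ideal.quotEquivOfEq hker.symm).trans
      (RingHom.quotientKerEquivOfSurjective (I.subschemeι.stalkMap_surjective z))
    have he : ((I.subschemeι ≫ f).stalkMap z).hom =
        (e.toRingHom.comp (Ideal.Quotient.mk ((I.ideal V).map (X.presheaf.germ V.1 (I.subschemeι z) hx).hom))).comp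
          (f.stalkMap (I.subschemeι z)).hom := by
      rw [Scheme.Hom.stalkMap_comp]
      erw [CommRingCat.hom_comp]
      congr 1
    rw [he, RingHom.comp_assoc]
    exact RingHom.Flat.comp_iff_of_bijective_left e.bijective
  rw [Flat.iff_flat_stalkMap]
  constructor
  · intro h x V hx
    by_cases hxI : x ∈ I.support
    · obtain ⟨z, rfl⟩ := (Set.ext_iff.1 I.range_subschemeι x).2 hxI
      exact (key z V hx).1 (h z)
    · have htop : (I.ideal V).map (X.presheaf.germ V.1 x hx).hom = ⊤ :=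
        not_not.1 (mt (mem_support_iff_map_germ_ne_top I hx).2 hxI)
      have := Ideal.Quotient.subsingleton_iff.2 htop
      let _ : Algebra (S.presheaf.stalk (f x)) (X.presheaf.stalk x) := (f.stalkMap x).hom.toAlgebra
      exact (flat_comp_mk_iff _).2 inferInstance
  · intro h z
    obtain ⟨_, ⟨V, hV, rfl⟩, hz, -⟩ :=
      X.isBasis_affineOpens.exists_subset_of_mem_open (Set.mem_univ (I.subschemeι z)) isOpen_univ
    exact (key z ⟨V, hV⟩ hz).2 (h _ ⟨V, hV⟩ hz)

/-- A stalk at a generization is a localisation. -/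
theorem exists_isLocalization_rspec {x y : X} (h : y ⤳ x) :
    ∃ M : Submonoid (X.presheaf.stalk x), (∀ s ∈ M, IsUnit (rspec h s)) ∧
      @IsLocalization _ _ M (X.presheaf.stalk y) _ (rspec h).toAlgebra := by
  obtain ⟨V, hV, hx⟩ := exists_affine_mem x
  have hy := h.mem_open V.2 hx
  let _ := TopCat.Presheaf.algebra_section_stalk X.presheaf ⟨x, hx⟩
  let _ := TopCat.Presheaf.algebra_section_stalk X.presheaf ⟨y, hy⟩
  have := hV.isLocalization_stalk ⟨x, hx⟩
  have := hV.isLocalization_stalk ⟨y, hy⟩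
  let _ : Algebra (X.presheaf.stalk x) (X.presheaf.stalk y) := (rspec h).toAlgebra
  have : IsScalarTower Γ(X, V) (X.presheaf.stalk x) (X.presheaf.stalk y) :=
    IsScalarTower.of_algebraMap_eq fun t => (rspec_germ h hx t).symm
  have hle : (hV.primeIdealOf ⟨x, hx⟩).asIdeal.primeCompl ≤
      (hV.primeIdealOf ⟨y, hy⟩).asIdeal.primeCompl := by
    intro a ha hay
    rw [← comap_germ_primeAt h hV hx] at hay
    exact (mem_primeAt h (X.presheaf.germ V x hx a)).1 hay ((IsLocalization.map_units (X.presheaf.stalk x)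
      (⟨a, ha⟩ : (hV.primeIdealOf ⟨x, hx⟩).asIdeal.primeCompl)).map _)
  have hloc := IsLocalization.isLocalization_of_submonoid_le (X.presheaf.stalk x) (X.presheaf.stalk y)
    (hV.primeIdealOf ⟨x, hx⟩).asIdeal.primeCompl (hV.primeIdealOf ⟨y, hy⟩).asIdeal.primeCompl hle
  exact ⟨_, fun s hs => IsLocalization.map_units (X.presheaf.stalk y) (⟨s, hs⟩ : Submonoid.map _ _), hloc⟩

theorem flat_rspec {x y : X} (h : y ⤳ x) : (rspec h).Flat := by
  obtain ⟨M, -, hM⟩ := exists_isLocalization_rspec h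
  let _ : Algebra (X.presheaf.stalk x) (X.presheaf.stalk y) := (rspec h).toAlgebra
  exact RingHom.flat_algebraMap_iff.2 (IsLocalization.flat (X.presheaf.stalk y) M)

theorem flat_stalkMap_of_flat_off_divisor (f : X ⟶ S) {I : X.IdealSheafData}
    (hI : BlowUp.IsEffCartierIdeal I) (hflat : Flat (I.subschemeι ≫ f))
    (hoff : ∀ x : X, x ∉ I.support → (f.stalkMap x).hom.Flat) (x : X) :
    (f.stalkMap x).hom.Flat := by
  obtain ⟨_, ⟨V, hV, rfl⟩, hx, -⟩ :=
    X.isBasis_affineOpens.exists_subset_of_mem_open (Set.mem_univ x) isOpen_univ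
  obtain ⟨g, hg, hJ⟩ := exists_stalk_gen hI (V := ⟨V, hV⟩) hx
  let φ := (f.stalkMap x).hom
  let _ : Algebra (S.presheaf.stalk (f x)) (X.presheaf.stalk x) := φ.toAlgebra
  have h0 := (flat_subscheme_iff f I).1 hflat x ⟨V, hV⟩ hx
  rw [hJ] at h0
  have : Module.Flat (S.presheaf.stalk (f x)) (X.presheaf.stalk x ⧸ Ideal.span {g}) :=
    (flat_comp_mk_iff (Ideal.span {g})).1 h0
  refine flat_of_flat_away hg fun q hq hgq J ξ hξ => ?_
  obtain ⟨y, h, hu, -⟩ := exists_generization_of_prime q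
  have hyI : y ∉ I.support := fun hy => by
    refine (mem_support_iff_map_germ_ne_top I (V := ⟨V, hV⟩) (h.mem_open V.2 hx)).1 hy ?_
    rw [← map_rspec h (V := V) hx, hJ, Ideal.map_span, Set.image_singleton,
      Ideal.span_singleton_eq_top]
    exact (hu g).2 hgq
  obtain ⟨M, hMu, hM⟩ := exists_isLocalization_rspec h
  let _ : Algebra (X.presheaf.stalk x) (X.presheaf.stalk y) := (rspec h).toAlgebra
  let _ : Algebra (S.presheaf.stalk (f x)) (X.presheaf.stalk y) := ((rspec h).comp φ).toAlgebra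
  have : IsScalarTower (S.presheaf.stalk (f x)) (X.presheaf.stalk x) (X.presheaf.stalk y) :=
    IsScalarTower.of_algebraMap_eq fun _ => rfl
  have hcomp : (rspec h).comp φ = (f.stalkMap y).hom.comp (rspec (h.map f.continuous)) :=
    RingHom.ext fun r => (f.stalkSpecializes_stalkMap_apply y x h r).symm
  have : Module.Flat (S.presheaf.stalk (f x)) (X.presheaf.stalk y) := by
    have h1 : ((rspec h).comp φ).Flat := by
      rw [hcomp]
      exact RingHom.Flat.comp (flat_rspec _) (hoff y hyI)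
    exact h1
  obtain ⟨s, hs, hs0⟩ := exists_smul_eq_zero J (X.presheaf.stalk y) M hξ
  exact ⟨s, (hu s).1 (hMu s hs), hs0⟩

theorem flat_stalkMap_of_noetherian (f : X ⟶ S) {I : X.IdealSheafData}
    (hI : BlowUp.IsEffCartierIdeal I) (hflat : Flat (I.subschemeι ≫ f)) {x : X} (hxI : x ∈ I.support)
    [IsNoetherianRing (X.presheaf.stalk x)] : (f.stalkMap x).hom.Flat := by
  obtain ⟨_, ⟨V, hV, rfl⟩, hx, -⟩ :=
    X.isBasis_affineOpens.exists_subset_of_mem_open (Set.mem_univ x) isOpen_univ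
  obtain ⟨g, hg, hJ⟩ := exists_stalk_gen hI (V := ⟨V, hV⟩) hx
  have hne := (mem_support_iff_map_germ_ne_top I (V := ⟨V, hV⟩) hx).1 hxI
  rw [hJ] at hne
  let φ := (f.stalkMap x).hom
  let _ : Algebra (S.presheaf.stalk (f x)) (X.presheaf.stalk x) := φ.toAlgebra
  have h0 := (flat_subscheme_iff f I).1 hflat x ⟨V, hV⟩ hx
  rw [hJ] at h0
  have : Module.Flat (S.presheaf.stalk (f x)) (X.presheaf.stalk x ⧸ Ideal.span {g}) :=
    (flat_comp_mk_iff (Ideal.span {g})).1 h0
  exact flat_of_flat_quotient hg (IsLocalRing.le_maximalIdeal hne (Ideal.mem_span_singleton_self g))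

theorem flat_mul (f : X ⟶ S) {I J : X.IdealSheafData}
    (hI : BlowUp.IsEffCartierIdeal I) (hJ : BlowUp.IsEffCartierIdeal J)
    (h1 : Flat (I.subschemeι ≫ f)) (h2 : Flat (J.subschemeι ≫ f)) :
    Flat ((I * J).subschemeι ≫ f) := by
  refine (flat_subscheme_iff f _).2 fun x V hx => ?_
  obtain ⟨a, ha, hIa⟩ := exists_stalk_gen hI hx
  obtain ⟨b, -, hJb⟩ := exists_stalk_gen hJ hx
  let _ : Algebra (S.presheaf.stalk (f x)) (X.presheaf.stalk x) := (f.stalkMap x).hom.toAlgebra
  have h1' := (flat_subscheme_iff f I).1 h1 x V hx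
  have h2' := (flat_subscheme_iff f J).1 h2 x V hx
  rw [hIa] at h1'
  rw [hJb] at h2'
  have := (flat_comp_mk_iff (R := S.presheaf.stalk (f x)) (Ideal.span {a})).1 h1'
  have := (flat_comp_mk_iff (R := S.presheaf.stalk (f x)) (Ideal.span {b})).1 h2'
  rw [Scheme.IdealSheafData.ideal_mul, Pi.mul_apply, Ideal.map_mul, hIa, hJb,
    Ideal.span_singleton_mul_span_singleton]
  exact (flat_comp_mk_iff _).2 (flat_quotient_mul ha)

theorem flat_right_of_mul (f : X ⟶ S) {I J : X.IdealSheafData}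
    (hI : BlowUp.IsEffCartierIdeal I) (hJ : BlowUp.IsEffCartierIdeal J)
    (h1 : Flat (I.subschemeι ≫ f)) (h2 : Flat ((I * J).subschemeι ≫ f)) :
    Flat (J.subschemeι ≫ f) := by
  refine (flat_subscheme_iff f _).2 fun x V hx => ?_
  obtain ⟨a, ha, hIa⟩ := exists_stalk_gen hI hx
  obtain ⟨b, -, hJb⟩ := exists_stalk_gen hJ hx
  let _ : Algebra (S.presheaf.stalk (f x)) (X.presheaf.stalk x) := (f.stalkMap x).hom.toAlgebra
  have h1' := (flat_subscheme_iff f I).1 h1 x V hx
  have h2' := (flat_subscheme_iff f _).1 h2 x V hx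
  rw [hIa] at h1'
  rw [Scheme.IdealSheafData.ideal_mul, Pi.mul_apply, Ideal.map_mul, hIa, hJb,
    Ideal.span_singleton_mul_span_singleton] at h2'
  have := (flat_comp_mk_iff (R := S.presheaf.stalk (f x)) (Ideal.span {a})).1 h1'
  have := (flat_comp_mk_iff (R := S.presheaf.stalk (f x)) (Ideal.span {a * b})).1 h2'
  rw [hJb]
  exact (flat_comp_mk_iff _).2 (flat_quotient_of_mul ha)

end Groth.RefRank.RelDiv
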