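import Groth.Agent.BlowUpBasics.AtlasOf
import Groth.Agent.HTopHyper.BlowUpProper
import Groth.Agent.Divisors.BlowUpBasic
import Groth.Agent.Divisors.IdealComap

/-!
# The charts of a blow-up over an affine open, inside the blow-up
-/

set_option autoImplicit false

universe u

open CategoryTheory CategoryTheory.Limits AlgebraicGeometry TopologicalSpace Groth.BlowUpBasics

set_option backward.isDefEq.respectTransparency.types false

namespace Groth.RefRank.BlowChart

variable {X X' : Scheme.{u}} {b : X' ⟶ X} {I : X.IdealSheafData}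

theorem exists_pow_mul_mem {A : Type u} [CommRing A] (I : Ideal A) {a : A} (ha : a ∈ I)
    (z : BlowUp.affineAlgebra A I a) :
    ∃ (m : ℕ) (c : A), c ∈ I ^ m ∧ algebraMap A _ c = algebraMap A _ a ^ m * z := by
  obtain ⟨q₀, hz⟩ := z
  suffices ∃ (m : ℕ) (c : A), c ∈ I ^ m ∧
      algebraMap A (Localization.Away a) c = algebraMap A _ a ^ m * q₀ by
    obtain ⟨m, c, hc, h⟩ := this
    exact ⟨m, c, hc, Subtype.ext (by simpa using h)⟩
  induction hz using Algebra.adjoin_induction with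
  | mem q hq =>
    obtain ⟨x, hx, rfl⟩ := hq
    exact ⟨1, x, by rwa [pow_one], by rw [pow_one, IsLocalization.mk'_spec'_mk]⟩
  | algebraMap r => exact ⟨0, r, by simp, by simp⟩
  | add p q _ _ hp hq =>
    obtain ⟨m, c, hc, e⟩ := hp
    obtain ⟨m', c', hc', e'⟩ := hq
    refine ⟨m + m', c * a ^ m' + c' * a ^ m,
      add_mem (pow_add I m m' ▸ Ideal.mul_mem_mul hc (Ideal.pow_mem_pow ha m'))
        (pow_add I m m' ▸ mul_comm c' (a ^ m) ▸ Ideal.mul_mem_mul (Ideal.pow_mem_pow ha m) hc'), ?_⟩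
    rw [map_add, map_mul, map_mul, map_pow, map_pow, e, e']
    ring
  | mul p q _ _ hp hq =>
    obtain ⟨m, c, hc, e⟩ := hp
    obtain ⟨m', c', hc', e'⟩ := hq
    refine ⟨m + m', c * c', pow_add I m m' ▸ Ideal.mul_mem_mul hc hc', ?_⟩
    rw [map_mul, e, e']
    ring

/-- An affine open of the blow-up over `U` looking like the chart of `a`. -/
structure IsChart (b : X' ⟶ X) (I : X.IdealSheafData) (U : X.affineOpens) (a : Γ(X, U.1))
    (W : X'.affineOpens) (h : W.1 ≤ b ⁻¹ᵁ U.1) : Prop where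
  mem : a ∈ I.ideal U
  span_eq : (I.ideal U).map (b.appLE U.1 W.1 h).hom = Ideal.span {(b.appLE U.1 W.1 h).hom a}
  nzd : (b.appLE U.1 W.1 h).hom a ∈ nonZeroDivisors Γ(X', W.1)
  surj : ∀ x : Γ(X', W.1), ∃ (m : ℕ) (c : Γ(X, U.1)), c ∈ I.ideal U ^ m ∧
    (b.appLE U.1 W.1 h).hom c = (b.appLE U.1 W.1 h).hom a ^ m * x

/-- The charts of a blow-up over an affine open. -/
theorem exists_charts (hb : BlowUp.IsBlowUp b I) (U : X.affineOpens) :
    ∃ (W : I.ideal U → X'.affineOpens) (h : ∀ a, (W a).1 ≤ b ⁻¹ᵁ U.1),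
      (∀ a, IsChart b I U a.1 (W a) (h a)) ∧
      (∀ y ∈ b ⁻¹ᵁ U.1, ∃ a, y ∈ (W a).1) ∧
      ∀ a a', ∃ γ : Γ(X', (W a').1),
        (b.appLE U.1 (W a').1 (h a')).hom a.1 = γ * (b.appLE U.1 (W a').1 (h a')).hom a'.1 ∧
          X'.basicOpen γ ≤ (W a).1 := by
  have hU : IsAffineOpen U.1 := U.2
  have hp : BlowUp.IsBlowUp (pullback.fst hU.fromSpec b) (sheafOf (I.ideal U)) := by
    have := Groth.Divisors.isBlowUp_flat_pullback hU.fromSpec hb
    rwa [show I.comap hU.fromSpec = sheafOf (I.ideal U) from Groth.HTopHyper.comap_fromSpec I U] at this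
  obtain ⟨T⟩ := nonempty_atlas_of_isBlowUp hp
  let j : ∀ a : I.ideal U, Spec (CommRingCat.of (BlowUp.affineAlgebra Γ(X, U.1) (I.ideal U) a.1)) ⟶ X' :=
    fun a => T.j a ≫ pullback.snd hU.fromSpec b
  let W : I.ideal U → X'.affineOpens := fun a => ⟨(j a).opensRange, isAffineOpen_opensRange (j a)⟩
  have hfac : ∀ a, j a ≫ b = chartBase (I.ideal U) a.1 ≫ hU.fromSpec := by
    intro a
    rw [show j a ≫ b = T.j a ≫ pullback.snd hU.fromSpec b ≫ b from Category.assoc _ _ _,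
      ← pullback.condition, ← Category.assoc, T.fac]
  have hWU : ∀ a, (W a).1 ≤ b ⁻¹ᵁ U.1 := by
    rintro a _ ⟨z, rfl⟩
    change (j a ≫ b) z ∈ U.1
    rw [hfac]
    rw [← SetLike.mem_coe, ← hU.range_fromSpec, Scheme.Hom.comp_apply]
    exact ⟨_, rfl⟩
  have htop : ∀ a, (⊤ : Scheme.Opens _) ≤ (j a) ⁻¹ᵁ (W a).1 := fun a z _ => ⟨z, rfl⟩
  let ε : ∀ a : I.ideal U, Γ(X', (W a).1) →+* BlowUp.affineAlgebra Γ(X, U.1) (I.ideal U) a.1 :=
    fun a => ((j a).appLE (W a).1 ⊤ (htop a) ≫ (Scheme.ΓSpecIso _).hom).hom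
  have hεbij : ∀ a, Function.Bijective (ε a) := by
    intro a
    have h1 : IsIso ((j a).appLE (W a).1 ⊤ (htop a)) := by
      rw [Scheme.Hom.appLE]
      have := Scheme.Hom.isIso_app (j a) (W a).1 le_rfl
      have : homOfLE (htop a) = eqToHom (top_le_iff.mp (htop a)).symm := Subsingleton.elim _ _
      rw [this]
      infer_instance
    exact ConcreteCategory.bijective_of_isIso ((j a).appLE (W a).1 ⊤ (htop a) ≫ (Scheme.ΓSpecIso _).hom)
  have hεφ : ∀ a x, ε a ((b.appLE U.1 (W a).1 (hWU a)).hom x) =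
      algebraMap Γ(X, U.1) (BlowUp.affineAlgebra Γ(X, U.1) (I.ideal U) a.1) x := by
    intro a x
    have e1 : b.appLE U.1 (W a).1 (hWU a) ≫ (j a).appLE (W a).1 ⊤ (htop a) =
        (chartBase (I.ideal U) a.1 ≫ hU.fromSpec).appLE U.1 ⊤
          (fun z hz => by rw [← hfac]; exact hWU a (htop a hz)) := by
      rw [Scheme.Hom.appLE_comp_appLE]
      simp only [hfac]
    have e2 : (chartBase (I.ideal U) a.1 ≫ hU.fromSpec).appLE U.1 ⊤
        (fun z hz => by rw [← hfac]; exact hWU a (htop a hz)) =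
        CommRingCat.ofHom (algebraMap Γ(X, U.1) (BlowUp.affineAlgebra Γ(X, U.1) (I.ideal U) a.1)) ≫
          (Scheme.ΓSpecIso _).inv := by
      have h2 : hU.fromSpec.appLE U.1 ⊤ hU.fromSpec_preimage_self.ge =
          (Scheme.ΓSpecIso Γ(X, U.1)).inv := by
        rw [Scheme.Hom.appLE]
        erw [IsAffineOpen.fromSpec_app_self]
        rw [Category.assoc, ← Functor.map_comp]
        erw [CategoryTheory.Functor.map_id, Category.comp_id]
      rw [← Scheme.Hom.appLE_comp_appLE _ _ U.1 ⊤ ⊤ hU.fromSpec_preimage_self.ge le_top, h2,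
        Scheme.ΓSpecIso_inv_naturality]
      congr 1
    change ((b.appLE U.1 (W a).1 (hWU a) ≫ (j a).appLE (W a).1 ⊤ (htop a)) ≫
      (Scheme.ΓSpecIso _).hom).hom x = _
    rw [e1, e2, Category.assoc, Iso.inv_hom_id, Category.comp_id]
    rfl
  refine ⟨W, hWU, fun a => ⟨a.2, ?_, ?_, fun x => ?_⟩, fun y hy => ?_, fun a a' => ?_⟩
  · rw [← Ideal.comap_map_of_bijective _ (hεbij a) (I := Ideal.map _ _),
      ← Ideal.comap_map_of_bijective _ (hεbij a) (I := Ideal.span _)]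
    congr 1
    rw [Ideal.map_map, Ideal.map_span, Set.image_singleton, hεφ,
      show (ε a).comp (b.appLE U.1 (W a).1 (hWU a)).hom = algebraMap _ _ from RingHom.ext (hεφ a)]
    exact map_eq_span a.2
  · have h1 : ε a ((b.appLE U.1 (W a).1 (hWU a)).hom a.1) ∈ nonZeroDivisors _ := by
      rw [hεφ]; exact algebraMap_self_mem_nonZeroDivisors
    exact mem_nonZeroDivisors_of_injective (hεbij a).1 h1
  · obtain ⟨m, c, hc, e⟩ := exists_pow_mul_mem (I.ideal U) a.2 (ε a x)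
    refine ⟨m, c, hc, (hεbij a).1 ?_⟩
    rw [map_mul, map_pow, hεφ, hεφ, e]
  · obtain ⟨z, -, hz⟩ := Scheme.Pullback.exists_preimage_pullback (f := hU.fromSpec) (g := b)
      (hU.primeIdealOf ⟨b y, hy⟩) y (hU.fromSpec_primeIdealOf ⟨b y, hy⟩)
    obtain ⟨a, w, hw⟩ := T.covers z
    exact ⟨a, w, by rw [show j a = T.j a ≫ pullback.snd hU.fromSpec b from rfl, Scheme.Hom.comp_apply, hw, hz]⟩
  · obtain ⟨γ, hγ⟩ := (hεbij a').2 (frac (I.ideal U) a'.1 a.1 a.2)
    refine ⟨γ, (hεbij a').1 ?_, ?_⟩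
    · rw [map_mul, hγ, hεφ, hεφ, frac_mul_algebraMap]
    · intro y hy
      obtain ⟨z, rfl⟩ := X'.basicOpen_le γ hy
      have h1 : z ∈ (j a') ⁻¹ᵁ X'.basicOpen γ := hy
      rw [Scheme.preimage_basicOpen] at h1
      have h2 : z ∈ PrimeSpectrum.basicOpen (ε a' γ) := by
        have h3 : (Spec (CommRingCat.of (BlowUp.affineAlgebra Γ(X, U.1) (I.ideal U) a'.1))).basicOpen
            ((Scheme.ΓSpecIso _).inv.hom (ε a' γ)) =
            (Spec (CommRingCat.of (BlowUp.affineAlgebra Γ(X, U.1) (I.ideal U) a'.1))).basicOpen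
              ((j a').app (W a').1 γ) := by
          change Scheme.basicOpen _ (((j a').appLE (W a').1 ⊤ (htop a') ≫
            (Scheme.ΓSpecIso _).hom ≫ (Scheme.ΓSpecIso _).inv).hom γ) = _
          rw [Iso.hom_inv_id, Category.comp_id, Scheme.Hom.appLE]
          change Scheme.basicOpen _ ((Spec _).presheaf.map _ ((j a').app (W a').1 γ)) = _
          rw [Scheme.basicOpen_res, top_inf_eq]
        rw [← h3, basicOpen_eq_of_affine] at h1
        exact h1
      rw [hγ] at h2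
      obtain ⟨w, hw⟩ := T.overlap a a' z h2
      exact ⟨w, by rw [show j a = T.j a ≫ pullback.snd hU.fromSpec b from rfl, Scheme.Hom.comp_apply, hw]; rfl⟩

end Groth.RefRank.BlowChart
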