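import Groth.Agent.RefRank.FittSheaf

/-!
# Fitting ideal sheaves, local generators and local freeness
-/

set_option autoImplicit false
universe u

open CategoryTheory Limits AlgebraicGeometry TopologicalSpace IsLocalRing Groth.QCohMod
open Groth.PropsBasic.FPSections (resModule resₗ isLocalizedModule_resₗ isScalarTower_resModule)

namespace Groth.RefRank.FittSheaf

variable {X : Scheme.{u}} (F : X.Modules) [F.IsQuasicoherent]

/-- The localization of the sections on an affine open as sections on a principal open. -/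
noncomputable def awayRing {U : X.Opens} (hU : IsAffineOpen U) (g : Γ(X, U)) :
    Localization.Away g ≃+* Γ(X, X.basicOpen g) :=
  haveI := hU.isLocalization_basicOpen g
  (IsLocalization.algEquiv (Submonoid.powers g) (Localization.Away g) Γ(X, X.basicOpen g)).toRingEquiv

theorem exists_away_addEquiv {U : X.Opens} (hU : IsAffineOpen U) (g : Γ(X, U)) :
    ∃ j : LocalizedModule.Away g Γ(F, U) ≃+ Γ(F, X.basicOpen g),
      ∀ a y, j (a • y) = awayRing hU g a • j y := by
  letI := resModule F g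
  haveI := isScalarTower_resModule F g
  haveI := hU.isLocalization_basicOpen g
  haveI := isLocalizedModule_resₗ F hU g
  refine ⟨(IsLocalizedModule.iso (Submonoid.powers g) (resₗ F g)).toAddEquiv, fun a y => ?_⟩
  obtain ⟨a, s, rfl⟩ := IsLocalization.exists_mk'_eq (Submonoid.powers g) a
  apply ((Module.End.isUnit_iff _).mp (IsLocalizedModule.map_units (resₗ F g) s)).1
  simp [awayRing, ← map_smul, ← smul_assoc]

theorem span_basicOpen_of_away {U : X.Opens} (hU : IsAffineOpen U) (g : Γ(X, U)) {r : ℕ}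
    {s : Fin r → LocalizedModule.Away g Γ(F, U)}
    (hs : Submodule.span (Localization.Away g) (Set.range s) = ⊤) :
    ∃ t : Fin r → Γ(F, X.basicOpen g), Submodule.span Γ(X, X.basicOpen g) (Set.range t) = ⊤ := by
  obtain ⟨j, hj⟩ := exists_away_addEquiv F hU g
  refine ⟨j ∘ s, eq_top_iff.2 ?_⟩
  rintro y -
  obtain ⟨y, rfl⟩ := j.surjective y
  have hy : y ∈ Submodule.span (Localization.Away g) (Set.range s) := hs.ge trivial
  induction hy using Submodule.span_induction with
  | mem y hy => obtain ⟨i, rfl⟩ := hy; exact Submodule.subset_span ⟨i, rfl⟩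
  | zero => rw [map_zero]; exact Submodule.zero_mem _
  | add a b _ _ ha hb => rw [map_add]; exact Submodule.add_mem _ ha hb
  | smul a y _ hy => rw [hj]; exact Submodule.smul_mem _ _ hy

set_option backward.isDefEq.respectTransparency false in
theorem exists_basis_sections {U : X.Opens} {n : ℕ} (e : F.restrict U.ι ≅ FlatMod.freeMod (↑U) n)
    {D : X.Opens} (hD : IsAffineOpen D) (hDU : D ≤ U) :
    Nonempty (Module.Basis (Fin n) Γ(X, D) Γ(F, D)) := by
  obtain ⟨c⟩ := Groth.PropsBasic.LocFree.exists_free_iso_of_le F e hD hDU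
  let M₀ := ModuleCat.of Γ(X, D) (ULift.{u} (Fin n) →₀ Γ(X, D))
  let e₁ : M₀ ≃ₗ[Γ(X, D)] (moduleSpecΓFunctor (R := Γ(X, D))).obj (F.restrict hD.fromSpec) :=
    (tilde.toTildeΓNatIso.app M₀ ≪≫ (moduleSpecΓFunctor (R := Γ(X, D))).mapIso c.symm).toLinearEquiv
  let e₂ : (moduleSpecΓFunctor (R := Γ(X, D))).obj (F.restrict hD.fromSpec) ≃ₗ[Γ(X, D)] Γ(F, D) :=
    { topEquiv hD F with
      map_smul' := fun r x => by
        have := secEquiv_smul hD F ⊤ (image_top_fromSpec hD) le_rfl r x
        rw [resFun_self] at this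
        exact this }
  exact ⟨(Finsupp.basisSingleOne.map (e₁.trans e₂)).reindex Equiv.ulift⟩

theorem exists_free_basicOpen {U : X.Opens} (hU : IsAffineOpen U) [Module.Finite Γ(X, U) Γ(F, U)]
    (g : Γ(X, U)) {x : X} (hx : x ∈ X.basicOpen g) {n : ℕ}
    (hfree : Module.Free (Localization.Away g) (LocalizedModule.Away g Γ(F, U)))
    (hn : Module.finrank (Localization.Away g) (LocalizedModule.Away g Γ(F, U)) = n) :
    Nonempty (F.restrict (X.basicOpen g).ι ≅ FlatMod.freeMod (↑(X.basicOpen g)) n) := by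
  obtain ⟨j, hj⟩ := exists_away_addEquiv F hU g
  haveI : Nontrivial Γ(X, X.basicOpen g) :=
    (X.presheaf.germ (X.basicOpen g) x hx).hom.domain_nontrivial
  haveI : Nontrivial (Localization.Away g) := (awayRing hU g).toEquiv.nontrivial
  haveI : RingHomInvPair (awayRing hU g : Localization.Away g →+* Γ(X, X.basicOpen g))
      ((awayRing hU g).symm : Γ(X, X.basicOpen g) →+* Localization.Away g) :=
    RingHomInvPair.of_ringEquiv _
  haveI : RingHomInvPair ((awayRing hU g).symm : Γ(X, X.basicOpen g) →+* Localization.Away g)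
      (awayRing hU g : Localization.Away g →+* Γ(X, X.basicOpen g)) :=
    RingHomInvPair.symm _ _
  let e : LocalizedModule.Away g Γ(F, U)
      ≃ₛₗ[(awayRing hU g : Localization.Away g →+* Γ(X, X.basicOpen g))]
      Γ(F, X.basicOpen g) := { j with map_smul' := hj }
  haveI hfree' : Module.Free Γ(X, X.basicOpen g) Γ(F, X.basicOpen g) :=
    (Module.Free.iff_of_equiv e).mp hfree
  haveI := finite_sectionsAux F hU g
  have hr : Module.finrank Γ(X, X.basicOpen g) Γ(F, X.basicOpen g) = n := by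
    rw [← hn]
    exact (congrArg Cardinal.toNat
      (rank_eq_of_equiv_equiv (awayRing hU g) j (awayRing hU g).bijective hj)).symm
  exact Groth.PropsBasic.LocFree.nonempty_iso_free_of_basis F (hU.basicOpen g)
    ((Module.finBasisOfFinrankEq _ _ hr).reindex Equiv.ulift.symm)
where
  finite_sectionsAux {X : Scheme.{u}} (F : X.Modules) [F.IsQuasicoherent] {U : X.Opens} (hU : IsAffineOpen U)
      [Module.Finite Γ(X, U) Γ(F, U)] (g : Γ(X, U)) :
      Module.Finite Γ(X, X.basicOpen g) Γ(F, X.basicOpen g) := by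
    letI := resModule F g
    haveI := isScalarTower_resModule F g
    haveI := hU.isLocalization_basicOpen g
    haveI := isLocalizedModule_resₗ F hU g
    exact Module.Finite.of_isLocalizedModule (Submonoid.powers g) (resₗ F g)

/-- Spanning sections on an affine open give an epimorphism from a free module. -/
theorem exists_epi_of_span {D : X.Opens} (hD : IsAffineOpen D) {r : ℕ} {t : Fin r → Γ(F, D)}
    (ht : Submodule.span Γ(X, D) (Set.range t) = ⊤) :
    ∃ π : FlatMod.freeMod (↑D) r ⟶ F.restrict D.ι, Epi π := by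
  haveI : IsAffine (D : Scheme.{u}) := hD
  have hW : D.ι ''ᵁ ⊤ = D := by simp
  let g : Γ(F, D) →+ Γ(F.restrict D.ι, ⊤) :=
    (F.restrictAppIso D.ι ⊤).inv.hom.comp (res F hW.le)
  let m : ULift.{u} (Fin r) → Γ(F.restrict D.ι, (⊤ : (D : Scheme.{u}).Opens)) := fun i => g (t i.down)
  have hspan : Submodule.span Γ((D : Scheme.{u}), ⊤) (Set.range m) = ⊤ := by
    refine eq_top_iff.2 ?_
    rintro y -
    obtain ⟨y', rfl⟩ : ∃ y', g y' = y := ⟨res F hW.ge ((F.restrictAppIso D.ι ⊤).hom y), by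
      simp only [g, AddMonoidHom.coe_comp, Function.comp_apply]
      rw [res_res, res_self]
      exact Iso.hom_inv_id_apply (F.restrictAppIso D.ι ⊤) y⟩
    have hy : y' ∈ Submodule.span Γ(X, D) (Set.range t) := ht.ge trivial
    induction hy using Submodule.span_induction with
    | mem y hy => obtain ⟨i, rfl⟩ := hy; exact Submodule.subset_span ⟨⟨i⟩, rfl⟩
    | zero => rw [map_zero]; exact Submodule.zero_mem _
    | add y z _ _ h₁ h₂ => rw [map_add]; exact Submodule.add_mem _ h₁ h₂
    | smul a y _ h =>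
      have : g (a • y) = (D.ι.appIso ⊤).hom (resFun X hW.le a) • g y := by
        simp only [g, AddMonoidHom.coe_comp, Function.comp_apply, res_smul]
        exact Scheme.Modules.smul_restrictAppIso_inv_apply D.ι F ⊤ _ _
      rw [this]
      exact Submodule.smul_mem _ _ h
  have hepi : Epi (freeHom (F.restrict D.ι) m) := epi_freeHom _ m fun x => by
    rw [eq_top_iff, ← Groth.Ega2Proj.span_germ_of_affine (isAffineOpen_top _) hspan (Set.mem_univ x),
      ← Set.range_comp]
    exact le_rfl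
  let q : (∐ fun _ : ULift.{u} (Fin r) => Coh.structureModule (D : Scheme.{u})) ⟶
      FlatMod.freeMod (↑D) r :=
    Sigma.desc fun j => Sigma.ι (fun _ : Fin r => Coh.structureModule (D : Scheme.{u})) j.down
  refine ⟨Sigma.desc fun i => secHom (F.restrict D.ι) (m ⟨i⟩), ?_⟩
  have hq : q ≫ Sigma.desc (fun i => secHom (F.restrict D.ι) (m ⟨i⟩)) = freeHom (F.restrict D.ι) m := by
    refine Sigma.hom_ext _ _ fun j => ?_
    simp [q, m]
  rw [← hq] at hepi
  exact epi_of_epi q _

theorem exists_nhd_epi (hF : CohB1.IsFT F) (r : ℕ) {x : X}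
    (hx : x ∉ (Fitt.sheafIdeal F r).support) :
    ∃ U : X.Opens, x ∈ U ∧ ∃ π : FlatMod.freeMod (↑U) r ⟶ F.restrict U.ι, Epi π := by
  obtain ⟨U, hxU, -⟩ := Groth.Divisors.exists_affine_le x ⊤ trivial
  haveI := finite_sections F hF U.2
  have hp : ¬ Fitt.ideal Γ(X, U.1) Γ(F, U.1) r ≤ (U.2.primeIdealOf ⟨x, hxU⟩).asIdeal := by
    intro hle
    apply hx
    rw [EffCartierLocal.mem_support_iff_map_germ_ne_top _ hxU, sheafIdeal_ideal F hF]
    letI : Algebra Γ(X, U.1) (X.presheaf.stalk x) :=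
      TopCat.Presheaf.algebra_section_stalk X.presheaf ⟨x, hxU⟩
    haveI : IsLocalization.AtPrime (X.presheaf.stalk x) (U.2.primeIdealOf ⟨x, hxU⟩).asIdeal :=
      U.2.isLocalization_stalk ⟨x, hxU⟩
    exact (IsLocalization.map_algebraMap_ne_top_iff_disjoint
      (U.2.primeIdealOf ⟨x, hxU⟩).asIdeal.primeCompl (X.presheaf.stalk x) _).2
      (Set.disjoint_left.2 fun a ha hJ => ha (hle hJ))
  obtain ⟨f, hf, s, hs⟩ := (Groth.Misc3Fitt.not_le_prime_iff_exists_span_away _).1 hp
  obtain ⟨t, ht⟩ := span_basicOpen_of_away F U.2 f hs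
  exact ⟨X.basicOpen f, (mem_basicOpen_iff_notMem_primeIdealOf U.2 f x hxU).2 hf,
    exists_epi_of_span F (U.2.basicOpen f) ht⟩

set_option backward.isDefEq.respectTransparency false in
theorem notMem_support_of_epi (hF : CohB1.IsFT F) (r : ℕ) {x : X} {U : X.Opens} (hxU : x ∈ U)
    (π : FlatMod.freeMod (↑U) r ⟶ F.restrict U.ι) [Epi π] :
    x ∉ (Fitt.sheafIdeal F r).support := by
  obtain ⟨D, hxD, hDU⟩ := Groth.Divisors.exists_affine_le x U hxU
  haveI : IsAffine (D.1 : Scheme.{u}) := D.2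
  let φ : (Scheme.Modules.restrictFunctor (X.homOfLE hDU)).obj (F.restrict U.ι) ≅ F.restrict D.1.ι :=
    ((Scheme.Modules.restrictFunctorComp _ _).app F).symm ≪≫
      (Scheme.Modules.restrictFunctorCongr (X.homOfLE_ι hDU)).app F
  let q : (∐ fun _ : ULift.{u} (Fin r) => Coh.structureModule (D.1 : Scheme.{u})) ≅
      FlatMod.freeMod (↑D.1) r :=
    Sigma.whiskerEquiv (f := fun _ : ULift.{u} (Fin r) => Coh.structureModule (D.1 : Scheme.{u}))
      (g := fun _ : Fin r => Coh.structureModule (D.1 : Scheme.{u})) Equiv.ulift (fun _ => Iso.refl _)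
  let π' : (∐ fun _ : ULift.{u} (Fin r) => Coh.structureModule (D.1 : Scheme.{u})) ⟶ F.restrict D.1.ι :=
    q.hom ≫ (Misc15.restrictFreeIso (X.homOfLE hDU) r).inv ≫
      (Scheme.Modules.restrictFunctor (X.homOfLE hDU)).map π ≫ φ.hom
  haveI : Epi π' := inferInstance
  have h1 := span_range_eq_top π' (isAffineOpen_top (D.1 : Scheme.{u}))
  set s : ULift.{u} (Fin r) → Γ(F.restrict D.1.ι, (⊤ : (D.1 : Scheme.{u}).Opens)) := fun i =>
    π'.app ⊤ ((Sigma.ι (fun _ : ULift.{u} (Fin r) => Coh.structureModule (D.1 : Scheme.{u})) i).app ⊤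
      (oneSec ⊤))
  have h2 := span_top_of_restrict F (Set.range s) h1
    (t := Set.range fun i : Fin r => res F (by simp) ((F.restrictAppIso D.1.ι ⊤).hom (s ⟨i⟩)))
    (by rintro _ ⟨i, rfl⟩; exact ⟨i.down, rfl⟩)
  rw [EffCartierLocal.mem_support_iff_map_germ_ne_top _ hxD, not_not, sheafIdeal_ideal F hF,
    Groth.Misc3Fitt.ideal_eq_top_of_span _ h2 le_rfl, Ideal.map_top]

theorem isFinLocFreeOfRank_iff (hF : CohB1.IsFT F) (r : ℕ) :
    FlatMod.IsFinLocFreeOfRank r F ↔
      (∀ k : ℕ, k < r → Fitt.sheafIdeal F k = ⊥) ∧ (∀ k : ℕ, r ≤ k → Fitt.sheafIdeal F k = ⊤) := by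
  constructor
  · intro h
    have key : ∀ (k : ℕ) (x : X), ∃ (D : X.affineOpens), x ∈ D.1 ∧
        (Fitt.sheafIdeal F k).ideal D = if r ≤ k then ⊤ else ⊥ := by
      intro k x
      obtain ⟨U, hxU, ⟨e⟩⟩ := h x
      obtain ⟨D, hxD, hDU⟩ := Groth.Divisors.exists_affine_le x U hxU
      obtain ⟨b⟩ := exists_basis_sections F e D.2 hDU
      haveI : Nontrivial Γ(X, D.1) := (X.presheaf.germ D.1 x hxD).hom.domain_nontrivial
      exact ⟨D, hxD, by rw [sheafIdeal_ideal F hF, Groth.Misc3Fitt.ideal_of_basis b]⟩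
    refine ⟨fun k hk => Groth.Divisors.ext_of_cover fun x => ?_,
      fun k hk => Groth.Divisors.ext_of_cover fun x => ?_⟩
    · obtain ⟨D, hxD, hD⟩ := key k x
      exact ⟨D, hxD, by rw [hD, if_neg (not_le.2 hk), Scheme.IdealSheafData.ideal_bot]; rfl⟩
    · obtain ⟨D, hxD, hD⟩ := key k x
      exact ⟨D, hxD, by rw [hD, if_pos hk, Scheme.IdealSheafData.ideal_top]; rfl⟩
  · rintro ⟨h0, h1⟩ x
    obtain ⟨U, hxU, -⟩ := Groth.Divisors.exists_affine_le x ⊤ trivial
    haveI := finite_sections F hF U.2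
    obtain ⟨f, hf, hfree, hr⟩ := (Groth.Misc3Fitt.locallyFree_rank_iff (R := Γ(X, U.1))
      (M := Γ(F, U.1)) r).2 ⟨fun k hk => by
          rw [← sheafIdeal_ideal F hF, h0 k hk, Scheme.IdealSheafData.ideal_bot]; rfl,
        fun k hk => by rw [← sheafIdeal_ideal F hF, h1 k hk, Scheme.IdealSheafData.ideal_top]; rfl⟩
      (U.2.primeIdealOf ⟨x, hxU⟩).asIdeal
    have hxf := (mem_basicOpen_iff_notMem_primeIdealOf U.2 f x hxU).2 hf
    exact ⟨X.basicOpen f, hxf, exists_free_basicOpen F U.2 f hxf hfree hr⟩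

end Groth.RefRank.FittSheaf
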