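import Groth.Prelude.Def_Fitting
import Groth.Agent.PropsBasic.FPSections
import Groth.Agent.PropsBasic.LocFree
import Groth.Agent.QCohMod.SupportPullback
import Groth.Agent.Misc3Fitt.Props
import Groth.Agent.Misc3Fitt.Local
import Groth.Agent.Misc3Fitt.Strict
import Groth.Agent.Divisors.IdealComap
import Groth.Agent.Ega2Proj.TwistExtend
import Groth.Agent.RefRank.EffCartierLocal
import Groth.Agent.RefRank.EffCartierExtend

/-!
# Fitting ideal sheaves of quasi-coherent modules of finite type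
-/

set_option autoImplicit false
universe u

open CategoryTheory AlgebraicGeometry TopologicalSpace IsLocalRing Groth.QCohMod
open Groth.PropsBasic.FPSections (resModule resₗ isLocalizedModule_resₗ isScalarTower_resModule)

namespace Groth.RefRank.FittSheaf

variable {X Y : Scheme.{u}} (F : X.Modules) [F.IsQuasicoherent]

theorem ideal_basicOpen (hF : CohB1.IsFT F) (r : ℕ) (U : X.affineOpens) (g : Γ(X, U.1)) :
    (Fitt.ideal Γ(X, U.1) Γ(F, U.1) r).map (X.presheaf.map (homOfLE <| X.basicOpen_le g).op).hom =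
      Fitt.ideal Γ(X, (X.affineBasicOpen g).1) Γ(F, (X.affineBasicOpen g).1) r := by
  letI := resModule F g
  haveI := isScalarTower_resModule F g
  haveI := U.2.isLocalization_basicOpen g
  haveI := isLocalizedModule_resₗ F U.2 g
  haveI := finite_sections F hF U.2
  exact (Groth.Misc3Fitt.ideal_of_isBaseChange
    (IsLocalizedModule.isBaseChange (Submonoid.powers g) Γ(X, X.basicOpen g) (resₗ F g)) r).symm

/-- The affine Fitting ideals as a quasi-coherent ideal sheaf. -/
noncomputable def data (hF : CohB1.IsFT F) (r : ℕ) : X.IdealSheafData where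
  ideal U := Fitt.ideal Γ(X, U.1) Γ(F, U.1) r
  map_ideal_basicOpen U g := ideal_basicOpen F hF r U g

theorem sheafIdeal_eq (hF : CohB1.IsFT F) (r : ℕ) : Fitt.sheafIdeal F r = data F hF r :=
  Scheme.IdealSheafData.ofIdeals_ideal (data F hF r)

theorem sheafIdeal_ideal (hF : CohB1.IsFT F) (r : ℕ) (U : X.affineOpens) :
    (Fitt.sheafIdeal F r).ideal U = Fitt.ideal Γ(X, U.1) Γ(F, U.1) r := by
  rw [sheafIdeal_eq F hF r]; rfl

theorem map_germ_sheafIdeal (hF : CohB1.IsFT F) (r : ℕ) {U : X.affineOpens} {x : X} (hx : x ∈ U.1) :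
    ((Fitt.sheafIdeal F r).ideal U).map (X.presheaf.germ U.1 x hx).hom =
      Fitt.ideal (X.presheaf.stalk x) (F.presheaf.stalk x) r := by
  rw [sheafIdeal_ideal F hF]
  letI : Algebra Γ(X, U.1) (X.presheaf.stalk x) :=
    TopCat.Presheaf.algebra_section_stalk X.presheaf ⟨x, hx⟩
  haveI : IsLocalization.AtPrime (X.presheaf.stalk x) (U.2.primeIdealOf ⟨x, hx⟩).asIdeal :=
    U.2.isLocalization_stalk ⟨x, hx⟩
  letI := stalkModule F x hx
  haveI : IsScalarTower Γ(X, U.1) (X.presheaf.stalk x) (F.presheaf.stalk x) :=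
    IsScalarTower.of_compHom _ _ _
  haveI := isLocalizedModule_germ F U.2 x hx
  haveI := finite_sections F hF U.2
  exact (Groth.Misc3Fitt.ideal_of_isBaseChange
    (IsLocalizedModule.isBaseChange (U.2.primeIdealOf ⟨x, hx⟩).asIdeal.primeCompl
      (X.presheaf.stalk x) (germₗ F x hx)) r).symm

theorem mem_support_iff (hF : CohB1.IsFT F) (r : ℕ) (x : X) :
    x ∈ (Fitt.sheafIdeal F r).support ↔ Fitt.ideal (X.presheaf.stalk x) (F.presheaf.stalk x) r ≠ ⊤ := by
  obtain ⟨U, hxU, -⟩ := Groth.Divisors.exists_affine_le x ⊤ trivial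
  rw [EffCartierLocal.mem_support_iff_map_germ_ne_top _ hxU, map_germ_sheafIdeal F hF r hxU]

theorem notMem_support_iff_spans (hF : CohB1.IsFT F) (r : ℕ) (x : X) :
    x ∉ (Fitt.sheafIdeal F r).support ↔
      ∃ g : Fin r → F.presheaf.stalk x, Submodule.span (X.presheaf.stalk x) (Set.range g) = ⊤ := by
  haveI := finite_stalk F hF x
  rw [mem_support_iff F hF, not_not]
  exact ⟨Groth.Misc3Fitt.exists_span_of_fitt_eq_top_of_local,
    fun ⟨g, hg⟩ => Groth.Misc3Fitt.ideal_eq_top_of_span g hg le_rfl⟩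

/-- Two ideal sheaves agree if their stalk ideals agree. -/
theorem ext_map_germ {I J : X.IdealSheafData}
    (h : ∀ x : X, ∃ (U : X.affineOpens) (hx : x ∈ U.1),
      (I.ideal U).map (X.presheaf.germ U.1 x hx).hom = (J.ideal U).map (X.presheaf.germ U.1 x hx).hom) :
    I = J := by
  suffices key : ∀ (I J : X.IdealSheafData), (∀ x : X, ∃ (U : X.affineOpens) (hx : x ∈ U.1),
      (I.ideal U).map (X.presheaf.germ U.1 x hx).hom ≤ (J.ideal U).map (X.presheaf.germ U.1 x hx).hom) →
      I ≤ J from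
    le_antisymm (key I J fun x => (h x).imp fun U => Exists.imp fun hx e => e.le)
      (key J I fun x => (h x).imp fun U => Exists.imp fun hx e => e.ge)
  intro I J h U a ha
  refine Ideal.mem_of_localization_maximal fun m hm => ?_
  haveI := hm.isPrime
  let p : PrimeSpectrum Γ(X, U.1) := ⟨m, inferInstance⟩
  have hx : U.2.fromSpec p ∈ U.1 := by
    have : U.2.fromSpec p ∈ Set.range U.2.fromSpec := ⟨p, rfl⟩
    rwa [U.2.range_fromSpec] at this
  obtain ⟨V, hxV, hle⟩ := h (U.2.fromSpec p)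
  rw [EffCartierLocal.map_germ_eq I hxV hx, EffCartierLocal.map_germ_eq J hxV hx] at hle
  have hp : U.2.primeIdealOf ⟨U.2.fromSpec p, hx⟩ = p :=
    U.2.fromSpec.isOpenEmbedding.injective (U.2.fromSpec_primeIdealOf _)
  letI : Algebra Γ(X, U.1) (X.presheaf.stalk (U.2.fromSpec p)) :=
    TopCat.Presheaf.algebra_section_stalk X.presheaf ⟨U.2.fromSpec p, hx⟩
  haveI : IsLocalization.AtPrime (X.presheaf.stalk (U.2.fromSpec p)) m := by
    have := U.2.isLocalization_stalk ⟨U.2.fromSpec p, hx⟩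
    rwa [hp] at this
  let e := (IsLocalization.algEquiv m.primeCompl (X.presheaf.stalk (U.2.fromSpec p))
    (Localization.AtPrime m))
  have hmem := Ideal.mem_map_of_mem e.toRingHom (hle (Ideal.mem_map_of_mem _ ha))
  rw [Ideal.map_map] at hmem
  have he : e.toRingHom.comp (X.presheaf.germ U.1 _ hx).hom =
      algebraMap Γ(X, U.1) (Localization.AtPrime m) := RingHom.ext fun t => e.commutes t
  rw [he] at hmem
  rwa [← e.commutes]

theorem map_germ_comap (I : X.IdealSheafData) (f : Y ⟶ X) {y : Y} {V : Y.affineOpens} (hy : y ∈ V.1)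
    {U : X.affineOpens} (hfy : f y ∈ U.1) :
    ((I.comap f).ideal V).map (Y.presheaf.germ V.1 y hy).hom =
      ((I.ideal U).map (X.presheaf.germ U.1 (f y) hfy).hom).map (f.stalkMap y).hom := by
  obtain ⟨W, hyW, hle⟩ := Groth.Divisors.exists_affine_le y (f ⁻¹ᵁ U.1) hfy
  rw [EffCartierLocal.map_germ_eq _ hy hyW, Groth.Divisors.ideal_comap_affine I f U W hle,
    Ideal.map_map, Ideal.map_map]
  congr 1
  ext s
  simp only [RingHom.comp_apply]
  erw [Scheme.Hom.germ_stalkMap_apply]
  rw [Scheme.Hom.appLE]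
  erw [TopCat.Presheaf.germ_res_apply]
  rfl

theorem sheafIdeal_pullback (hF : CohB1.IsFT F) (f : Y ⟶ X) (r : ℕ) :
    (Fitt.sheafIdeal F r).comap f = Fitt.sheafIdeal ((Scheme.Modules.pullback f).obj F) r := by
  refine ext_map_germ fun y => ?_
  obtain ⟨V, hy, -⟩ := Groth.Divisors.exists_affine_le y ⊤ trivial
  obtain ⟨U, hfy, -⟩ := Groth.Divisors.exists_affine_le (f y) ⊤ trivial
  refine ⟨V, hy, ?_⟩
  rw [map_germ_comap _ f hy hfy, map_germ_sheafIdeal F hF r hfy,
    map_germ_sheafIdeal _ (isFT_pullback f F hF) r hy]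
  letI := stalkAlg f y
  haveI := finite_stalk F hF (f y)
  rw [← Groth.Misc3Fitt.ideal_congr (pullStalkEquiv f F y) r, Groth.Misc3Fitt.ideal_baseChange]
  rfl

theorem sheafIdeal_congr {G : X.Modules} (hF : CohB1.IsFT F) (e : F ≅ G) (r : ℕ) :
    Fitt.sheafIdeal F r = Fitt.sheafIdeal G r := by
  refine congrArg Scheme.IdealSheafData.ofIdeals (funext fun U => ?_)
  haveI := finite_sections F hF U.2
  exact Groth.Misc3Fitt.ideal_congr
    (LinearEquiv.ofBijective
      { toFun := e.hom.app U.1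
        map_add' := map_add _
        map_smul' := fun a t => Scheme.Modules.Hom.app_smul _ a t }
      (ConcreteCategory.bijective_of_isIso (e.hom.app U.1))) r

end Groth.RefRank.FittSheaf
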