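import Groth.Agent.RefRank.CDivNormal
import Groth.Agent.SchemeMorphisms.Ass
import Groth.Agent.LocCohBase.DepthLocal

/-!
# Support of stalks and embedded points
-/

set_option autoImplicit false
universe u

open CategoryTheory AlgebraicGeometry TopologicalSpace IsLocalRing Groth.QCohMod

namespace Groth.RefRank.SupportStalk

open Groth.RefRank

variable {X : Scheme.{u}} (F : X.Modules) [F.IsQuasicoherent]

theorem mem_support_stalk_iff {x y : X} (h : y ⤳ x) (q : PrimeSpectrum (X.presheaf.stalk x))
    (hu : ∀ r, IsUnit (rspec h r) ↔ r ∉ q.asIdeal) :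
    q ∈ Module.support (X.presheaf.stalk x) (F.presheaf.stalk x) ↔ y ∈ CohB1.support F := by
  rw [Module.mem_support_iff']
  constructor
  · rintro ⟨v, hv⟩ hs
    obtain ⟨a, ha, hav⟩ := exists_smul_eq_zero_of_mspec F h (v := v)
      (@Subsingleton.elim _ hs _ _)
    exact hv a ((hu a).1 ha) hav
  · intro hy
    obtain ⟨u, hu0⟩ : ∃ u : F.presheaf.stalk y, u ≠ 0 := by
      by_contra hne
      simp only [not_exists, not_not] at hne
      exact hy ⟨fun a b => by rw [hne a, hne b]⟩
    obtain ⟨a, v, ha, hav⟩ := exists_smul_eq_mspec F h u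
    refine ⟨v, fun r hr hrv => hu0 ?_⟩
    have := congrArg (mspec F h) hrv
    rw [map_zero, mspec_smul, ← hav, smul_smul] at this
    exact (((hu r).2 hr).mul ha).smul_eq_zero.1 this

/-- An embedded specialization makes the support of the stalk positive dimensional. -/
theorem one_le_supportDim {x y : X} (h : y ⤳ x) (hne : y ≠ x) (hy : y ∈ CohB1.support F) :
    (1 : WithBot ℕ∞) ≤ Module.supportDim (X.presheaf.stalk x) (F.presheaf.stalk x) := by
  have hu : ∀ r, IsUnit (rspec h r) ↔ r ∉ CDivNormal.primeAt h := fun r => by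
    rw [CDivNormal.mem_primeAt, not_not]
  let q : PrimeSpectrum (X.presheaf.stalk x) := ⟨CDivNormal.primeAt h, inferInstance⟩
  have hx : x ⤳ x := specializes_rfl
  have hq := (mem_support_stalk_iff F h q hu).2 hy
  have hlt : CDivNormal.primeAt h < maximalIdeal (X.presheaf.stalk x) := by
    refine lt_of_le_of_ne (IsLocalRing.le_maximalIdeal (Ideal.IsPrime.ne_top inferInstance)) fun e => ?_
    refine hne (CDivNormal.primeAt_inj h hx (e.trans ?_))
    ext r
    rw [CDivNormal.mem_primeAt]
    have : rspec hx r = r := by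
      obtain ⟨U, hxU, t, rfl⟩ := TopCat.Presheaf.exists_germ_eq X.presheaf r
      rw [rspec_germ]
    rw [this]
    rfl
  have hm : IsLocalRing.closedPoint (X.presheaf.stalk x) ∈
      Module.support (X.presheaf.stalk x) (F.presheaf.stalk x) :=
    Module.mem_support_mono hlt.le hq
  exact Order.LTSeries.length_le_krullDim (p :=
    (RelSeries.singleton _ (⟨q, hq⟩ : Module.support (X.presheaf.stalk x) (F.presheaf.stalk x))).snoc
      ⟨_, hm⟩ (show q < IsLocalRing.closedPoint _ from hlt))

theorem not_one_le_depth_iff [IsLocallyNoetherian X] (hF : Coh.IsCoh F) (x : X) :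
    ¬ (1 : ℕ∞) ≤ LocCoh.depth (X.presheaf.stalk x) (F.presheaf.stalk x) ↔ Curv2.IsAssPoint F x := by
  haveI := Groth.RefRank.finite_stalkModule hF x
  rw [LocCoh.depth, Groth.LocCohBase.one_le_idealDepth_iff]
  push Not
  refine ⟨fun ⟨q, hq, hle⟩ => ?_, fun h => ⟨_, h, le_rfl⟩⟩
  have he : maximalIdeal (X.presheaf.stalk x) = q :=
    (maximalIdeal.isMaximal _).eq_of_le hq.1.ne_top hle
  unfold Curv2.IsAssPoint
  rw [he]; exact hq

theorem noEmbedded_iff_hasS1 [IsLocallyNoetherian X] (hF : Coh.IsCoh F) :
    (∀ x : ↥X, Curv2.IsAssPoint F x → ∀ y : ↥X, Curv2.IsAssPoint F y → y ⤳ x → y = x) ↔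
      ∀ x : ↥X, min (1 : WithBot ℕ∞) (Module.supportDim ↑(X.presheaf.stalk x) ↑(F.presheaf.stalk x)) ≤
        ((LocCoh.depth (X.presheaf.stalk x) (F.presheaf.stalk x) : ℕ∞) : WithBot ℕ∞) := by
  have hqc : Coh.IsQCoh F := inferInstanceAs (F.IsQuasicoherent)
  constructor
  · intro h x
    by_cases hd : (1 : ℕ∞) ≤ LocCoh.depth (X.presheaf.stalk x) (F.presheaf.stalk x)
    · exact (min_le_left _ _).trans (by exact_mod_cast hd)
    refine (min_le_right _ _).trans (le_trans ?_ (WithBot.coe_le_coe.2 (zero_le : (0 : ℕ∞) ≤ _)))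
    have hx := (not_one_le_depth_iff F hF x).1 hd
    have hsub : Subsingleton (Module.support (X.presheaf.stalk x) (F.presheaf.stalk x)) := by
      suffices key : ∀ q ∈ Module.support (X.presheaf.stalk x) (F.presheaf.stalk x),
          q = IsLocalRing.closedPoint _ from
        ⟨fun a b => Subtype.ext ((key a a.2).trans (key b b.2).symm)⟩
      intro q hq
      obtain ⟨y, hyx, hu, -⟩ := exists_generization_of_prime q.asIdeal
      have hy := (mem_support_stalk_iff F hyx q hu).1 hq
      obtain ⟨z, hz, hzy⟩ := Groth.SchemeMorphisms.exists_ass_specializes hqc hy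
      have hzx : z = x := h x hx z hz (hzy.trans hyx)
      have hxy : y = x := (hyx.antisymm (hzx ▸ hzy)).eq
      subst hxy
      refine PrimeSpectrum.ext (le_antisymm (IsLocalRing.le_maximalIdeal q.2.ne_top) fun r hr => ?_)
      by_contra hrq
      have : IsUnit (rspec hyx r) := (hu r).2 hrq
      obtain ⟨U, hxU, t, rfl⟩ := TopCat.Presheaf.exists_germ_eq X.presheaf r
      rw [rspec_germ] at this
      exact hr this
    exact Order.krullDim_nonpos_of_subsingleton
  · intro h x hx y hy hyx
    by_contra hne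
    have h1 := one_le_supportDim F hyx hne (Groth.SchemeMorphisms.ass_subset_support hy)
    have := h x
    rw [min_eq_left h1] at this
    exact (not_one_le_depth_iff F hF x).2 hx (by exact_mod_cast this)

end Groth.RefRank.SupportStalk
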