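import Groth.Agent.RefRank.SmoothFitting
import Groth.Agent.OmegaSheaf.FibreRankCrit
import Groth.Agent.FibreDim.Smooth
import Groth.Agent.VarietyBC.Dim
import Mathlib

/-!
# Fitting ideals of differentials and smoothness of flat morphisms of equidimensional fibres
-/

set_option autoImplicit false
universe u

open CategoryTheory AlgebraicGeometry TopologicalSpace Groth.QCohMod Groth.OmegaSheaf
open scoped TensorProduct

namespace Groth.RefRank.SmoothFittingFlat

theorem dim_le_of_components {Z : Type*} [TopologicalSpace Z] {d : WithBot ℕ∞}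
    (h : ∀ T ∈ irreducibleComponents Z, topologicalKrullDim T ≤ d) : topologicalKrullDim Z ≤ d := by
  have hcov : ∀ C : IrreducibleCloseds Z, ∃ T : irreducibleComponents Z, (C : Set Z) ⊆ T.1 := fun C => by
    obtain ⟨T, hT, hCT, hmax⟩ := exists_preirreducible (C : Set Z) C.isIrreducible.isPreirreducible
    have hTm : T ∈ irreducibleComponents Z :=
      ⟨⟨C.isIrreducible.nonempty.mono hCT, hT⟩, fun U hU hTU => (hmax U hU.isPreirreducible hTU).le⟩
    exact ⟨⟨T, hTm⟩, hCT⟩
  rw [Groth.SpectralTopology.topologicalKrullDim_eq_iSup_of_closed (fun T : irreducibleComponents Z => T.1) hcov]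
  exact iSup_le fun T => h T.1 T.2

theorem le_localDim_of_components {k : Type u} [Field k] {Z : Scheme.{u}} (g : Z ⟶ Spec (CommRingCat.of k))
    [LocallyOfFiniteType g] (d : WithBot ℕ∞) (h : ∀ T ∈ irreducibleComponents Z, d ≤ topologicalKrullDim T)
    (z : Z) : d ≤ FlatMor.localDim Z z := by
  letI : Z.Over (Spec (CommRingCat.of k)) := ⟨g⟩
  haveI : LocallyOfFiniteType (Z ↘ Spec (CommRingCat.of k)) := ‹LocallyOfFiniteType g›
  have hT := irreducibleComponent_mem_irreducibleComponents z
  refine (h _ hT).trans ?_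
  obtain ⟨η, hη⟩ := QuasiSober.sober hT.1 (isClosed_of_mem_irreducibleComponents _ hT)
  rw [← hη.def, Groth.Variety2.Dim.dim_closure_singleton]
  refine le_iInf fun U => ?_
  have hηU : η ∈ (U.1 : Z.Opens) := (hη.specializes mem_irreducibleComponent).mem_open U.1.isOpen U.2
  rw [Groth.VarietyBC.dim_opens_eq_iSup k (U.1 : Z.Opens)]
  let U' : Z.Opens := U.1
  exact le_iSup (fun w : U'.toScheme => ((Order.height (U'.ι w) : ℕ∞) : WithBot ℕ∞)) ⟨η, hηU⟩

theorem finrank_le_of_spans {B M : Type u} [CommRing B] [AddCommGroup M] [Module B M] (q : Ideal B) [q.IsPrime]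
    {d : ℕ} (w : Fin d → M) (hw : ∀ z, ∃ s ∉ q, s • z ∈ Submodule.span B (Set.range w)) :
    Module.finrank q.ResidueField (q.ResidueField ⊗[B] M) ≤ d := by
  classical
  have htop : Submodule.span q.ResidueField (Set.range fun j => (1 : q.ResidueField) ⊗ₜ[B] w j) = ⊤ := by
    rw [eq_top_iff]
    rintro y -
    induction y using TensorProduct.induction_on with
    | zero => exact zero_mem _
    | add a b ha hb => exact add_mem ha hb
    | tmul a z =>
      obtain ⟨s, hs, hz⟩ := hw z
      have h1 : (1 : q.ResidueField) ⊗ₜ[B] (s • z) ∈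
          Submodule.span q.ResidueField (Set.range fun j => (1 : q.ResidueField) ⊗ₜ[B] w j) := by
        have h := Submodule.mem_map_of_mem (f := (TensorProduct.mk B q.ResidueField M 1)) hz
        rw [Submodule.map_span, ← Set.range_comp] at h
        exact Submodule.span_le_restrictScalars B q.ResidueField _ h
      rw [TensorProduct.tmul_smul, ← algebraMap_smul q.ResidueField s] at h1
      have hs0 : algebraMap B q.ResidueField s ≠ 0 := fun h => hs (Ideal.algebraMap_residueField_eq_zero.1 h)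
      have := Submodule.smul_mem _ a ((Submodule.smul_mem_iff _ hs0).1 h1)
      rwa [TensorProduct.smul_tmul', smul_eq_mul, mul_one] at this
  rw [← finrank_top, ← htop]
  exact (finrank_range_le_card _).trans (by simp)

variable {X S : Scheme.{u}} (f : X ⟶ S) [LocallyOfFinitePresentation f] [QuasiSeparated f] (d : ℕ)

set_option backward.isDefEq.respectTransparency.types false in
theorem smooth_nhd_of_notMem [Flat f]
    (hdim : ∀ s : ↥S, ∀ T ∈ irreducibleComponents ↥(f.fiber s), topologicalKrullDim ↥T = d) (x : X)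
    (hx : x ∉ (Fitt.sheafIdeal (Omega.sheaf f) d).support) :
    ∃ U : X.Opens, x ∈ U ∧ Smooth (U.ι ≫ f) := by
  obtain ⟨c, hxc, -⟩ := exists_chart f (W := (⊤ : X.Opens)) (x := x) trivial
  letI := chartAlg f c.e
  obtain ⟨w, hw⟩ := SmoothFitting.spans_chart_of_notMem f d x hx c.hU c.hV c.e hxc
  haveI : LocallyOfFiniteType (f.fiberToSpecResidueField (f x)) := MorphismProperty.pullback_snd _ _ inferInstance
  have hfd : ((d : ℕ) : WithBot ℕ∞) ≤ FlatMor.fibreDimAt f x :=
    @le_localDim_of_components (S.residueField (f x)) _ (f.fiber (f x)) (f.fiberToSpecResidueField (f x))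
      ‹_› _ (fun T hT => (hdim _ T hT).ge) _
  have hmem : x ∈ f.smoothLocus := mem_smoothLocus_of_finrank_le c hxc (Flat.stalkMap f x)
    (le_trans (by exact_mod_cast finrank_le_of_spans _ w hw) hfd)
  refine ⟨f.smoothLocus, hmem, Scheme.Hom.smoothLocus_eq_top_iff.1 ?_⟩
  rw [← Scheme.Hom.preimage_smoothLocus_eq]
  exact Scheme.Opens.ι_preimage_self _

theorem notMem_of_smooth_nhd
    (hdim : ∀ s : ↥S, ∀ T ∈ irreducibleComponents ↥(f.fiber s), topologicalKrullDim ↥T = d) (x : X)
    (U : X.Opens) (hxU : x ∈ U) [Smooth (U.ι ≫ f)] :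
    x ∉ (Fitt.sheafIdeal (Omega.sheaf f) d).support := by
  obtain ⟨V, hV, T', hT', hxT', e', hsm⟩ := Smooth.exists_isStandardSmooth (U.ι ≫ f) ⟨x, hxU⟩
  let T : X.Opens := U.ι ''ᵁ T'
  have hT : IsAffineOpen T := hT'.image_of_isOpenImmersion U.ι
  have eT : T ≤ f ⁻¹ᵁ V := by
    rintro _ ⟨z, hz, rfl⟩
    exact e' hz
  have hxT : x ∈ T := ⟨⟨x, hxU⟩, hxT', rfl⟩
  have key : (U.ι ≫ f).appLE V T' e' ≫ (U.ι.appIso T').inv = f.appLE V T eT := by
    rw [← cancel_mono (U.ι.appIso T').hom, Category.assoc, Iso.inv_hom_id, Category.comp_id,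
      Scheme.Hom.appIso_hom', Scheme.Hom.appLE_comp_appLE]
  letI := chartAlg f eT
  have hst : Algebra.IsStandardSmooth Γ(S, V) Γ(X, T) := by
    have h1 : RingHom.IsStandardSmooth (f.appLE V T eT).hom := by
      rw [← key, CommRingCat.hom_comp]
      exact RingHom.isStandardSmooth_respectsIso.1 _ (U.ι.appIso T').symm.commRingCatIsoToRingEquiv hsm
    exact h1
  obtain ⟨ι, σ, _, _, ⟨P⟩⟩ := hst.out
  have hrel : Algebra.IsStandardSmoothOfRelativeDimension P.dimension Γ(S, V) Γ(X, T) :=
    P.isStandardSmoothOfRelativeDimension rfl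
  have hn : P.dimension ≤ d := by
    haveI : SmoothOfRelativeDimension P.dimension (Spec.map (f.appLE V T eT)) := by
      rw [HasRingHomProperty.Spec_iff (P := @SmoothOfRelativeDimension P.dimension)]
      exact RingHom.locally_of RingHom.isStandardSmoothOfRelativeDimension_respectsIso _ hrel
    haveI : SmoothOfRelativeDimension P.dimension (hT.fromSpec ≫ f) := by
      rw [← IsAffineOpen.SpecMap_appLE_fromSpec f hV hT eT]
      exact inferInstanceAs (SmoothOfRelativeDimension (P.dimension + 0) _)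
    have h1 := Groth.FibreDim.fibreDimAt_eq_of_smoothOfRelativeDimension P.dimension (hT.fromSpec ≫ f)
      (hT.primeIdealOf ⟨x, hxT⟩)
    replace h1 := (Groth.FibreDim.fibreDimAt_openImmersion_comp hT.fromSpec f _).symm.trans h1
    erw [hT.fromSpec_primeIdealOf] at h1
    have h2 : FlatMor.fibreDimAt f x ≤ ((d : ℕ) : WithBot ℕ∞) :=
      (Groth.SpectralTopology.localDim_le_dim _).trans (dim_le_of_components fun T' hT' => (hdim _ T' hT').le)
    rw [h1] at h2
    exact_mod_cast h2
  obtain ⟨w, hw⟩ := OmegaEmbed.exists_spanning_of_surjective (AlgHom.id Γ(S, V) Γ(X, T))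
    Function.surjective_id _ hrel
  refine SmoothFitting.notMem_of_spans_chart f d x hT hV eT hxT
    (fun j => if h : (j : ℕ) < P.dimension then w ⟨j, h⟩ else 0) fun z => ?_
  refine ⟨1, fun h => (hT.primeIdealOf ⟨x, hxT⟩).isPrime.ne_top ((Ideal.eq_top_iff_one _).2 h), ?_⟩
  rw [one_smul]
  refine Submodule.span_mono ?_ (hw.ge (Submodule.mem_top (x := z)))
  rintro _ ⟨j, rfl⟩
  exact ⟨⟨j, lt_of_lt_of_le j.2 hn⟩, dif_pos j.2⟩

end Groth.RefRank.SmoothFittingFlat
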