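import Groth.Agent.Abvar.PicCalc
import Groth.Agent.CohTwo.LocFreeDual
import Groth.Agent.LocFree.Basic
import Groth.Agent.RefRank.Divisor
import Groth.Agent.EulerDeg.LineBundle

/-!
# The dual of an invertible module is its inverse
-/

set_option autoImplicit false
universe u

open CategoryTheory AlgebraicGeometry TopologicalSpace Groth.QCohMod
open Groth.PicAux (tmulSec Basis' toFun)

namespace Groth.RefRank.DualInv

variable {X Y : Scheme.{u}} {L : X.Modules}

theorem isInvertible_dual (hL : PicF.IsInvertible L) : PicF.IsInvertible (RefHull.dual L) := by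
  rw [LocFree.isInvertible_iff_ofRank_one] at hL ⊢
  exact LocFree.isFinLocFreeOfRank_homSh (a := 1) (b' := 1) hL
    (LocFree.isInvertible_iff_ofRank_one.1 (EulerDeg.isInvertible_structureModule X))

theorem exists_tensor_dual_iso (hL : PicF.IsInvertible L) :
    Nonempty (CohB1.tensorMod L (RefHull.dual L) ≅ Coh.structureModule X) := by
  haveI : L.IsQuasicoherent := (EulerDeg.isCoh_of_isInvertible hL).1
  let φ := CohTwo.SheafHomIso.evalHom L (Coh.structureModule X)
  suffices H : ∀ x, Function.Bijective (RefHull.stalkMapₗ φ x) from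
    ⟨@asIso _ _ _ _ φ ((isIso_iff_bijective_stalk φ).2 H)⟩
  intro x
  obtain ⟨W, q, hxW, hq⟩ := (PicAux.isInvertible_iff_exists_gen _).1
    (Abvar.PicCalc.isInvertible_tensorMod hL (isInvertible_dual hL)) x
  have ht := isStalkBasis_germ_of_gen hq hxW
  set t := germ _ x hxW q
  let e₁ := LinearEquiv.ofBijective (LinearMap.toSpanSingleton (X.presheaf.stalk x) _ t) ht
  let g : X.presheaf.stalk x →ₗ[X.presheaf.stalk x] X.presheaf.stalk x :=
    (oneEquiv x).symm.toLinearMap ∘ₗ RefHull.stalkMapₗ φ x ∘ₗ e₁.toLinearMap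
  suffices hs : Function.Surjective (RefHull.stalkMapₗ φ x) by
    have hg : Function.Surjective g := (oneEquiv x).symm.surjective.comp (hs.comp e₁.surjective)
    have hgi := OrzechProperty.injective_of_surjective_endomorphism g hg
    refine ⟨fun a b hab => ?_, hs⟩
    obtain ⟨a, rfl⟩ := e₁.surjective a
    obtain ⟨b, rfl⟩ := e₁.surjective b
    exact congrArg e₁ (hgi (congrArg (oneEquiv x).symm hab))
  obtain ⟨U, s, hxU, hs⟩ := LocFree.isFinLocFreeOfRank_iff.1
    (LocFree.isInvertible_iff_ofRank_one.1 hL) x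
  obtain ⟨_, ⟨V, hV, rfl⟩, hxV, hVU⟩ :=
    X.isBasis_affineOpens.exists_subset_of_mem_open hxU U.2
  have hs' : Basis' L V fun i => res L hVU (s i) := fun W h => by
    have e : ∀ i, PicAux.res L h (res L hVU (s i)) = PicAux.res L (h.trans hVU) (s i) := fun i =>
      res_res L hVU h (s i)
    simpa only [e] using hs W (h.trans hVU)
  obtain ⟨e, he⟩ := CohTwo.LocFreeDual.exists_dual_basis hs' hV
  have h0 := (he 0 0).trans (if_pos rfl)
  let w : (CohB1.tensorMod L (RefHull.dual L)).presheaf.stalk x :=
    germ _ x hxV (tmulSec (res L hVU (s 0)) (e 0))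
  have hw : RefHull.stalkMapₗ φ x w = oneGerm x := by
    refine (RefHull.stalkMapₗ_germ φ x hxV _).trans ?_
    rw [CohTwo.SheafHomIso.evalHom_tmulSec]
    have h1 := smul_oneGerm x hxV (toFun (RefRank.secToLin (e 0) (res L hVU (s 0))))
    rw [h0, map_one, one_smul] at h1
    rw [h1, ← h0]
    rfl
  intro z
  obtain ⟨a, rfl⟩ := (oneEquiv x).surjective z
  exact ⟨a • w, by rw [map_smul, hw, oneEquiv_apply]⟩

open Groth.Abvar.PicCalc in
theorem nonempty_pullback_dual_iso (f : Y ⟶ X) (hL : PicF.IsInvertible L) :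
    Nonempty (RefHull.dual ((Scheme.Modules.pullback f).obj L) ≅
      (Scheme.Modules.pullback f).obj (RefHull.dual L)) := by
  have hp := PicLoc.isInvertible_pullback f hL
  have h1 : cls hp * cls (isInvertible_dual hp) = 1 := by
    rw [← cls_tensorMod]
    exact (nonempty_iso_structure_iff _).1 (exists_tensor_dual_iso hp)
  have h2 : cls hp * cls (PicLoc.isInvertible_pullback f (isInvertible_dual hL)) = 1 := by
    rw [← pull_cls f hL, ← pull_cls f (isInvertible_dual hL), ← map_mul, ← cls_tensorMod,
      (nonempty_iso_structure_iff _).1 (exists_tensor_dual_iso hL), map_one]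
  exact (Abvar.PicCalc.nonempty_iso_iff _ _).2 (mul_left_cancel (h1.trans h2.symm))

end Groth.RefRank.DualInv
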