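import Groth.Agent.RefRank.MeroExist
import Groth.Agent.RefRank.RelDiv
import Groth.Agent.Calg5.WeakAss

/-!
# Meromorphic functions on an affine open as the total ring of fractions
-/

set_option autoImplicit false
universe u

open CategoryTheory AlgebraicGeometry Opposite TopologicalSpace Groth.PicAux

namespace Groth.RefRank.MeroTotal

variable {X : Scheme.{u}}

theorem exists_pow_mul_eq_zero {U : X.Opens} (hU : IsCompact (U : Set X)) (h : Γ(X, U))
    (f : Γ(Mero.kmod X, U)) (hf : res (Mero.kmod X) (X.basicOpen_le h) f = 0) :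
    ∃ n : ℕ, Mero.toK X U h ^ n * f = 0 := by
  have hloc : ∀ x : U, ∃ (V : X.Opens) (_ : x.1 ∈ V) (hVU : V ≤ U) (n : ℕ),
      ∀ (y : X) (hy : y ∈ V), toKStalk y (X.presheaf.germ U y (hVU hy) h) ^ n * f.1 ⟨y, hVU hy⟩ = 0 := by
    intro x
    obtain ⟨V₀, hV₀, a, b, hxV₀, hab⟩ := exists_kfr f x.1 x.2
    obtain ⟨⟨V, hV⟩, hxV, hle⟩ := Groth.Divisors.exists_affine_le x.1 V₀ hxV₀
    have hle' : V ≤ V₀ := hle
    let h' : Γ(X, V) := resX X (hle'.trans hV₀) h
    let a' : Γ(X, V) := resX X hle' a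
    have hh : ∀ y, y ∈ X.basicOpen h' → y ∈ X.basicOpen h := fun y hy => by
      have := (X.basicOpen_res h (homOfLE (hle'.trans hV₀)).op).le hy
      exact this.2
    have h0 : resX X (X.basicOpen_le h') a' = 0 := by
      refine Groth.Divisors.section_ext fun y hy => ?_
      rw [germ_resX, germ_resX, map_zero]
      refine toKStalk_injective y ?_
      have hyV : y ∈ V₀ := hle' (X.basicOpen_le h' hy)
      have e1 : f.1 ⟨y, hV₀ hyV⟩ = 0 := congr(($hf).1 ⟨y, hh y hy⟩)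
      rw [map_zero, ← kfr_mul_toKStalk a b ⟨y, hyV⟩, ← hab, kres_apply, e1, zero_mul]
    obtain ⟨n, hn⟩ := exists_pow_mul_eq_zero_of_res_basicOpen_eq_zero_of_isCompact X hV.isCompact a' h' h0
    refine ⟨V, hxV, hle'.trans hV₀, n, fun y hy => ?_⟩
    refine (isUnit_toKStalk (Mero.regGerm (⟨y, hle' hy⟩ : V₀) b)).mul_left_eq_zero.1 ?_
    have e2 := congrArg (X.presheaf.germ V y hy) hn
    rw [map_mul, map_pow, map_zero, germ_resX, germ_resX] at e2
    have e3 := kfr_mul_toKStalk a b ⟨y, hle' hy⟩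
    rw [← hab, kres_apply] at e3
    rw [mul_assoc, e3, ← map_pow, ← map_mul, e2, map_zero]
  choose V hxV hVU n hn using hloc
  obtain ⟨t, ht⟩ := hU.elim_finite_subcover (fun x : U => (V x : Set X)) (fun x => (V x).2)
    fun x hx => Set.mem_iUnion.2 ⟨⟨x, hx⟩, hxV ⟨x, hx⟩⟩
  refine ⟨t.sup n, kext fun y => ?_⟩
  obtain ⟨x, hxt, hyx⟩ := Set.mem_iUnion₂.1 (ht y.2)
  rw [← map_pow, Mero.kmod_mul_apply, toK_apply', map_pow, map_pow,
    ← Nat.sub_add_cancel (Finset.le_sup (f := n) hxt), pow_add, mul_assoc, hn x y.1 hyx, mul_zero]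
  rfl

/-- A nonzerodivisor of the local ring at a weakly associated point is a unit. -/
theorem isUnit_of_weakAss {z : X} (hz : Curv2.IsWeakAssPoint (Coh.structureModule X) z)
    {a : X.presheaf.stalk z} (ha : a ∈ nonZeroDivisors (X.presheaf.stalk z)) : IsUnit a := by
  obtain ⟨w, hw, hn⟩ := (Groth.Divisors.isAssociatedPrime_stalk_iff z).1
    ((Groth.Divisors.weakAss_structure_iff_stalk z).1 hz)
  by_contra hu
  obtain ⟨n, h0⟩ := hn a hu
  have : w = 0 := (mul_right_mem_nonZeroDivisors_eq_zero_iff (pow_mem ha n)).1 ((mul_comm _ _).trans h0)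
  exact hw 1 (by rw [this, mul_zero]) isUnit_one

theorem germ_nzd {U : X.Opens} (hU : IsAffineOpen U) {b : Γ(X, U)} (hb : b ∈ nonZeroDivisors Γ(X, U)) :
    b ∈ Mero.regSub X U := fun x => by
  let _ : Algebra Γ(X, U) (X.presheaf.stalk x.1) := TopCat.Presheaf.algebra_section_stalk X.presheaf x
  have := hU.isLocalization_stalk x
  exact IsLocalization.nonZeroDivisors_le_comap (hU.primeIdealOf x).asIdeal.primeCompl
    (X.presheaf.stalk x.1) hb

theorem exists_nzd_mul {U : X.Opens} (hU : IsAffineOpen U)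
    (hfin : (FlatCA.weakAss Γ(X, U) Γ(X, U)).Finite) (f : Γ(Mero.kmod X, U)) :
    ∃ b ∈ nonZeroDivisors Γ(X, U), ∃ r, f * Mero.toK X U b = Mero.toK X U r := by
  let D : Ideal Γ(X, U) :=
    { carrier := {b | ∃ r, f * Mero.toK X U b = Mero.toK X U r}
      zero_mem' := ⟨0, by rw [map_zero, mul_zero]⟩
      add_mem' := by
        rintro a b ⟨r, hr⟩ ⟨s, hs⟩
        exact ⟨r + s, by rw [map_add, mul_add, hr, hs, map_add]⟩
      smul_mem' := by
        rintro c b ⟨r, hr⟩
        exact ⟨c * r, by rw [smul_eq_mul, map_mul, mul_left_comm, hr, map_mul]⟩ }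
  have hD : ∀ q ∈ FlatCA.weakAss Γ(X, U) Γ(X, U), ¬ D ≤ q := by
    intro q hq hle
    have hqp : q.IsPrime := (Groth.Calg5.mem_weakAss_iff.1 hq).1
    let P : PrimeSpectrum Γ(X, U) := ⟨q, hqp⟩
    have hy : hU.fromSpec P ∈ U := hU.range_fromSpec.le ⟨P, rfl⟩
    have he : hU.primeIdealOf ⟨hU.fromSpec P, hy⟩ = P :=
      hU.fromSpec.isOpenEmbedding.injective (hU.fromSpec_primeIdealOf _)
    have hwa : Curv2.IsWeakAssPoint (Coh.structureModule X) (hU.fromSpec P) :=
      (Groth.Divisors.isWeakAssPoint_iff_weakAss (Groth.Divisors.isQCoh_structureModule X) hU hy).2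
        (by rw [he]; exact hq)
    obtain ⟨V, hV, a, b, hyV, hab⟩ := exists_kfr f (hU.fromSpec P) hy
    have hyb : hU.fromSpec P ∈ X.basicOpen b.1 :=
      (X.mem_basicOpen b.1 _ hyV).2 (isUnit_of_weakAss hwa (b.2 ⟨_, hyV⟩))
    obtain ⟨s, hs, hys⟩ := hU.exists_basicOpen_le ⟨_, hyb⟩ hy
    have hsV : X.basicOpen s ≤ V := hs.trans (X.basicOpen_le b.1)
    have hsU : X.basicOpen s ≤ U := X.basicOpen_le s
    have hbu : IsUnit (resX X hsV b.1) := by
      have := (RingedSpace.isUnit_res_basicOpen X.toRingedSpace b.1).map (resX X hs)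
      rw [show resX X hsV b.1 = resX X hs (resX X (X.basicOpen_le b.1) b.1) from (resX_resX _ _ _).symm]
      exact this
    let c := resX X hsV a * ↑hbu.unit⁻¹
    have hc : res (Mero.kmod X) hsU f = Mero.toK X _ c := kext fun y => by
      refine (isUnit_toKStalk (Mero.regGerm (⟨y.1, hsV y.2⟩ : V) b)).mul_left_injective ?_
      have e3 := kfr_mul_toKStalk a b ⟨y.1, hsV y.2⟩
      rw [← hab, kres_apply] at e3
      refine Eq.trans e3 ?_
      change _ = toKStalk y.1 _ * toKStalk y.1 _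
      rw [← map_mul]
      congr 1
      change _ = X.presheaf.germ _ y.1 y.2 c * X.presheaf.germ V y.1 (hsV y.2) b.1
      rw [← germ_resX hsV y.1 y.2 b.1, ← map_mul, mul_assoc, IsUnit.val_inv_mul, mul_one, germ_resX]
    haveI := hU.isLocalization_basicOpen s
    obtain ⟨⟨r, ⟨_, n, rfl⟩⟩, hrc⟩ := IsLocalization.surj (Submonoid.powers s) c
    let g := f * Mero.toK X U (s ^ n) - Mero.toK X U r
    have hg : res (Mero.kmod X) hsU g = 0 := kext fun y => by
      change f.1 ⟨y.1, hsU y.2⟩ * toKStalk y.1 (X.presheaf.germ U y.1 (hsU y.2) (s ^ n)) -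
        toKStalk y.1 (X.presheaf.germ U y.1 (hsU y.2) r) = 0
      have e4 : f.1 ⟨y.1, hsU y.2⟩ = toKStalk y.1 (X.presheaf.germ _ y.1 y.2 c) := congr(($hc).1 y)
      have e5 := congrArg (X.presheaf.germ _ y.1 y.2) hrc
      rw [map_mul] at e5
      change X.presheaf.germ _ y.1 y.2 c * X.presheaf.germ _ y.1 y.2 (resX X hsU (s ^ n)) =
        X.presheaf.germ _ y.1 y.2 (resX X hsU r) at e5
      rw [germ_resX, germ_resX] at e5
      rw [e4, ← map_mul, e5, sub_self]
    obtain ⟨m, hm⟩ := exists_pow_mul_eq_zero hU.isCompact s g hg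
    have hmem : s ^ (m + n) ∈ D := ⟨s ^ m * r, by
      simp only [g, mul_sub, sub_eq_zero] at hm
      rw [pow_add, map_mul, map_mul, map_pow _ s m, ← hm]
      ring⟩
    have : s ∈ (hU.primeIdealOf ⟨hU.fromSpec P, hy⟩).asIdeal := by
      rw [he]; exact hqp.mem_of_pow_mem _ (hle hmem)
    exact (Groth.QCohMod.mem_basicOpen_iff_notMem_primeIdealOf hU s _ hy).1 hys this
  by_contra hne
  push Not at hne
  have hsub : (D : Set Γ(X, U)) ⊆ ⋃ q ∈ (hfin.toFinset : Set (Ideal Γ(X, U))), (q : Set Γ(X, U)) := by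
    intro b ⟨r, hr⟩
    rw [Set.Finite.coe_toFinset, Groth.Calg5.biUnion_weakAss]
    intro hreg
    exact hne b (isRegular_iff_mem_nonZeroDivisors.1 ⟨hreg, fun p q h => hreg (by simpa [mul_comm] using h)⟩) r hr
  obtain ⟨q, hq, hle⟩ := (Ideal.subset_union_prime ⊥ ⊥ fun q hq _ _ =>
    (Groth.Calg5.mem_weakAss_iff.1 (hfin.mem_toFinset.1 hq)).1).1 hsub
  exact hD q (hfin.mem_toFinset.1 hq) hle

theorem isLocalization_kmod {U : X.Opens} (hU : IsAffineOpen U)
    (hfin : (FlatCA.weakAss Γ(X, U) Γ(X, U)).Finite) :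
    @IsLocalization Γ(X, U) _ (nonZeroDivisors Γ(X, U)) Γ(Mero.kmod X, U) _ (Mero.toK X U).toAlgebra := by
  letI := (Mero.toK X U).toAlgebra
  refine
    { map_units := fun b => ⟨regUnit ⟨b.1, germ_nzd hU b.2⟩, rfl⟩
      surj := fun f => ?_
      exists_of_eq := fun {a b} h => ⟨1, by rw [toK_injective U h]⟩ }
  obtain ⟨b, hb, r, hr⟩ := exists_nzd_mul hU hfin f
  exact ⟨⟨r, ⟨b, hb⟩⟩, hr⟩

theorem finite_weakAss_of_noetherian [IsLocallyNoetherian X] {U : X.Opens} (hU : IsAffineOpen U) :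
    (FlatCA.weakAss Γ(X, U) Γ(X, U)).Finite := by
  have : IsNoetherianRing Γ(X, U) := IsLocallyNoetherian.component_noetherian ⟨U, hU⟩
  rw [Groth.Calg5.weakAss_eq_associatedPrimes]
  exact associatedPrimes.finite _ _

theorem finite_weakAss_of_maximal
    (ha : ∀ x : X, Curv2.IsWeakAssPoint (Coh.structureModule X) x → ∀ y : X, y ⤳ x → y = x)
    {U : X.Opens} (hU : IsAffineOpen U) (hfin : (irreducibleComponents ↥(U : Scheme.{u})).Finite) :
    (FlatCA.weakAss Γ(X, U) Γ(X, U)).Finite := by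
  refine (finite_minimalPrimes hU le_rfl (MeroExist.finite_components_meeting U hfin)).subset fun q hq => ?_
  have hqp : q.IsPrime := (Groth.Calg5.mem_weakAss_iff.1 hq).1
  let P : PrimeSpectrum Γ(X, U) := ⟨q, hqp⟩
  have hy : hU.fromSpec P ∈ U := hU.range_fromSpec.le ⟨P, rfl⟩
  have he : hU.primeIdealOf ⟨hU.fromSpec P, hy⟩ = P :=
    hU.fromSpec.isOpenEmbedding.injective (hU.fromSpec_primeIdealOf _)
  have hwa : Curv2.IsWeakAssPoint (Coh.structureModule X) (hU.fromSpec P) :=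
    (Groth.Divisors.isWeakAssPoint_iff_weakAss (Groth.Divisors.isQCoh_structureModule X) hU hy).2
      (by rw [he]; exact hq)
  have := (Groth.Divisors.primeIdealOf_minimal_iff hU hy).2 (ha _ hwa)
  rwa [he] at this

theorem regStalk_eq_of_maximal
    (ha : ∀ x : X, Curv2.IsWeakAssPoint (Coh.structureModule X) x → ∀ y : X, y ⤳ x → y = x)
    (hX : LocFiniteComponents X) (x : X) : Mero.regStalk X x = nonZeroDivisors (X.presheaf.stalk x) := by
  refine le_antisymm (Mero.regStalk_le_nonZeroDivisors x) fun g hg => ?_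
  obtain ⟨V, hxV, t, rfl⟩ := TopCat.Presheaf.exists_germ_eq X.presheaf g
  obtain ⟨W₀, hxW₀, hfin⟩ := hX x
  let S := {Z : Set X | Z ∈ irreducibleComponents X ∧ (Z ∩ (W₀ : Set X)).Nonempty ∧ x ∉ Z}
  have hcl : IsClosed (⋃ Z ∈ S, Z) := (hfin.subset fun Z hZ => ⟨hZ.1, hZ.2.1⟩).isClosed_biUnion
    fun Z hZ => isClosed_of_mem_irreducibleComponents Z hZ.1
  let N : X.Opens := V ⊓ W₀ ⊓ ⟨(⋃ Z ∈ S, Z)ᶜ, hcl.isOpen_compl⟩
  have hxN : x ∈ N := ⟨⟨hxV, hxW₀⟩, fun hmem => by
    obtain ⟨Z, hZ, hxZ⟩ := Set.mem_iUnion₂.1 hmem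
    exact hZ.2.2 hxZ⟩
  have hNV : N ≤ V := fun z hz => hz.1.1
  have hreg : Groth.Divisors.IsNzdSec (resX X hNV t) :=
    Groth.Divisors.isNzdSec_of_weakAss _ fun z hz hwa => by
      have hzx : z ⤳ x := by
        by_contra hns
        refine hz.2 (Set.mem_iUnion₂.2 ⟨closure {z}, ⟨?_, ⟨z, subset_closure rfl, hz.1.2⟩, ?_⟩,
          subset_closure rfl⟩)
        · exact (PropsBasic2.closure_mem_irreducibleComponents_iff _).2 (ha z hwa)
        · exact fun h => hns (specializes_iff_mem_closure.2 h)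
      obtain ⟨M, -, hloc⟩ := RelDiv.exists_isLocalization_rspec hzx
      letI : Algebra (X.presheaf.stalk x) (X.presheaf.stalk z) := (rspec hzx).toAlgebra
      have h1 := IsLocalization.nonZeroDivisors_le_comap M (X.presheaf.stalk z) hg
      change rspec hzx (X.presheaf.germ V x hxV t) ∈ nonZeroDivisors (X.presheaf.stalk z) at h1
      rw [rspec_germ] at h1
      rwa [germ_resX]
  exact ⟨N, hxN, resX X hNV t, fun y => hreg y.1 y.2, germ_resX hNV x hxN t⟩

end Groth.RefRank.MeroTotal
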