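import Groth.Agent.SchemeMorphisms.AssFiltration
import Groth.Agent.CohTwo.SupportLocal
import Groth.Agent.Divisors.Assoc
import Groth.Agent.FlatMorOne.FlatLocusBelowScheme

/-!
# Sections supported nowhere densely in the support of a coherent module
-/

universe u

open CategoryTheory Limits AlgebraicGeometry TopologicalSpace Opposite

set_option backward.isDefEq.respectTransparency false

namespace Groth.RefRank.Embedded

open Groth.QCohMod (SubMod res)
open Groth.SchemeMorphisms (stalkSub IsCofiniteSub)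

variable {X : Scheme.{u}} {M : X.Modules}

/-- The maximal points of the support. -/
def maxSupp (M : X.Modules) : Set X :=
  {η | η ∈ CohB1.support M ∧ ∀ y ∈ CohB1.support M, y ⤳ η → y = η}

theorem exists_germ_ne_zero {x : X} (hx : x ∈ CohB1.support M) :
    ∃ (W : X.Opens) (hxW : x ∈ W) (s : Γ(M, W)), Groth.QCohMod.germ M x hxW s ≠ 0 := by
  obtain ⟨z, hz⟩ : ∃ z : M.presheaf.stalk x, z ≠ 0 := by
    by_contra hne
    simp only [not_exists, not_not] at hne
    exact hx ⟨fun a b => by rw [hne a, hne b]⟩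
  obtain ⟨W, hxW, s, rfl⟩ := Groth.QCohMod.exists_germ M x z
  exact ⟨W, hxW, s, hz⟩

theorem mem_support_of_germ_ne_zero {x : X} {W : X.Opens} (hxW : x ∈ W) {s : Γ(M, W)}
    (hs : Groth.QCohMod.germ M x hxW s ≠ 0) : x ∈ CohB1.support M :=
  fun h => hs (@Subsingleton.elim _ h _ _)

variable [IsLocallyNoetherian X] (hM : Coh.IsCoh M)

include hM

theorem exists_maxSupp_specializes {y : X} (hy : y ∈ CohB1.support M) :
    ∃ η ∈ maxSupp M, η ⤳ y := by
  have hcl := Groth.CohTwo.isClosed_support M hM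
  let Z := CohB1.support M
  let y' : Z := ⟨y, hy⟩
  have : QuasiSober Z := (hcl.isClosedEmbedding_subtypeVal).quasiSober
  let C := irreducibleComponent y'
  have hC : IsIrreducible C := isIrreducible_irreducibleComponent
  have hg := hC.isGenericPoint_genericPoint_closure
  rw [isClosed_irreducibleComponent.closure_eq] at hg
  let η := hC.genericPoint
  refine ⟨η.1, ⟨η.2, fun z hz hzη => ?_⟩, (hg.specializes mem_irreducibleComponent).map continuous_subtype_val⟩
  have h1 : (⟨z, hz⟩ : Z) ⤳ η := (subtype_specializes_iff _ _).2 hzη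
  have h2 : closure {(⟨z, hz⟩ : Z)} = C := by
    refine Set.Subset.antisymm ?_ ?_
    · exact eq_irreducibleComponent (isIrreducible_singleton.closure.isPreirreducible)
        (hg.def.symm.le.trans h1.closure_subset) ▸ le_rfl
    · exact hg.def.symm.le.trans h1.closure_subset
  have h3 : η ⤳ (⟨z, hz⟩ : Z) := hg.specializes (show (⟨z, hz⟩ : Z) ∈ C by rw [← h2]; exact subset_closure rfl)
  exact congrArg Subtype.val (h1.antisymm h3).eq

theorem maxSupp_subset_ass : maxSupp M ⊆ AssSch.Ass M := fun _ hη =>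
  Groth.SchemeMorphisms.mem_ass_iff_weak.2 (Groth.Divisors.weakAss_of_maximal_support hM.1 hη.1 hη.2)

theorem finite_maxSupp_inter {A : X.Opens} (hA : IsAffineOpen A) :
    (maxSupp M ∩ (A : Set X)).Finite :=
  (Groth.SchemeMorphisms.finite_ass_inter hM hA).subset
    (Set.inter_subset_inter_left _ (maxSupp_subset_ass hM))

theorem isCofiniteSub_bot {η : X} (hη : η ∈ maxSupp M) :
    IsCofiniteSub (⊥ : Submodule (X.presheaf.stalk η) (M.presheaf.stalk η)) := by
  have := hM.1
  intro a ha z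
  obtain ⟨W, hηW, s, rfl⟩ := Groth.QCohMod.exists_germ M η z
  obtain ⟨A, hA, hηA, hAW⟩ := exists_isAffineOpen_mem_and_subset hηW
  rw [← Groth.QCohMod.germ_res M hAW η hηA s]
  set t := res M hAW s
  set p := hA.primeIdealOf ⟨η, hηA⟩ with hp
  letI : Algebra Γ(X, A) (X.presheaf.stalk η) := X.presheaf.algebra_section_stalk ⟨η, hηA⟩
  have : IsLocalization.AtPrime (X.presheaf.stalk η) p.asIdeal := hA.isLocalization_stalk ⟨η, hηA⟩
  let J : Ideal Γ(X, A) := (⊥ : Submodule Γ(X, A) Γ(M, A)).colon {t}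
  have hrad : (J.map (algebraMap Γ(X, A) (X.presheaf.stalk η))).radical ≥
      IsLocalRing.maximalIdeal (X.presheaf.stalk η) := by
    rw [← IsLocalization.map_radical p.asIdeal.primeCompl,
      ← IsLocalization.AtPrime.map_eq_maximalIdeal p.asIdeal (X.presheaf.stalk η), ge_iff_le,
      Ideal.map_le_iff_le_comap]
    intro r hr
    by_contra hne
    have hno : ∀ c ∈ p.asIdeal.primeCompl, r * c ∉ J.radical := fun c hc hmem => hne
      (Ideal.mem_comap.2 ((IsLocalization.mem_map_algebraMap_iff p.asIdeal.primeCompl _).2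
        ⟨(⟨r * c, hmem⟩, ⟨c, hc⟩), (map_mul _ r c).symm⟩))
    let S : Submonoid Γ(X, A) := p.asIdeal.primeCompl ⊔ Submonoid.powers r
    have hdisj : Disjoint (J : Set Γ(X, A)) (S : Set Γ(X, A)) := by
      rw [Set.disjoint_right]
      intro x hx hxJ
      obtain ⟨c, hc, d, ⟨n, rfl⟩, rfl⟩ := Submonoid.mem_sup.1 hx
      refine hno c hc ⟨n + 1, ?_⟩
      rw [show (r * c) ^ (n + 1) = (r * c ^ n) * (c * r ^ n) by ring]
      exact J.mul_mem_left _ hxJ
    obtain ⟨q', hq', hJq, hqS⟩ := Ideal.exists_le_prime_disjoint J S hdisj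
    let q : Spec Γ(X, A) := ⟨q', hq'⟩
    have hqp : q.asIdeal ≤ p.asIdeal := by
      intro x hx
      by_contra hxp
      exact Set.disjoint_left.1 hqS hx (Submonoid.mem_sup_left hxp)
    have hrq : r ∉ q.asIdeal := fun h =>
      Set.disjoint_left.1 hqS h (Submonoid.mem_sup_right (Submonoid.mem_powers r))
    have hy : hA.fromSpec q ∈ A := Groth.SchemeMorphisms.fromSpec_mem hA q
    have hsp : hA.fromSpec q ⤳ η := by
      have := (Groth.FlatMorOne.primeIdealOf_le_iff_specializes hA ⟨hA.fromSpec q, hy⟩ ⟨η, hηA⟩).1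
      refine this ?_
      rw [Groth.SchemeMorphisms.primeIdealOf_fromSpec]
      exact hqp
    have hsupp : hA.fromSpec q ∈ CohB1.support M := by
      refine mem_support_of_germ_ne_zero hy (s := t) fun h0 => ?_
      obtain ⟨b, hb, hb0⟩ := Groth.QCohMod.exists_smul_eq_zero_of_germ_eq_zero M hA _ hy t h0
      have := (Groth.QCohMod.mem_basicOpen_iff_notMem_primeIdealOf hA b _ hy).mp hb
      rw [Groth.SchemeMorphisms.primeIdealOf_fromSpec] at this
      exact this (hJq (by simpa [J, Submodule.mem_colon_singleton] using hb0))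
    have := hη.2 _ hsupp hsp
    refine hrq ?_
    have e : hA.primeIdealOf ⟨hA.fromSpec q, hy⟩ = p := by
      rw [hp]; congr 1; exact Subtype.ext this
    rw [Groth.SchemeMorphisms.primeIdealOf_fromSpec] at e
    rw [e]; exact hr
  obtain ⟨n, hn⟩ := hrad ha
  refine ⟨n, ?_⟩
  rw [Submodule.mem_bot]
  suffices ∀ b ∈ J.map (algebraMap Γ(X, A) (X.presheaf.stalk η)),
      b • Groth.QCohMod.germ M η hηA t = 0 from this _ hn
  intro b hb
  induction hb using Submodule.span_induction with
  | mem c hc =>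
    obtain ⟨r, hr, rfl⟩ := hc
    refine (Groth.QCohMod.germ_smul M η hηA r t).symm.trans ?_
    rw [show r • t = 0 by simpa [J, Submodule.mem_colon_singleton] using hr, map_zero]
  | zero => rw [zero_smul]
  | add b c _ _ hb hc => rw [add_smul, hb, hc, add_zero]
  | smul c b _ hb => rw [smul_eq_mul, mul_smul, hb, smul_zero]

/-- Submodules of finite colength at a locally finite set of points cut out a coherent subsheaf. -/
theorem isCoh_stalkSub_locFinite {S : Set X}
    (hS : ∀ A : X.Opens, IsAffineOpen A → (S ∩ (A : Set X)).Finite)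
    {L : ∀ x : X, Submodule (X.presheaf.stalk x) (M.presheaf.stalk x)}
    (hL : ∀ x ∈ S, IsCofiniteSub (L x)) :
    Coh.IsCoh (stalkSub M S L).toMod := by
  classical
  have := hM.1
  refine SubMod.isQCoh_toMod fun x _ => ?_
  obtain ⟨A, hA, hxA, -⟩ := exists_isAffineOpen_mem_and_subset (x := x) (U := (⊤ : X.Opens)) trivial
  refine ⟨A, le_top, hxA, hA, ?_, fun f s hs => ?_⟩
  · have := Groth.SchemeMorphisms.isNoetherianRing_section hA
    have := Groth.QCohMod.finite_sections M hM.2 hA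
    exact IsNoetherian.noetherian _
  obtain ⟨n, t, ht⟩ := Groth.QCohMod.exists_pow_smul_eq_res M hA f s
  have key : ∀ y : X, ∃ k : ℕ, ∀ j, k ≤ j → y ∈ S → ∀ hy : y ∈ A,
      Groth.QCohMod.germ M y hy (f ^ j • t) ∈ L y := by
    intro y
    by_cases h : y ∈ S ∧ y ∈ A
    · obtain ⟨hyS, hy⟩ := h
      by_cases hyf : y ∈ X.basicOpen f
      · refine ⟨0, fun j _ _ _ => ?_⟩
        rw [Groth.QCohMod.germ_smul]
        refine Submodule.smul_mem _ _ ?_
        rw [← Groth.QCohMod.germ_res M (X.basicOpen_le f) y hyf, ht, Groth.QCohMod.germ_smul]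
        exact Submodule.smul_mem _ _ (hs y hyS hyf)
      · obtain ⟨k, hk⟩ := hL y hyS (X.presheaf.germ A y hy f)
          ((IsLocalRing.mem_maximalIdeal _).mpr fun hu => hyf ((Scheme.mem_basicOpen X f y hy).mpr hu))
          (Groth.QCohMod.germ M y hy t)
        refine ⟨k, fun j hj _ _ => ?_⟩
        rw [Groth.QCohMod.germ_smul, map_pow, ← Nat.sub_add_cancel hj, pow_add, mul_smul]
        exact Submodule.smul_mem _ _ hk
    · exact ⟨0, fun j _ hyS hy => absurd ⟨hyS, hy⟩ h⟩
  choose k hk using key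
  refine ⟨(hS A hA).toFinset.sup k + n, f ^ (hS A hA).toFinset.sup k • t, fun y hyS hy =>
    hk y _ (Finset.le_sup ((hS A hA).mem_toFinset.mpr ⟨hyS, hy⟩)) hyS hy, ?_⟩
  rw [Groth.QCohMod.res_smul, ht, map_pow, ← mul_smul, ← pow_add]

omit hM in
/-- The sheaf of sections vanishing at the maximal points of the support. -/
noncomputable abbrev kerMax (M : X.Modules) : SubMod M :=
  stalkSub M (maxSupp M) fun _ => ⊥

theorem isCoh_kerMax : Coh.IsCoh (kerMax M).toMod :=
  isCoh_stalkSub_locFinite hM (fun _ hA => finite_maxSupp_inter hM hA)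
    fun _ hη => isCofiniteSub_bot hM hη

omit hM in
theorem notMem_support_kerMax {η : X} (hη : η ∈ maxSupp M) :
    η ∉ CohB1.support (kerMax M).toMod := by
  intro h
  apply h
  have hinj := (Groth.QCohMod.mono_iff_stalk (kerMax M).ι).1 inferInstance η
  refine ⟨fun a b => hinj ?_⟩
  suffices H : ∀ c, (Groth.QCohMod.stalk η).map (kerMax M).ι c = (0 : M.presheaf.stalk η) from (H a).trans (H b).symm
  intro c
  obtain ⟨W, hW, s, rfl⟩ := Groth.QCohMod.exists_germ (kerMax M).toMod η c
  refine (TopCat.Presheaf.stalkFunctor_map_germ_apply W η hW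
    ((Scheme.Modules.toPresheaf X).map (kerMax M).ι) s).trans ?_
  have h0 : Groth.QCohMod.germ M η hW ((kerMax M).ι.app W s) = 0 :=
    (Submodule.mem_bot _).1 ((kerMax M).ι_app_mem s η hη hW)
  exact h0

theorem exists_open_nhd {η : X} (hη : η ∈ maxSupp M) :
    ∃ U : X.Opens, η ∈ U ∧ (U : Set X) ∩ CohB1.support M ⊆ closure {η} := by
  obtain ⟨A, hA, hηA, -⟩ := exists_isAffineOpen_mem_and_subset (x := η) (U := (⊤ : X.Opens)) trivial
  let T := (maxSupp M ∩ (A : Set X)) \ {η}
  have hT : T.Finite := (finite_maxSupp_inter hM hA).sdiff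
  let C : Set X := ⋃ z ∈ T, closure {z}
  have hC : IsClosed C := hT.isClosed_biUnion fun _ _ => isClosed_closure
  refine ⟨A ⊓ ⟨Cᶜ, hC.isOpen_compl⟩, ⟨hηA, fun h => ?_⟩, ?_⟩
  · obtain ⟨z, ⟨⟨hz, -⟩, hne⟩, hzη⟩ := Set.mem_iUnion₂.1 h
    exact hne (hη.2 z hz.1 (specializes_iff_mem_closure.2 hzη))
  · rintro y ⟨⟨hyA, hyC⟩, hy⟩
    obtain ⟨z, hz, hzy⟩ := exists_maxSupp_specializes hM hy
    by_cases hzη : z = η
    · exact hzη ▸ hzy.mem_closure
    · exact absurd (Set.mem_biUnion (show z ∈ T from ⟨⟨hz, hzy.mem_open A.isOpen hyA⟩, hzη⟩)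
        hzy.mem_closure) hyC

omit [IsLocallyNoetherian X] hM in
theorem exists_factor {N : X.Modules} (f : N ⟶ M) (P : SubMod M)
    (h : ∀ (W : X.Opens) (s : Γ(N, W)), f.app W s ∈ P.mem W) : ∃ g : N ⟶ P.toMod, g ≫ P.ι = f := by
  refine ⟨⟨PresheafOfModules.homMk
    { app := fun W => AddCommGrpCat.ofHom
        (AddMonoidHom.mk' (fun s : Γ(N, W.unop) => (⟨f.app W.unop s, h W.unop s⟩ : P.mem W.unop))
          fun a b => Subtype.ext ((f.app W.unop).hom.map_add a b))
      naturality := fun W V i => ?_ }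
    (fun W r (s : Γ(N, W.unop)) => Subtype.ext (Scheme.Modules.Hom.app_smul f r s))⟩, ?_⟩
  · ext s
    exact Subtype.ext (congr($(f.mapPresheaf.naturality i) s))
  · ext W s
    rfl

theorem ass_subset_maxSupp {x : X} (hx : Curv2.IsAssPoint (cokernel (kerMax M).ι) x) :
    x ∈ maxSupp M := by
  have := hM.1
  have hK := isCoh_kerMax hM
  have := hK.1
  have hG := (Groth.QCohMod.isCoh_cokernel (kerMax M).ι hM).1
  have := hG
  obtain ⟨A, hA, hxA, -⟩ := exists_isAffineOpen_mem_and_subset (x := x) (U := (⊤ : X.Opens)) trivial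
  have := Groth.SchemeMorphisms.isNoetherianRing_section hA
  obtain ⟨hp, g, hg⟩ := isAssociatedPrime_iff.mp ((Groth.SchemeMorphisms.mem_ass_iff hG hA hxA).mp hx)
  have hmem : ∀ r : Γ(X, A), r ∈ (hA.primeIdealOf ⟨x, hxA⟩).asIdeal ↔ r • g = 0 := fun r => by
    rw [hg, Submodule.mem_colon_singleton, Submodule.mem_bot]
  obtain ⟨t, rfl⟩ := Groth.QCohMod.app_surjective_of_epi (cokernel.π (kerMax M).ι) hA g
  have hker : ∀ u : Γ(M, A), (cokernel.π (kerMax M).ι).app A u = 0 ↔ u ∈ (kerMax M).mem A := by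
    intro u
    constructor
    · intro h
      obtain ⟨v, hv⟩ := Groth.QCohMod.exists_app_eq_of_exact
        (S := ShortComplex.mk _ _ (cokernel.condition (kerMax M).ι))
        (ShortComplex.exact_of_g_is_cokernel _ (cokernelIsCokernel _)) hA u h
      exact hv ▸ (kerMax M).ι_app_mem v
    · intro h
      obtain ⟨v, hv⟩ := (kerMax M).exists_ι_app_eq u h
      rw [← hv]
      exact congr($(congrArg (fun φ => Scheme.Modules.Hom.app φ A) (cokernel.condition _)) v)
  have hne : t ∉ (kerMax M).mem A := fun h =>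
    hp.ne_top ((Ideal.eq_top_iff_one _).mpr ((hmem 1).mpr (by rw [one_smul, (hker t).2 h])))
  obtain ⟨η, hη, hηA, hηt⟩ : ∃ η, η ∈ maxSupp M ∧ ∃ hηA : η ∈ A, Groth.QCohMod.germ M η hηA t ≠ 0 := by
    by_contra hno
    simp only [not_exists, not_and, not_not] at hno
    exact hne fun η hη hηA => (Submodule.mem_bot _).2 (hno η hη hηA)
  have hle : (hA.primeIdealOf ⟨x, hxA⟩).asIdeal ≤ (hA.primeIdealOf ⟨η, hηA⟩).asIdeal := by
    intro r hr
    by_contra hne'
    have h1 := (hmem r).1 hr
    rw [← Scheme.Modules.Hom.app_smul, hker] at h1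
    have h2 : Groth.QCohMod.germ M η hηA (r • t) = 0 := (Submodule.mem_bot _).1 (h1 η hη hηA)
    rw [Groth.QCohMod.germ_smul] at h2
    obtain ⟨v, hv⟩ := (Scheme.mem_basicOpen X r η hηA).mp
      ((Groth.QCohMod.mem_basicOpen_iff_notMem_primeIdealOf hA r η hηA).mpr hne')
    rw [← hv] at h2
    have h3 := congrArg (fun z => (↑v⁻¹ : X.presheaf.stalk η) • z) h2
    simp only [← mul_smul, Units.inv_mul, one_smul, smul_zero] at h3
    exact hηt h3
  have hsp : x ⤳ η :=
    (Groth.FlatMorOne.primeIdealOf_le_iff_specializes hA ⟨x, hxA⟩ ⟨η, hηA⟩).1 hle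
  have hxs : x ∈ CohB1.support M := by
    intro hsub
    refine Groth.SchemeMorphisms.ass_subset_support hx ?_
    exact @Function.Surjective.subsingleton _ _ _ hsub
      ((Groth.QCohMod.epi_iff_stalk (cokernel.π (kerMax M).ι)).1 inferInstance x)
  exact (hη.2 x hxs hsp) ▸ hη

theorem support_cokernel_kerMax : CohB1.support (cokernel (kerMax M).ι) = CohB1.support M := by
  have := hM.1
  have hK := isCoh_kerMax hM
  have := hK.1
  have hG := Groth.QCohMod.isCoh_cokernel (kerMax M).ι hM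
  refine Set.Subset.antisymm (fun x hx hsub => hx (@Function.Surjective.subsingleton _ _ _ hsub
    ((Groth.QCohMod.epi_iff_stalk (cokernel.π (kerMax M).ι)).1 inferInstance x))) fun y hy => ?_
  obtain ⟨η, hη, hsp⟩ := exists_maxSupp_specializes hM hy
  refine hsp.mem_closed (Groth.CohTwo.isClosed_support _ hG) fun hsub => ?_
  obtain ⟨W, hηW, s, hs⟩ := exists_germ_ne_zero hη.1
  obtain ⟨A, hA, hηA, hAW⟩ := exists_isAffineOpen_mem_and_subset hηW
  have h0 : Groth.QCohMod.germ (cokernel (kerMax M).ι) η hηA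
      ((cokernel.π (kerMax M).ι).app A (res M hAW s)) = 0 := @Subsingleton.elim _ hsub _ _
  have := hG.1
  obtain ⟨a, ha, ha0⟩ := Groth.QCohMod.exists_smul_eq_zero_of_germ_eq_zero _ hA η hηA _ h0
  rw [← Scheme.Modules.Hom.app_smul] at ha0
  obtain ⟨v, hv⟩ := Groth.QCohMod.exists_app_eq_of_exact
    (S := ShortComplex.mk _ _ (cokernel.condition (kerMax M).ι))
    (ShortComplex.exact_of_g_is_cokernel _ (cokernelIsCokernel _)) hA _ ha0
  have h1 : Groth.QCohMod.germ M η hηA (a • res M hAW s) = 0 :=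
    (Submodule.mem_bot _).1 (hv ▸ (kerMax M).ι_app_mem v η hη hηA)
  rw [Groth.QCohMod.germ_smul, Groth.QCohMod.germ_res] at h1
  obtain ⟨u, hu⟩ := (Scheme.mem_basicOpen X a η hηA).mp ha
  rw [← hu] at h1
  have h3 := congrArg (fun z => (↑u⁻¹ : X.presheaf.stalk η) • z) h1
  simp only [← mul_smul, Units.inv_mul, one_smul, smul_zero] at h3
  exact hs h3

theorem isIso_restrict_π (U : X.Opens) (hU : Disjoint (U : Set X) (CohB1.support (kerMax M).toMod)) :
    IsIso ((Scheme.Modules.restrictFunctor U.ι).map (cokernel.π (kerMax M).ι)) := by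
  have := hM.1
  have hK := isCoh_kerMax hM
  have := hK.1
  have := (Groth.QCohMod.isCoh_cokernel (kerMax M).ι hM).1
  refine Groth.QCohMod.isIso_of_affine_bijective _ fun V hV => ?_
  have hA : IsAffineOpen (U.ι ''ᵁ V) := hV.image_of_isOpenImmersion U.ι
  change Function.Bijective ((cokernel.π (kerMax M).ι).app (U.ι ''ᵁ V))
  refine ⟨fun s s' h => ?_, Groth.QCohMod.app_surjective_of_epi _ hA⟩
  obtain ⟨v, hv⟩ := Groth.QCohMod.exists_app_eq_of_exact
    (S := ShortComplex.mk _ _ (cokernel.condition (kerMax M).ι))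
    (ShortComplex.exact_of_g_is_cokernel _ (cokernelIsCokernel _)) hA (s - s')
    (by rw [map_sub]; exact sub_eq_zero.2 h)
  have hv0 : v = 0 := by
    refine TopCat.Presheaf.section_ext ⟨(kerMax M).toMod.presheaf, (kerMax M).toMod.isSheaf⟩ _ _ _
      fun y hy => ?_
    have : Subsingleton ((kerMax M).toMod.presheaf.stalk y) := by
      by_contra hne
      exact Set.disjoint_left.1 hU (U.ι_image_le V hy) hne
    exact @Subsingleton.elim _ this _ _
  rw [hv0, map_zero] at hv
  exact sub_eq_zero.1 hv.symm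

end Groth.RefRank.Embedded
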