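import Groth.Agent.PicAux.MeroExtend
import Groth.Agent.PicAux.MeroRegular
import Groth.Agent.Divisors.AssocMore

/-!
# Existence of regular meromorphic sections
-/

set_option autoImplicit false
universe u

open CategoryTheory AlgebraicGeometry Opposite TopologicalSpace Groth.PicAux

namespace Groth.RefRank.MeroExist

variable {X : Scheme.{u}}

theorem finite_components_meeting (W : X.Opens) (hW : (irreducibleComponents ↥(W : Scheme.{u})).Finite) :
    {Z : Set X | Z ∈ irreducibleComponents X ∧ (Z ∩ (W : Set X)).Nonempty}.Finite := by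
  refine Set.Finite.of_finite_image (f := fun Z => (Subtype.val : W → X) ⁻¹' Z) ?_ ?_
  · refine hW.subset ?_
    rintro _ ⟨Z, ⟨hZ, hne⟩, rfl⟩
    exact preimage_mem_irreducibleComponents hZ W.2.isOpenEmbedding_subtypeVal
      (by obtain ⟨a, ha, haW⟩ := hne; exact ⟨a, ha, ⟨a, haW⟩, rfl⟩)
  · rintro Z ⟨hZ, hne⟩ Z' ⟨hZ', hne'⟩ (he : (Subtype.val : W → X) ⁻¹' Z = Subtype.val ⁻¹' Z')
    have key : ∀ A ∈ irreducibleComponents X, (A ∩ (W : Set X)).Nonempty → A = closure (A ∩ W) :=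
      fun A hA hAne => le_antisymm
        (subset_closure_inter_of_isPreirreducible_of_isOpen hA.1.2 W.2 hAne)
        (closure_minimal Set.inter_subset_left (isClosed_of_mem_irreducibleComponents A hA))
    rw [key Z hZ hne, key Z' hZ' hne']
    congr 1
    ext y
    constructor
    · rintro ⟨hy, hyW⟩; exact ⟨(Set.ext_iff.1 he ⟨y, hyW⟩).1 hy, hyW⟩
    · rintro ⟨hy, hyW⟩; exact ⟨(Set.ext_iff.1 he ⟨y, hyW⟩).2 hy, hyW⟩

theorem locFiniteComponents_of_finite
    (h : ∀ U : X.Opens, IsCompact (U : Set ↥X) → (irreducibleComponents ↥(U : Scheme.{u})).Finite) :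
    LocFiniteComponents X := by
  intro x
  obtain ⟨_, ⟨W, hW, rfl⟩, hxW, -⟩ :=
    X.isBasis_affineOpens.exists_subset_of_mem_open (Set.mem_univ x) isOpen_univ
  have hW' : IsAffineOpen W := hW
  exact ⟨W, hxW, finite_components_meeting W (h W hW'.isCompact)⟩

theorem locFiniteComponents_of_isLocallyNoetherian [IsLocallyNoetherian X] : LocFiniteComponents X :=
  locFiniteComponents_of_finite fun U hU => by
    haveI : CompactSpace (U : Scheme.{u}) := isCompact_iff_compactSpace.mp hU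
    haveI : IsNoetherian (U : Scheme.{u}) := {}
    exact NoetherianSpace.finite_irreducibleComponents

/-- Case where the weakly associated points are maximal and locally finite. -/
theorem exists_divisor_of_weakAss_maximal (hX : LocFiniteComponents X)
    (hb : ∀ U V : X.Opens, SchemDense U V → HasDenominators U V)
    (hmax : ∀ x : X, Curv2.IsWeakAssPoint (Coh.structureModule X) x → ∀ y : X, y ⤳ x → y = x)
    {L : X.Modules} (hL : PicF.IsInvertible L) : ∃ D : Mero.Divisor X, Nonempty (L ≅ Mero.divMod D) := by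
  let P := {ξ : X // ∀ y : X, y ⤳ ξ → y = ξ}
  have key : ∀ ξ : P, ∃ (V : X.Opens) (e : Γ(L, V)), ξ.1 ∈ V ∧ Gen L V e ∧
      ∀ η : P, η ≠ ξ → η.1 ∉ V := by
    intro ξ
    obtain ⟨W₀, hW₀, hfin⟩ := hX ξ.1
    obtain ⟨U, e, hU, he⟩ := (isInvertible_iff_exists_gen _).1 hL ξ.1
    let S := {Z : Set X | Z ∈ irreducibleComponents X ∧ (Z ∩ (W₀ : Set X)).Nonempty} \
      {closure {ξ.1}}
    have hcl : IsClosed (⋃ Z ∈ S, Z) := Set.Finite.isClosed_biUnion (hfin.subset Set.sdiff_subset)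
      fun Z hZ => isClosed_of_mem_irreducibleComponents Z hZ.1.1
    let V : X.Opens := U ⊓ W₀ ⊓ ⟨(⋃ Z ∈ S, Z)ᶜ, hcl.isOpen_compl⟩
    refine ⟨V, res L (inf_le_left.trans inf_le_left) e, ⟨⟨hU, hW₀⟩, ?_⟩, he.res _, fun η hη hηV => ?_⟩
    · intro hmem
      obtain ⟨Z, hZ, hξZ⟩ := Set.mem_iUnion₂.1 hmem
      obtain ⟨ζ, hζ⟩ := QuasiSober.sober hZ.1.1.1
        (isClosed_of_mem_irreducibleComponents Z hZ.1.1)
      have h1 := ξ.2 ζ (hζ.specializes hξZ)
      exact hZ.2 (by rw [Set.mem_singleton_iff, ← h1]; exact hζ.def.symm)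
    · refine hηV.2 (Set.mem_iUnion₂.2 ⟨closure {η.1}, ⟨⟨?_, η.1, subset_closure rfl, hηV.1.2⟩, ?_⟩,
        subset_closure rfl⟩)
      · exact (PropsBasic2.closure_mem_irreducibleComponents_iff _).2 η.2
      · exact fun h => hη (Subtype.ext (inseparable_iff_closure_eq.2 h).eq)
  choose V e hV he hdis using key
  have hdisj : ∀ i j, i ≠ j → V i ⊓ V j = ⊥ := by
    intro i j hij
    refine eq_bot_iff.2 fun z hz => ?_
    obtain ⟨ζ, hζ, hζmax⟩ := exists_maximal_generization z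
    by_cases h : (⟨ζ, hζmax⟩ : P) = i
    · exact (hdis j ⟨ζ, hζmax⟩ (h ▸ hij) (hζ.mem_open (V j).2 hz.2)).elim
    · exact (hdis i ⟨ζ, hζmax⟩ h (hζ.mem_open (V i).2 hz.1)).elim
  obtain ⟨e₀, he₀, -⟩ := res_glue V (fun i => le_iSup V i) le_rfl e fun i j => by
    by_cases h : i = j
    · subst h; rfl
    · refine res_ext (fun k : PEmpty.{u + 1} => k.elim) (fun k => k.elim) ?_ fun k => k.elim
      rw [hdisj i j h]; exact bot_le
  exact exists_divisor_of_gen_dense hL hb
    (Gen.of_cover V (fun i => le_iSup V i) le_rfl fun i => by rw [he₀]; exact he i)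
    (schemDense_top_of_weakAss fun x hx =>
      Opens.mem_iSup.2 ⟨⟨x, hmax x hx⟩, hV _⟩)
where
  exists_maximal_generization {X : Scheme.{u}} (z : X) : ∃ ζ : X, ζ ⤳ z ∧ ∀ y : X, y ⤳ ζ → y = ζ := by
    obtain ⟨Z, hZ, hzZ⟩ : ∃ Z ∈ irreducibleComponents X, z ∈ Z :=
      ⟨irreducibleComponent z, irreducibleComponent_mem_irreducibleComponents z,
        mem_irreducibleComponent⟩
    obtain ⟨ζ, hζ⟩ := QuasiSober.sober hZ.1
      (isClosed_of_mem_irreducibleComponents Z hZ)
    refine ⟨ζ, hζ.specializes hzZ, (PropsBasic2.closure_mem_irreducibleComponents_iff ζ).1 ?_⟩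
    rwa [hζ.def]


theorem weakAss_maximal_of_noEmbedded
    (hne : ∀ x : ↥X, Curv2.IsAssPoint (Coh.structureModule X) x →
      ∀ y : ↥X, Curv2.IsAssPoint (Coh.structureModule X) y → y ⤳ x → y = x)
    (x : X) (hx : Curv2.IsWeakAssPoint (Coh.structureModule X) x) (y : X) (hy : y ⤳ x) : y = x := by
  obtain ⟨ζ, hζ, hζmax⟩ := exists_divisor_of_weakAss_maximal.exists_maximal_generization y
  have hζx := hne x (Divisors.isAssPoint_iff_weak.2 hx) ζ
    (Divisors.isAssPoint_iff_weak.2 (Divisors.weakAss_structure_of_maximal hζmax)) (hζ.trans hy)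
  exact (hy.antisymm (hζx ▸ hζ)).eq

end Groth.RefRank.MeroExist
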