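/-
Reflexive modules of rank one on factorial schemes are invertible.
-/
import Groth.Agent.RefRank.Rank1
import Groth.Agent.S2821

universe u

open CategoryTheory CategoryTheory.Limits AlgebraicGeometry TopologicalSpace Opposite

namespace Groth.RefRank

open Groth.QCohMod

/-- Over a factorial Noetherian domain a reflexive module embedded in the ring is free. -/
theorem exists_basis_of_isReflexive_ufd {A : Type*} [CommRing A] [IsDomain A] [IsNoetherianRing A]
    [UniqueFactorizationMonoid A] {M : Type*} [AddCommGroup M] [Module A M] [Module.IsReflexive A M]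
    [Nontrivial M] (f : M →ₗ[A] A) (hf : Function.Injective f) :
    ∃ m : M, Function.Bijective fun a : A => a • m := by
  classical
  obtain ⟨m₀, hm₀⟩ := exists_ne (0 : M)
  have ha : f m₀ ≠ 0 := fun e => hm₀ (hf (e.trans (map_zero f).symm))
  obtain ⟨c, ⟨g, hgc, hg⟩, hmin⟩ :=
    (wellFounded_dvdNotUnit (α := A)).has_min {c | ∃ g, g * c = f m₀ ∧ ∀ m, g ∣ f m}
      ⟨f m₀, 1, one_mul _, fun m => one_dvd _⟩
  have hg0 : g ≠ 0 := fun e => ha (by rw [← hgc, e, zero_mul])
  have hc0 : c ≠ 0 := fun e => ha (by rw [← hgc, e, mul_zero])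
  choose f' hf' using hg
  have hlin : ∀ m n (a : A), f' (a • m + n) = a * f' m + f' n := fun m n a => mul_left_cancel₀ hg0 (by
    rw [← hf', map_add, map_smul, smul_eq_mul, hf', hf', mul_add, mul_left_comm])
  have hinj : Function.Injective f' := fun m n h => hf (by rw [hf', hf', h])
  have hsmul : ∀ (a : A) m, f' (a • m) = a * f' m := fun a m => mul_left_cancel₀ hg0 (by
    rw [← hf', map_smul, smul_eq_mul, hf', mul_left_comm])
  have hc : f' m₀ = c := mul_left_cancel₀ hg0 (by rw [← hf', hgc])
  obtain ⟨e, he⟩ := exists_smul_eq_of_isReflexive hc0 m₀ fun q hq hq1 => by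
    have hq0 : q ≠ ⊥ := fun h => by simp [h] at hq1
    obtain ⟨p, hpq, hp⟩ := UniqueFactorizationMonoid.iff_exists_prime_mem_of_isPrime.mp inferInstance q hq0 hq
    have : (Ideal.span {p}).IsPrime := (Ideal.span_singleton_prime hp.ne_zero).mpr hp
    have hqp : Ideal.span {p} = q := by
      refine (eq_or_lt_of_le ((Ideal.span_singleton_le_iff_mem q).mpr hpq)).resolve_right fun hlt => ?_
      have h1 := Ideal.height_strict_mono_of_isPrime_of_isPrime hlt
      rw [hq1, ENat.lt_one_iff_eq_zero, Ideal.height_eq_zero_iff,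
        IsDomain.minimalPrimes_eq_singleton_bot, Set.mem_singleton_iff, Ideal.span_singleton_eq_bot] at h1
      exact hp.ne_zero h1
    by_contra hcon
    push Not at hcon
    have hall : ∀ m, p ∣ f' m := fun m => by
      by_contra hm
      refine hcon (f' m) (fun h => hm (Ideal.mem_span_singleton.mp (hqp.ge h))) m (hinj ?_)
      rw [hsmul, hsmul, hc, mul_comm]
    obtain ⟨c', hc'⟩ : p ∣ c := hc ▸ hall m₀
    refine hmin c' ⟨g * p, by rw [← hgc, hc', mul_assoc], fun m => ?_⟩ ⟨fun h => hc0 ?_, p, hp.not_unit, ?_⟩
    · rw [hf']; exact mul_dvd_mul_left g (hall m)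
    · rw [hc', h, mul_zero]
    · rw [hc', mul_comm]
  have he1 : f' e = 1 := by
    have h1 := congrArg f' he
    rw [hsmul, hc] at h1
    exact mul_left_cancel₀ hc0 (h1.trans (mul_one c).symm)
  refine ⟨e, fun a b hab => ?_, fun m => ⟨f' m, hinj ?_⟩⟩
  · have := congrArg f' hab
    dsimp only at this
    rwa [hsmul, hsmul, he1, mul_one, mul_one] at this
  · rw [hsmul, he1, mul_one]

variable {X : Scheme.{u}} [IsIntegral X] [IsLocallyNoetherian X]

/-- A reflexive module of rank one has a basis at factorial local rings. -/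
theorem exists_isStalkBasis_of_ufd {F : X.Modules} (hF : Coh.IsCoh F) (hr : RefHull.IsReflexive F)
    (h1 : IsRankOne F) (x : X) [UniqueFactorizationMonoid (X.presheaf.stalk x)] :
    ∃ t, IsStalkBasis F x t := by
  classical
  have := hF.1
  obtain ⟨w, hw⟩ := h1
  have := finite_stalkModule hF x
  have : Module.IsReflexive (X.presheaf.stalk x) (F.presheaf.stalk x) :=
    (isReflexive_iff_forall hF).mp hr x
  have hw0 : w ≠ 0 := fun e => one_ne_zero (hw.1 (a₁ := 1) (a₂ := 0)
    (by dsimp only; rw [e, smul_zero, smul_zero]))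
  have : Nontrivial (F.presheaf.stalk x) := by
    obtain ⟨a, v, ha, hv⟩ := exists_smul_eq_mspec F (genSpec x) w
    refine ⟨v, 0, fun e => hw0 ?_⟩
    rw [e, map_zero] at hv
    exact ha.smul_eq_zero.mp hv
  -- coordinates in the generic stalk, cleared of denominators
  let K := X.functionField
  obtain ⟨coord, hcoord⟩ : ∃ coord : F.presheaf.stalk x → K,
      ∀ v, (show X.presheaf.stalk (genericPoint ↥X) from coord v) • w = mspec F (genSpec x) v :=
    ⟨fun v => (hw.2 (mspec F (genSpec x) v)).choose, fun v => (hw.2 (mspec F (genSpec x) v)).choose_spec⟩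
  let cl : F.presheaf.stalk x →ₗ[X.presheaf.stalk x] K :=
    { toFun := coord
      map_add' := fun u v => hw.1 (by
        dsimp only
        refine (hcoord (u + v)).trans ?_
        rw [map_add, ← hcoord u, ← hcoord v]
        exact (add_smul _ _ _).symm)
      map_smul' := fun a v => hw.1 (by
        dsimp only
        refine (hcoord (a • v)).trans ?_
        rw [mspec_smul, ← hcoord v, RingHom.id_apply, smul_smul]
        rfl) }
  obtain ⟨T, hT⟩ := (inferInstance : Module.Finite (X.presheaf.stalk x) (F.presheaf.stalk x)).fg_top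
  obtain ⟨b, hb⟩ := IsLocalization.exist_integer_multiples_of_finset
    (nonZeroDivisors (X.presheaf.stalk x)) (T.image cl)
  have hint : ∀ v, ∃ a : X.presheaf.stalk x, algebraMap _ K a = (b : X.presheaf.stalk x) • cl v := fun v => by
    have hv : v ∈ Submodule.span (X.presheaf.stalk x) (T : Set (F.presheaf.stalk x)) := hT ▸ trivial
    induction hv using Submodule.span_induction with
    | mem v hv => exact hb (cl v) (Finset.mem_image_of_mem _ hv)
    | zero => exact ⟨0, by rw [map_zero, map_zero, smul_zero]⟩
    | add u v _ _ hu hv =>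
      obtain ⟨a, ha⟩ := hu
      obtain ⟨a', ha'⟩ := hv
      exact ⟨a + a', by rw [map_add, map_add, smul_add, ha, ha']⟩
    | smul r v _ hv =>
      obtain ⟨a, ha⟩ := hv
      exact ⟨r * a, by rw [map_mul, map_smul, ha, smul_comm, Algebra.smul_def r]⟩
  choose f hfspec using hint
  have hinjK : Function.Injective (algebraMap (X.presheaf.stalk x) K) := IsFractionRing.injective _ _
  let fl : F.presheaf.stalk x →ₗ[X.presheaf.stalk x] X.presheaf.stalk x :=
    { toFun := f
      map_add' := fun u v => hinjK (by rw [hfspec, map_add, map_add, hfspec, hfspec, smul_add])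
      map_smul' := fun r v => hinjK (by
        rw [hfspec, RingHom.id_apply, smul_eq_mul, map_mul, map_smul, hfspec, smul_comm, Algebra.smul_def r]) }
  refine exists_basis_of_isReflexive_ufd fl fun u v huv => mspec_gen_injective hF hr x ?_
  have h := congrArg (algebraMap (X.presheaf.stalk x) K) huv
  change algebraMap _ K (f u) = algebraMap _ K (f v) at h
  rw [hfspec, hfspec] at h
  have hb0 : (algebraMap (X.presheaf.stalk x) K b) ≠ 0 :=
    (map_ne_zero_iff _ hinjK).mpr (nonZeroDivisors.coe_ne_zero b)
  rw [Algebra.smul_def, Algebra.smul_def] at h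
  have h' : coord u = coord v := mul_left_cancel₀ hb0 h
  rw [← hcoord u, ← hcoord v, h']

/-- A reflexive module of rank one on a regular scheme is invertible. -/
theorem isInvertible_of_isReflexive_of_regular (hreg : ∀ x : X, IsRegularLocalRing (X.presheaf.stalk x))
    {F : X.Modules} (hF : Coh.IsCoh F) (hr : RefHull.IsReflexive F) (h1 : IsRankOne F) :
    PicF.IsInvertible F := by
  refine (PicAux.isInvertible_iff_exists_gen F).2 fun x => ?_
  have := hreg x
  have := (Groth.Agent.S2821.result (X.presheaf.stalk x)).2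
  obtain ⟨t, ht⟩ := exists_isStalkBasis_of_ufd hF hr h1 x
  exact exists_gen_of_isStalkBasis hF ht

end Groth.RefRank
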