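import Groth.Agent.RefRank.DetDiv
import Groth.Agent.RefRank.CartierTwist
import Groth.Agent.RefRank.RegularRef
import Groth.Agent.RefRank.Normality
import Groth.Agent.RefRank.BigOpen
import Groth.Agent.LocFree.ExtPow
import Groth.Agent.KTheory.LocFree
import Groth.Prelude.Def_RefHull

/-!
# Determinants of elementary modifications
-/

set_option autoImplicit false
universe u

open CategoryTheory CategoryTheory.Limits AlgebraicGeometry TopologicalSpace Groth.QCohMod
open Groth.LocFree (extPow)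

namespace Groth.RefRank.DetTwist

variable {X : Scheme.{u}} [IsIntegral X] [IsLocallyNoetherian X]

omit [IsIntegral X] [IsLocallyNoetherian X] in
theorem stalkMapₗ_comp' {A B C : X.Modules} (f : A ⟶ B) (g : B ⟶ C) (x : X)
    (v : A.presheaf.stalk x) :
    RefHull.stalkMapₗ (f ≫ g) x v = RefHull.stalkMapₗ g x (RefHull.stalkMapₗ f x v) := by
  obtain ⟨U, hU, m, rfl⟩ := exists_germ A _ v
  erw [RefHull.stalkMapₗ_germ, RefHull.stalkMapₗ_germ, RefHull.stalkMapₗ_germ]
  rfl

theorem finrank_generic {F : X.Modules} {r : ℕ} {U : X.Opens} (hU : (U : Set X).Nonempty)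
    (h : FlatMod.IsFinLocFreeOfRank r (F.restrict U.ι)) :
    Module.finrank (X.presheaf.stalk (genericPoint ↥X)) (F.presheaf.stalk (genericPoint ↥X)) = r := by
  have hη : genericPoint ↥X ∈ U :=
    ((genericPoint_spec ↥X).mem_open_set_iff U.2).mpr (by simpa using hU)
  let y : (U : Scheme.{u}) := ⟨genericPoint ↥X, hη⟩
  let σ : (U : Scheme.{u}).presheaf.stalk y ≃+* X.presheaf.stalk (U.ι y) :=
    (asIso (U.ι.stalkMap y)).commRingCatIsoToRingEquiv.symm
  rw [← LocFree.finrank_stalk h y]
  exact (congrArg Cardinal.toNat (rank_eq_of_equiv_equiv σ (SchemeMorphisms.restrictStalkEquiv U.ι F y)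
    σ.bijective fun a m => SchemeMorphisms.restrictStalkEquiv_smul U.ι F y a m)).symm

theorem isCoh_extPow' {F : X.Modules} (hF : Coh.IsCoh F) (i : ℕ) : Coh.IsCoh (extPow i F) := by
  have := hF.1
  have := LocFree.isQCoh_extPow i F
  refine (QCohMod.isCoh_iff _).2 ⟨inferInstance, fun U hU => ?_⟩
  have := QCohMod.finite_sections F hF.2 hU
  exact Module.Finite.of_surjective (LocFree.extUnit i F U) (LocFree.extUnit_bijective i F hU).2

/-- An exterior power of top degree, mapped to its reflexive hull. -/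
theorem exists_det_map (hreg : ∀ x : X, IsRegularLocalRing (X.presheaf.stalk x)) {F L : X.Modules}
    (hF : Coh.IsCoh F) {r : ℕ}
    (hr : Module.finrank (X.presheaf.stalk (genericPoint ↥X)) (F.presheaf.stalk (genericPoint ↥X)) = r)
    (hL : ExtPow.IsExtPow r F L) :
    RefHull.IsRef1 (RefHull.ddual L) ∧ PicF.IsInvertible (RefHull.ddual L) ∧
      ∃ φ : extPow r F ⟶ RefHull.ddual L,
        Function.Surjective (RefHull.stalkMapₗ φ (genericPoint ↥X)) ∧
        ∀ y, ringKrullDim (X.presheaf.stalk y) = 1 → Function.Surjective (RefHull.stalkMapₗ φ y) := by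
  have := hF.1
  obtain ⟨ε⟩ := LocFree.nonempty_iso_extPow hL
  have hE := isCoh_extPow' hF r
  have hLc : Coh.IsCoh L := QCohMod.isCoh_of_iso ε hE
  letI : Field (X.presheaf.stalk (genericPoint ↥X)) := inferInstanceAs (Field X.functionField)
  obtain ⟨U, m, b, hxU, hb⟩ := KTheory.LocFree.exists_basis_of_free_stalk hF (genericPoint ↥X)
  obtain rfl : m = r := (LocFree.finrank_stalk_of_basis hb hxU).symm.trans hr
  obtain ⟨_, ⟨V, hV, rfl⟩, hxV, hVU⟩ := X.isBasis_affineOpens.exists_subset_of_mem_open hxU U.2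
  obtain ⟨w, hw⟩ := LocFree.exists_basis'_extPow hV (hb.res' hVU) m
  have := hE.1
  obtain ⟨bb⟩ := LocFree.nonempty_stalk_basis hw hxV
  let j : Fin (m.choose m) := ⟨0, by rw [Nat.choose_self]; exact one_pos⟩
  have hu : ∀ i, i = j := fun i => Fin.ext (by have := i.2; simp only [Nat.choose_self] at this; simp [j]; omega)
  obtain ⟨t, ht⟩ : ∃ t, IsStalkBasis (extPow m F) (genericPoint ↥X) t := by
    refine ⟨bb j, fun p q hpq => ?_, fun v => ⟨bb.repr v j, ?_⟩⟩
    · simpa using congrArg (fun v => bb.repr v j) hpq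
    · refine bb.repr.injective (Finsupp.ext fun i => ?_)
      rw [hu i]
      simp
  have h1 : IsRankOne L := ⟨_, isStalkBasis_map ε ht⟩
  have hR : RefHull.IsRef1 (RefHull.ddual L) :=
    isRef1_of (isCoh_ddual hLc) (isReflexive_ddual hLc) (isRankOne_ddual hLc h1)
  refine ⟨hR, isInvertible_of_isReflexive_of_regular hreg hR.1 hR.2.1
    (isRankOne_of_genInvertible hR.2.2), ε.hom ≫ RefHull.bidualMap L, fun v => ?_, fun y hy v => ?_⟩
  all_goals
    have hε := fun x => ((isIso_iff_bijective_stalk ε.hom).mp inferInstance x).2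
  · obtain ⟨v', rfl⟩ := (bidual_gen_bijective hLc).2 v
    obtain ⟨v'', rfl⟩ := hε _ v'
    exact ⟨v'', stalkMapₗ_comp' _ _ _ _⟩
  · have := isDiscreteValuationRing_stalk (isNormalScheme_of_regular hreg) hy
    obtain ⟨v', rfl⟩ := bidual_surjective_of_pid hLc y v
    obtain ⟨v'', rfl⟩ := hε _ v'
    exact ⟨v'', stalkMapₗ_comp' _ _ _ _⟩

end Groth.RefRank.DetTwist
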