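import Mathlib.LinearAlgebra.Determinant
import Mathlib.LinearAlgebra.FreeModule.PID
import Mathlib.RingTheory.DiscreteValuationRing.Basic
import Mathlib.LinearAlgebra.Dimension.Constructions
import Mathlib.RingTheory.LocalRing.ResidueField.Basic

/-!
# Determinants of lattices over discrete valuation rings
-/

set_option autoImplicit false

open Module

namespace Groth.RefRank.DetAlg

theorem alt_apply_eq_det_smul {K V W : Type*} [CommRing K] [AddCommGroup V] [Module K V]
    [AddCommGroup W] [Module K W] {n : Type*} [Fintype n] [DecidableEq n]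
    (f : V [⋀^n]→ₗ[K] W) (e : Basis n K V) (v : n → V) : f v = e.det v • f e := by
  suffices h : f = (LinearMap.toSpanSingleton K W (f e)).compAlternatingMap e.det by
    conv_lhs => rw [h]
    rfl
  refine e.ext_alternating fun σ hσ => ?_
  let τ : Equiv.Perm n := Equiv.ofBijective σ (Finite.injective_iff_bijective.1 hσ)
  change f (e ∘ τ) = e.det (e ∘ τ) • f e
  rw [AlternatingMap.map_perm, AlternatingMap.map_perm, e.det_self]
  simp

/-- Adapted bases for a submodule containing `π P` with quotient generated by few elements. -/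
theorem exists_diag {A P : Type*} [CommRing A] [IsDomain A] [IsDiscreteValuationRing A]
    [AddCommGroup P] [Module A P] {r : ℕ} (b₀ : Basis (Fin r) A P) (N : Submodule A P) {π : A}
    (hπ : Irreducible π) (hN : ∀ p, π • p ∈ N) {s : ℕ} (g : Fin s → P)
    (hg : Submodule.span A (Set.range g) ⊔ N = ⊤) :
    ∃ (b : Basis (Fin r) A P) (a : Fin r → A) (k : ℕ), (∀ j, a j • b j ∈ N) ∧
      N ≤ Submodule.span A (Set.range fun j => a j • b j) ∧ Associated (∏ j, a j) (π ^ k) ∧
      k ≤ s ∧ k ≤ r := by
  classical
  haveI := Module.Free.of_basis b₀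
  haveI := Module.Finite.of_basis b₀
  let μ : P →ₗ[A] N := (π • (LinearMap.id : P →ₗ[A] P)).codRestrict N hN
  have hμ : Function.Injective μ := fun p q h =>
    (smul_right_injective P hπ.ne_zero) (congrArg Subtype.val h)
  have hr : Module.finrank A N = Module.finrank A P :=
    le_antisymm N.finrank_le (LinearMap.finrank_le_finrank_of_injective hμ)
  obtain ⟨b, a, ab, hab⟩ := N.exists_smith_normal_form_of_rank_eq b₀ hr
  have hexp : ∀ n (hn : n ∈ N), ∑ i, (ab.repr ⟨n, hn⟩ i * a i) • b i = n := fun n hn => by
    have e := congrArg N.subtype (ab.sum_repr ⟨n, hn⟩)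
    rw [map_sum] at e
    simpa only [map_smul, Submodule.subtype_apply, hab, ← mul_smul] using e
  have hcoord : ∀ n ∈ N, ∀ j, a j ∣ b.repr n j := fun n hn j => by
    rw [← hexp n hn, b.repr_sum_self]
    exact dvd_mul_left _ _
  have hdvd : ∀ j, a j ∣ π := fun j => by
    simpa using hcoord _ (hN (b j)) j
  let T : Finset (Fin r) := Finset.univ.filter fun j => ¬ IsUnit (a j)
  have hT : ∀ j ∈ T, Associated (a j) π := fun j hj => by
    obtain ⟨c, hc⟩ := hdvd j
    rcases hπ.isUnit_or_isUnit hc with h | h
    · exact absurd h (Finset.mem_filter.1 hj).2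
    · exact ⟨h.unit, hc.symm⟩
  refine ⟨b, a, T.card, fun j => by rw [← hab j]; exact (ab j).2, fun n hn => ?_, ?_, ?_,
    T.card_le_univ.trans_eq (Fintype.card_fin r)⟩
  · rw [← hexp n hn]
    simp only [mul_smul]
    exact Submodule.sum_mem _ fun j _ => Submodule.smul_mem _ _ (Submodule.subset_span ⟨j, rfl⟩)
  · rw [← Associates.mk_eq_mk_iff_associated, ← Associates.finsetProd_mk, Associates.mk_pow,
      ← Finset.prod_const]
    refine Eq.trans ?_ (Finset.prod_congr (s₂ := T) rfl
      fun j hj => Associates.mk_eq_mk_iff_associated.2 (hT j hj))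
    exact (Finset.prod_filter_of_ne (p := fun j => ¬ IsUnit (a j))
      fun j _ hne hu => hne (Associates.mk_eq_one.2 hu)).symm
  · letI : Field (A ⧸ IsLocalRing.maximalIdeal A) := Ideal.Quotient.field _
    let φ : P →ₗ[A] (T → A ⧸ IsLocalRing.maximalIdeal A) := LinearMap.pi fun j =>
      (IsLocalRing.maximalIdeal A).mkQ ∘ₗ b.coord j.1
    have hφ : Function.Surjective φ := fun v => by
      choose c hc using fun j : T => Submodule.mkQ_surjective (IsLocalRing.maximalIdeal A) (v j)
      refine ⟨∑ j : T, c j • b j.1, funext fun i => ?_⟩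
      refine Eq.trans ?_ (hc i)
      change Submodule.mkQ _ (b.coord i.1 _) = _
      simp [Finsupp.single_apply]
    have hN0 : N ≤ LinearMap.ker φ := fun n hn => LinearMap.mem_ker.2 <| funext fun i => by
      change Submodule.mkQ _ (b.repr n i.1) = 0
      rw [Submodule.mkQ_apply, Submodule.Quotient.mk_eq_zero]
      obtain ⟨c, hc⟩ := hcoord n hn i.1
      rw [hc]
      exact Ideal.mul_mem_right _ _ (Finset.mem_filter.1 i.2).2
    have hspan : Submodule.span A (Set.range (φ ∘ g)) = ⊤ := by
      rw [Set.range_comp, Submodule.span_image]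
      refine top_le_iff.1 ?_
      rw [← LinearMap.range_eq_top.2 hφ, LinearMap.range_eq_map, ← hg, Submodule.map_sup]
      exact sup_le le_rfl ((LinearMap.le_ker_iff_map.1 hN0).le.trans bot_le)
    have hspan' : Submodule.span (A ⧸ IsLocalRing.maximalIdeal A) (Set.range (φ ∘ g) :
        Set (T → A ⧸ IsLocalRing.maximalIdeal A)) = ⊤ := by
      refine top_le_iff.1 fun v _ => ?_
      exact Submodule.span_le_restrictScalars A (A ⧸ IsLocalRing.maximalIdeal A) _ (hspan.ge trivial)
    have h := finrank_range_le_card (R := A ⧸ IsLocalRing.maximalIdeal A) (b := φ ∘ g)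
    rw [Set.finrank, hspan', finrank_top] at h
    simpa using h

end Groth.RefRank.DetAlg
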