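import Groth.Agent.RefRank.StalkWedge
import Groth.Agent.RefRank.DetAlg
import Groth.Agent.RefRank.Divisor

/-!
# The change of the determinant along a map which is generically bijective
-/

set_option autoImplicit false
universe u

open CategoryTheory AlgebraicGeometry TopologicalSpace Groth.QCohMod Module
open Groth.LocFree (extPow)

namespace Groth.RefRank.DetDiv

variable {X : Scheme.{u}}

/-- The determinant form with values in `M`. -/
noncomputable def form {r : ℕ} {F M : X.Modules} [F.IsQuasicoherent] (φ : extPow r F ⟶ M) (x : X) :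
    F.presheaf.stalk x [⋀^Fin r]→ₗ[X.presheaf.stalk x] M.presheaf.stalk x :=
  (RefHull.stalkMapₗ φ x).compAlternatingMap (stalkWedge r F x)

variable [IsIntegral X] [IsLocallyNoetherian X]

theorem mspec_form {r : ℕ} {F M : X.Modules} [F.IsQuasicoherent] (φ : extPow r F ⟶ M) {x y : X}
    (h : y ⤳ x) (v : Fin r → F.presheaf.stalk x) :
    mspec M h (form φ x v) = form φ y (fun j => mspec F h (v j)) := by
  simp only [form, LinearMap.coe_compAlternatingMap, Function.comp_apply, ← stalkMapₗ_mspec,
    mspec_stalkWedge]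

/-- Wedge of a lattice basis. -/
theorem isStalkBasis_form {r : ℕ} {F M : X.Modules} [F.IsQuasicoherent] (φ : extPow r F ⟶ M)
    (hM : Coh.IsCoh M) (hMr : RefHull.IsReflexive M) (hM1 : IsRankOne M) {y : X}
    (hs : Function.Surjective (RefHull.stalkMapₗ φ y))
    (hs₀ : Function.Surjective (RefHull.stalkMapₗ φ (genericPoint ↥X)))
    (e : Fin r → F.presheaf.stalk y)
    (B : Basis (Fin r) (X.presheaf.stalk (genericPoint ↥X)) (F.presheaf.stalk (genericPoint ↥X)))
    (hB : ∀ j, B j = mspec F (genSpec y) (e j))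
    (hc : ∀ m, ∃ c : Fin r → X.presheaf.stalk y,
      ∑ j, rspec (genSpec y) (c j) • B j = mspec F (genSpec y) m) :
    IsStalkBasis M y (form φ y e) := by
  have hspan : ∀ v, v ∈ Submodule.span (X.presheaf.stalk y) {form φ y e} := by
    intro v
    obtain ⟨z, rfl⟩ := hs v
    have hz := (span_stalkWedge r F y).ge (Submodule.mem_top : z ∈ ⊤)
    induction hz using Submodule.span_induction with
    | mem z hz =>
      obtain ⟨m, rfl⟩ := hz
      choose c hc using fun i => hc (m i)
      refine Submodule.mem_span_singleton.2 ⟨(Matrix.of fun j i => c i j).det, ?_⟩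
      refine mspec_gen_injective hM hMr y ?_
      change _ = mspec M (genSpec y) (form φ y m)
      rw [mspec_smul, mspec_form, mspec_form, DetAlg.alt_apply_eq_det_smul (form φ (genericPoint ↥X)) B
        (fun j => mspec F (genSpec y) (m j)), funext fun j => (hB j).symm, RingHom.map_det]
      refine congrArg (fun t : X.presheaf.stalk (genericPoint ↥X) => t • form φ (genericPoint ↥X) B) ?_
      rw [Basis.det_apply]
      refine congrArg Matrix.det (Matrix.ext fun j i => ?_)
      change rspec (genSpec y) (c i j) = B.repr (mspec F (genSpec y) (m i)) j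
      rw [← hc i, B.repr_sum_self]
    | zero => rw [map_zero]; exact Submodule.zero_mem _
    | add a b _ _ ha hb => rw [map_add]; exact Submodule.add_mem _ ha hb
    | smul a z _ hz => rw [map_smul]; exact Submodule.smul_mem _ _ hz
  refine ⟨(injective_iff_map_eq_zero ((LinearMap.toSpanSingleton (X.presheaf.stalk y) _
    (form φ y e)))).2 fun a ha => ?_, fun v => Submodule.mem_span_singleton.1 (hspan v)⟩
  have hne : form φ (genericPoint ↥X) B ≠ 0 := fun h0 => by
    obtain ⟨w, hw⟩ := hM1
    obtain ⟨z, rfl⟩ := hs₀ w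
    have hz : RefHull.stalkMapₗ φ (genericPoint ↥X) z = 0 := by
      have hmem := (span_stalkWedge r F (genericPoint ↥X)).ge (Submodule.mem_top : z ∈ ⊤)
      have hle : Submodule.span (X.presheaf.stalk (genericPoint ↥X))
          (Set.range (stalkWedge r F (genericPoint ↥X))) ≤
          LinearMap.ker (RefHull.stalkMapₗ φ (genericPoint ↥X)) := Submodule.span_le.2 (by
        rintro _ ⟨v, rfl⟩
        change form φ (genericPoint ↥X) v = 0
        rw [DetAlg.alt_apply_eq_det_smul (form φ (genericPoint ↥X)) B v, h0, smul_zero])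
      exact hle hmem
    exact one_ne_zero (hw.1 (a₁ := 1) (a₂ := 0) (by dsimp only; rw [hz, smul_zero, smul_zero]))
  have h := congrArg (mspec M (genSpec y)) ha
  rw [map_zero, LinearMap.toSpanSingleton_apply, mspec_smul, mspec_form,
    funext fun j => (hB j).symm] at h
  refine rspec_gen_injective y (Eq.trans ?_ (map_zero _).symm)
  by_contra hne'
  exact hne ((isUnit_gen_iff.2 hne').smul_eq_zero.1 h)

/-- A basis of the generic stalk from a basis of the image of a stalk. -/
theorem exists_gen_basis {F : X.Modules} [F.IsQuasicoherent] {y : X} {ι : Type u} [Fintype ι]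
    (e : ι → F.presheaf.stalk y)
    (hli : ∀ c : ι → X.presheaf.stalk y,
      ∑ i, rspec (genSpec y) (c i) • mspec F (genSpec y) (e i) = 0 → c = 0)
    (hsp : ∀ m, ∃ c : ι → X.presheaf.stalk y,
      ∑ i, rspec (genSpec y) (c i) • mspec F (genSpec y) (e i) = mspec F (genSpec y) m) :
    ∃ B : Basis ι (X.presheaf.stalk (genericPoint ↥X)) (F.presheaf.stalk (genericPoint ↥X)),
      ∀ i, B i = mspec F (genSpec y) (e i) := by
  classical
  let K := X.presheaf.stalk (genericPoint ↥X)
  letI : Algebra (X.presheaf.stalk y) K := (rspec (genSpec y)).toAlgebra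
  haveI : IsFractionRing (X.presheaf.stalk y) K :=
    inferInstanceAs (IsFractionRing (X.presheaf.stalk y) X.functionField)
  letI : Module (X.presheaf.stalk y) (F.presheaf.stalk (genericPoint ↥X)) :=
    Module.compHom _ (rspec (genSpec y))
  haveI : IsScalarTower (X.presheaf.stalk y) K (F.presheaf.stalk (genericPoint ↥X)) :=
    ⟨fun a b m => mul_smul (rspec (genSpec y) a) b m⟩
  have hli' : LinearIndependent K fun i => mspec F (genSpec y) (e i) := by
    rw [← LinearIndependent.iff_fractionRing (R := X.presheaf.stalk y), Fintype.linearIndependent_iff]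
    exact fun c hc i => congrFun (hli c hc) i
  refine ⟨Basis.mk hli' ?_, fun i => Basis.mk_apply hli' _ i⟩
  rintro v -
  obtain ⟨a, w, ha, haw⟩ := exists_smul_eq_mspec F (genSpec y) v
  obtain ⟨c, hc⟩ := hsp w
  refine (Submodule.smul_mem_iff_of_isUnit _ ha).1 ?_
  rw [haw, ← hc]
  exact Submodule.sum_mem _ fun i _ => Submodule.smul_mem _ _ (Submodule.subset_span ⟨i, rfl⟩)

theorem exists_ord_form_comp (hX : Pi1.IsNormalScheme X) {r : ℕ} {F F' M M' : X.Modules}
    [F.IsQuasicoherent] [F'.IsQuasicoherent] (hF' : Coh.IsCoh F')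
    (φ : extPow r F ⟶ M) (φ' : extPow r F' ⟶ M') (hM : RefHull.IsRef1 M) (hM' : RefHull.IsRef1 M')
    (hs₀ : Function.Surjective (RefHull.stalkMapₗ φ (genericPoint ↥X)))
    (hs₀' : Function.Surjective (RefHull.stalkMapₗ φ' (genericPoint ↥X)))
    (a : F ⟶ F') (hgen : Function.Bijective (RefHull.stalkMapₗ a (genericPoint ↥X)))
    (b : Basis (Fin r) (X.presheaf.stalk (genericPoint ↥X)) (F.presheaf.stalk (genericPoint ↥X)))
    {y : X} (hy : ringKrullDim (X.presheaf.stalk y) = 1)
    (hsy : Function.Surjective (RefHull.stalkMapₗ φ y))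
    (hsy' : Function.Surjective (RefHull.stalkMapₗ φ' y))
    (hm : ∀ c ∈ IsLocalRing.maximalIdeal (X.presheaf.stalk y), ∀ q,
      c • q ∈ LinearMap.range (RefHull.stalkMapₗ a y))
    {s : ℕ} (g : Fin s → F'.presheaf.stalk y)
    (hg : Submodule.span (X.presheaf.stalk y) (Set.range g) ⊔
      LinearMap.range (RefHull.stalkMapₗ a y) = ⊤) :
    ∃ k : ℕ, k ≤ s ∧ k ≤ r ∧
      ordSec M' y (form φ' (genericPoint ↥X) fun j => RefHull.stalkMapₗ a (genericPoint ↥X) (b j)) =
        ordSec M y (form φ (genericPoint ↥X) b) + k := by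
  classical
  let η := genericPoint ↥X
  let A := X.presheaf.stalk y
  let K := X.presheaf.stalk η
  let ρ := rspec (genSpec y)
  haveI := isDiscreteValuationRing_stalk hX hy
  haveI := hM.1.1
  haveI := hM'.1.1
  letI : Field K := inferInstanceAs (Field X.functionField)
  letI : Algebra A K := ρ.toAlgebra
  haveI : IsFractionRing A K := inferInstanceAs (IsFractionRing A X.functionField)
  letI : Module A (F'.presheaf.stalk η) := Module.compHom _ ρ
  haveI : IsScalarTower A K (F'.presheaf.stalk η) := ⟨fun c d m => mul_smul (ρ c) d m⟩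
  have := finite_stalkModule hF' y
  let σ : F'.presheaf.stalk y →ₗ[A] F'.presheaf.stalk η :=
    { toFun := mspec F' (genSpec y), map_add' := map_add _,
      map_smul' := fun c m => mspec_smul F' (genSpec y) c m }
  let P := LinearMap.range σ
  haveI : Module.IsTorsionFree A (F'.presheaf.stalk η) := Module.IsTorsionFree.trans_faithfulSMul A K _
  haveI : Module.Finite A P := Module.Finite.range σ
  haveI : Module.Free A P := Module.free_of_finite_type_torsion_free'
  let αe := LinearEquiv.ofBijective (RefHull.stalkMapₗ a η) hgen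
  -- coordinates in a basis of the lattice
  have hsum : ∀ {ι : Type u} [Fintype ι] (bP : Basis ι A P) (lift : ι → F'.presheaf.stalk y),
      (∀ i, σ.rangeRestrict (lift i) = bP i) → ∀ c : ι → A,
        ((∑ i, c i • bP i : P) : F'.presheaf.stalk η) =
          ∑ i, ρ (c i) • mspec F' (genSpec y) (lift i) := by
    intro ι _ bP lift hl c
    rw [Submodule.coe_sum]
    exact Finset.sum_congr rfl fun i _ => by rw [← hl i]; rfl
  have hbasis : ∀ {ι : Type u} [Fintype ι] (bP : Basis ι A P) (lift : ι → F'.presheaf.stalk y),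
      (∀ i, σ.rangeRestrict (lift i) = bP i) → ∃ B : Basis ι K (F'.presheaf.stalk η),
        ∀ i, B i = mspec F' (genSpec y) (lift i) := by
    intro ι _ bP lift hl
    refine exists_gen_basis lift (fun c h0 => ?_) fun m => ?_
    · exact funext fun i => Fintype.linearIndependent_iff.1 bP.linearIndependent c
        (Subtype.ext ((hsum bP lift hl c).trans h0)) i
    · exact ⟨fun i => bP.repr (σ.rangeRestrict m) i,
        (hsum bP lift hl _).symm.trans (congrArg Subtype.val (bP.sum_repr _))⟩
  -- the rank of the lattice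
  let bc := Module.Free.chooseBasis A P
  choose lc hlc using fun i => σ.surjective_rangeRestrict (bc i)
  obtain ⟨Bc, -⟩ := hbasis bc lc hlc
  let b₀ : Basis (Fin r) A P := bc.reindex (Bc.indexEquiv (b.map αe))
  obtain ⟨π, hπ⟩ := IsDiscreteValuationRing.exists_irreducible A
  let τ : F'.presheaf.stalk y →ₗ[A] P := σ.rangeRestrict
  let N : Submodule A P := (LinearMap.range (RefHull.stalkMapₗ a y)).map τ
  have hN : ∀ p, π • p ∈ N := fun p => by
    obtain ⟨q, rfl⟩ := σ.surjective_rangeRestrict p
    rw [← map_smul]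
    exact ⟨_, hm π (hπ.maximalIdeal_eq ▸ Ideal.mem_span_singleton_self π) q, rfl⟩
  obtain ⟨bD, ad, k, had, hle, hassoc, hks, hkr⟩ := DetAlg.exists_diag b₀ N hπ hN (τ ∘ g) (by
    rw [Set.range_comp, Submodule.span_image, ← Submodule.map_sup, hg, Submodule.map_top]
    exact σ.range_rangeRestrict)
  refine ⟨k, hks, hkr, ?_⟩
  choose e' he' using fun j => σ.surjective_rangeRestrict (bD j)
  have he : ∀ j, ∃ e, τ (RefHull.stalkMapₗ a y e) = ad j • bD j := fun j => by
    obtain ⟨_, ⟨e, rfl⟩, h⟩ := had j; exact ⟨e, h⟩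
  choose e he using he
  let u := Equiv.ulift.{u, 0} (α := Fin r)
  obtain ⟨B₁, hB₁⟩ := hbasis (bD.reindex u.symm) (e' ∘ u) fun i => by
    rw [Basis.reindex_apply, Equiv.symm_symm]; exact he' _
  let B' : Basis (Fin r) K (F'.presheaf.stalk η) := B₁.reindex u
  have hB' : ∀ j, B' j = mspec F' (genSpec y) (e' j) := fun j => by
    simp [B', hB₁]
  have hnz : ∀ j, ad j ≠ 0 := fun j h => by
    refine pow_ne_zero k hπ.ne_zero (hassoc.eq_zero_iff.1 ?_)
    exact Finset.prod_eq_zero (Finset.mem_univ j) h
  have hρ0 : ∀ {c : A}, c ≠ 0 → ρ c ≠ 0 := fun hc h =>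
    hc (rspec_gen_injective y (h.trans (map_zero _).symm))
  let B : Basis (Fin r) K (F.presheaf.stalk η) :=
    (B'.unitsSMul fun j => Units.mk0 (ρ (ad j)) (hρ0 (hnz j))).map αe.symm
  have hBα : ∀ j, RefHull.stalkMapₗ a η (B j) = ρ (ad j) • B' j := fun j => by
    change αe (B j) = _
    simp only [B, Basis.map_apply, Basis.unitsSMul_apply, LinearEquiv.apply_symm_apply]
    rfl
  have hB : ∀ j, B j = mspec F (genSpec y) (e j) := fun j => hgen.1 (by
    rw [hBα, hB', stalkMapₗ_mspec]
    have h := congrArg Subtype.val (he j)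
    rw [Submodule.coe_smul] at h
    have h' : ((bD j : P) : F'.presheaf.stalk η) = mspec F' (genSpec y) (e' j) :=
      congrArg Subtype.val (he' j).symm
    exact ((congrArg (fun v => ρ (ad j) • v) h'.symm).trans h.symm))
  have ht := isStalkBasis_form φ hM.1 hM.2.1 (isRankOne_of_genInvertible hM.2.2) hsy hs₀ e B hB
    fun m => by
      obtain ⟨c, hc⟩ := (Submodule.mem_span_range_iff_exists_fun A).1
        (hle ⟨_, LinearMap.mem_range_self _ m, rfl⟩)
      refine ⟨c, hgen.1 ?_⟩
      rw [map_sum, stalkMapₗ_mspec]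
      refine Eq.trans ?_ (congrArg Subtype.val hc)
      rw [Submodule.coe_sum]
      refine Finset.sum_congr rfl fun j _ => ?_
      rw [map_smul, hBα, hB']
      change _ = ρ (c j) • (ρ (ad j) • ((bD j : P) : F'.presheaf.stalk η))
      rw [← he' j]
      rfl
  have ht' := isStalkBasis_form φ' hM'.1 hM'.2.1 (isRankOne_of_genInvertible hM'.2.2) hsy' hs₀' e'
    B' hB' fun m => by
      refine ⟨fun j => bD.repr (τ m) j, ?_⟩
      have h := congrArg Subtype.val (bD.sum_repr (τ m))
      rw [Submodule.coe_sum] at h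
      refine Eq.trans (Finset.sum_congr rfl fun j _ => ?_) h
      rw [hB', ← he' j]
      rfl
  let δ : K := B.det b
  have hδ : δ ≠ 0 := (B.isUnit_det b).ne_zero
  have e1 : δ • mspec M (genSpec y) (form φ y e) = form φ η b := by
    rw [mspec_form, funext fun j => (hB j).symm]
    exact (DetAlg.alt_apply_eq_det_smul (form φ η) B b).symm
  have e2 : (δ * ρ (∏ j, ad j)) • mspec M' (genSpec y) (form φ' y e') =
      form φ' η fun j => RefHull.stalkMapₗ a η (b j) := by
    have h := DetAlg.alt_apply_eq_det_smul ((form φ' η).compLinearMap (RefHull.stalkMapₗ a η)) B b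
    rw [AlternatingMap.compLinearMap_apply, AlternatingMap.compLinearMap_apply] at h
    rw [mspec_form, funext fun j => (hB' j).symm, mul_smul, map_prod, ← AlternatingMap.map_smul_univ,
      funext fun j => (hBα j).symm]
    exact h.symm
  rw [ordSec_eq hy.le ht e1, ordSec_eq hy.le ht' e2]
  obtain ⟨v, hv⟩ := hassoc.symm
  have hπk : π ^ k ≠ 0 := pow_ne_zero _ hπ.ne_zero
  change ordK y ((show X.functionField from δ) * (show X.functionField from ρ (∏ j, ad j))) = _
  rw [ordK_mul hy.le hδ (hρ0 (Finset.prod_ne_zero_iff.2 fun j _ => hnz j)), ← hv]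
  refine congrArg _ ?_
  have := krullDimLE_of_dim_le hy.le
  change CycAlg.ordFrac _ _ (algebraMap A X.functionField (π ^ k * v)) = _
  rw [ordFrac_algebraMap' (mul_ne_zero hπk v.ne_zero), Ring.ord_mul _ (mem_nonZeroDivisors_of_ne_zero
    v.ne_zero), Ring.ord_pow (mem_nonZeroDivisors_of_ne_zero hπ.ne_zero),
    Ring.ord_of_irreducible hπ, Ring.ord_of_isUnit v.isUnit]
  simp

end Groth.RefRank.DetDiv
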