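import Groth.Agent.RefRank.FittLocFree
import Groth.Agent.Misc3Fitt.Strict
import Groth.Agent.Divisors.IdealComap
import Groth.Prelude.Def_BlowUp2
import Groth.Prelude.Def_Omega4
import Groth.Prelude.Def_CInt
import Groth.Agent.LocFree.FP
import Groth.Agent.Divisors.EffCartier

/-!
# Fitting ideals of strict transforms of modules
-/

set_option autoImplicit false
universe u

open CategoryTheory CategoryTheory.Limits AlgebraicGeometry TopologicalSpace Groth.QCohMod
open scoped TensorProduct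

namespace Groth.RefRank.StrictSheaf

section Algebra

theorem ideal_quotient_eq_bot_pow {R : Type u} [CommRing R] {M : Type u} [AddCommGroup M] [Module R M]
    [Module.Finite R M] {f : R} (hf : f ∈ nonZeroDivisors R) (T : Submodule R M)
    (hT : ∀ m ∈ T, ∃ n : ℕ, f ^ n • m = 0) {j : ℕ} (h : Fitt.ideal R M j = ⊥) :
    Fitt.ideal R (M ⧸ T) j = ⊥ := by
  let L := Localization.Away f
  have hinj : Function.Injective (algebraMap R L) :=
    IsLocalization.injective (M := Submonoid.powers f) L (Submonoid.powers_le.2 hf)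
  have h0 : (T.subtype.lTensor L) = 0 := by
    refine TensorProduct.ext' fun s t => ?_
    obtain ⟨n, hn⟩ := hT t t.2
    obtain ⟨u, hu⟩ := (IsLocalization.Away.algebraMap_isUnit (S := L) f).pow n
    have hs : s = (f ^ n) • (s * ↑u⁻¹) := by
      rw [Algebra.smul_def, map_pow, ← hu, mul_left_comm, Units.mul_inv, mul_one]
    rw [LinearMap.zero_apply, LinearMap.lTensor_tmul, Submodule.subtype_apply, hs,
      TensorProduct.smul_tmul, hn, TensorProduct.tmul_zero]
  have hbij : Function.Bijective (T.mkQ.baseChange L) := by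
    refine ⟨(injective_iff_map_eq_zero _).2 fun t ht => ?_, LinearMap.lTensor_surjective L T.mkQ_surjective⟩
    have hker : t ∈ LinearMap.ker (T.mkQ.lTensor L) := ht
    rw [lTensor_mkQ, LinearMap.mem_range] at hker
    obtain ⟨w, rfl⟩ := hker
    rw [h0, LinearMap.zero_apply]
  have hmap : (Fitt.ideal R (M ⧸ T) j).map (algebraMap R L) = ⊥ := by
    rw [← Misc3Fitt.ideal_baseChange,
      ← Misc3Fitt.ideal_congr (LinearEquiv.ofBijective (T.mkQ.baseChange L) hbij),
      Misc3Fitt.ideal_baseChange, h, Ideal.map_bot]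
  exact (Ideal.map_eq_bot_iff_of_injective hinj).1 hmap

theorem ideal_quotient_eq_top_of_map {R S : Type u} [CommRing R] [CommRing S] [Algebra R S]
    {M : Type u} [AddCommGroup M] [Module R M] [Module.Finite R M] {k : ℕ} {t : S}
    (ht : t ∈ nonZeroDivisors S) (hI : (Fitt.ideal R M k).map (algebraMap R S) = Ideal.span {t})
    (T : Submodule S (S ⊗[R] M)) (hT : ∀ m, t • m = 0 → m ∈ T) :
    Fitt.ideal S ((S ⊗[R] M) ⧸ T) k = ⊤ := by
  refine Misc3Fitt.ideal_quotient_eq_top t ht T hT ?_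
  have hmem : t ∈ (Fitt.ideal R M k).map (algebraMap R S) := hI ▸ Ideal.mem_span_singleton_self t
  have h2 := Ideal.map_mono (f := algebraMap R S) Misc3Fitt.fitt_le_span_det hmem
  rw [Ideal.map_span] at h2
  refine Ideal.span_mono ?_ h2
  rintro _ ⟨_, ⟨D, rfl⟩, rfl⟩
  refine ⟨D.baseChange S, fun e he => ?_, RingHom.map_det (algebraMap R S) D.a⟩
  obtain ⟨e, he', rfl⟩ := D.elts_baseChange S he
  exact hI ▸ Ideal.mem_map_of_mem _ (D.elts_subset he')

end Algebra

variable {X : Scheme.{u}}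

theorem killedByPowerNear_iff {E : X.IdealSheafData} {M : X.Modules} {V : X.affineOpens}
    {t : Γ(X, V.1)} (h : E.ideal V = Ideal.span {t}) (m : Γ(M, V.1)) :
    BlowUp.KilledByPowerNear E M V m ↔ ∃ n : ℕ, t ^ n • m = 0 := by
  refine exists_congr fun n => ?_
  rw [Scheme.IdealSheafData.ideal_pow, Pi.pow_apply, h, Ideal.span_singleton_pow]
  refine ⟨fun hm => hm _ (Ideal.mem_span_singleton_self _), fun hm a ha => ?_⟩
  obtain ⟨c, rfl⟩ := Ideal.mem_span_singleton'.1 ha
  exact (mul_smul c (t ^ n) m).trans ((congrArg (fun y => c • y) hm).trans (smul_zero c))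

variable {S' S : Scheme.{u}} {b : S' ⟶ S} {I : S.IdealSheafData} {F : S.Modules} {G : S'.Modules}
  {π : (Scheme.Modules.pullback b).obj F ⟶ G}

/-- The kernel of the strict transform map is quasi-coherent. -/
theorem isQCoh_kernel [F.IsQuasicoherent] (hE : BlowUp.IsEffCartierIdeal (I.comap b))
    (hG : BlowUp.IsStrictTransform b I F G π) : (kernel π).IsQuasicoherent := by
  haveI : ((Scheme.Modules.pullback b).obj F).IsQuasicoherent := isQCoh_pullback_obj b F
  refine isQCoh_of_affine_cover _ fun x => ?_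
  obtain ⟨W, hxW, -, t, -, hI⟩ := Divisors.exists_generator hE x ⊤ trivial
  have hι : ∀ V : S'.Opens, Function.Injective ((kernel.ι π).app V) :=
    fun V => OmegaSh.ι_app_injective π V
  have hker : ∀ (V : S'.Opens) (k : Γ(kernel π, V)), π.app V ((kernel.ι π).app V k) = 0 :=
    fun V k => congr(($(kernel.condition π)).app V k)
  refine ⟨W.1, W.2, hxW, fun f s => ?_, fun f s hs => ?_⟩
  · obtain ⟨n, m, hm⟩ := exists_pow_smul_eq_res ((Scheme.Modules.pullback b).obj F) W.2 f ((kernel.ι π).app _ s)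
    have hIf : (I.comap b).ideal (S'.affineBasicOpen f) =
        Ideal.span {resFun S' (S'.basicOpen_le f) t} := by
      rw [← (I.comap b).map_ideal_basicOpen, hI, Ideal.map_span, Set.image_singleton]
    have h0 : π.app (S'.basicOpen f) (res ((Scheme.Modules.pullback b).obj F) (S'.basicOpen_le f) m) = 0 := by
      rw [hm, Scheme.Modules.Hom.app_smul, hker, smul_zero]
    obtain ⟨N, hN0⟩ := (killedByPowerNear_iff hIf _).1 ((hG.2 (S'.affineBasicOpen f) _).1 h0)
    have hN : res ((Scheme.Modules.pullback b).obj F) (S'.basicOpen_le f) (t ^ N • m) = 0 := by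
      rw [res_smul, map_pow]; exact hN0
    obtain ⟨p, hp⟩ := exists_pow_smul_eq_zero ((Scheme.Modules.pullback b).obj F) W.2 f _ hN
    have h1 : π.app W.1 (f ^ p • m) = 0 := (hG.2 W _).2
      ((killedByPowerNear_iff hI _).2 ⟨N, (smul_comm _ _ _).trans hp⟩)
    refine ⟨p + n, OmegaSh.kerLift π W.1 (f ^ p • m) h1, hι _ ?_⟩
    rw [← res_app (kernel.ι π), OmegaSh.ι_kerLift, res_smul, hm, Scheme.Modules.Hom.app_smul,
      pow_add, map_pow, mul_smul]
  · obtain ⟨n, hn⟩ := exists_pow_smul_eq_zero ((Scheme.Modules.pullback b).obj F) W.2 f ((kernel.ι π).app _ s) (by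
      rw [res_app, hs, map_zero])
    exact ⟨n, hι _ (by rw [Scheme.Modules.Hom.app_smul, hn, map_zero])⟩

theorem isQCoh_of_isStrictTransform [F.IsQuasicoherent] (hE : BlowUp.IsEffCartierIdeal (I.comap b))
    (hG : BlowUp.IsStrictTransform b I F G π) : G.IsQuasicoherent := by
  haveI := isQCoh_kernel hE hG
  haveI : ((Scheme.Modules.pullback b).obj F).IsQuasicoherent := isQCoh_pullback_obj b F
  haveI := hG.1
  exact (isQCoh_iff_of_iso (IsColimit.coconePointUniqueUpToIso (cokernelIsCokernel (kernel.ι π))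
    (Abelian.epiIsCokernelOfKernel (KernelFork.ofι (kernel.ι π) (kernel.condition π)) (kernelIsKernel π)))).mp (isQCoh_cokernel _)

theorem isFT_of_isStrictTransform [F.IsQuasicoherent] (hF : CohB1.IsFT F)
    (hE : BlowUp.IsEffCartierIdeal (I.comap b)) (hG : BlowUp.IsStrictTransform b I F G π) :
    CohB1.IsFT G := by
  haveI := isQCoh_of_isStrictTransform hE hG
  haveI : ((Scheme.Modules.pullback b).obj F).IsQuasicoherent := isQCoh_pullback_obj b F
  haveI := hG.1
  exact isFT_of_epi π (isFT_pullback b F hF)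

/-- The Fitting ideals of the sections of the strict transform over a small affine open. -/
theorem fitt_sections [F.IsQuasicoherent] (hF : CohB1.IsFT F) (hE : BlowUp.IsEffCartierIdeal (I.comap b))
    (hG : BlowUp.IsStrictTransform b I F G π) {V : S.affineOpens} {W : S'.affineOpens}
    (hWV : W.1 ≤ b ⁻¹ᵁ V.1) {t : Γ(S', W.1)} (ht : Divisors.IsNzdSec t)
    (hI : (I.comap b).ideal W = Ideal.span {t}) (j : ℕ) :
    (I.ideal V = Fitt.ideal Γ(S, V.1) Γ(F, V.1) j → Fitt.ideal Γ(S', W.1) Γ(G, W.1) j = ⊤) ∧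
      ((Fitt.ideal Γ(S, V.1) Γ(F, V.1) j).map (b.appLE V.1 W.1 hWV).hom = ⊥ →
        Fitt.ideal Γ(S', W.1) Γ(G, W.1) j = ⊥) := by
  haveI : ((Scheme.Modules.pullback b).obj F).IsQuasicoherent := isQCoh_pullback_obj b F
  haveI := isQCoh_of_isStrictTransform hE hG
  haveI := hG.1
  letI := sectionsAlg b hWV
  haveI := finite_sections F hF V.2
  let Φ := LinearEquiv.ofBijective (pullSecTensor b F hWV) (pullSecTensor_bijective b F hWV V.2 W.2)
  let q : Γ(S', W.1) ⊗[Γ(S, V.1)] Γ(F, V.1) →ₗ[Γ(S', W.1)] Γ(G, W.1) :=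
    appₗ π W.1 ∘ₗ Φ.toLinearMap
  have hq : Function.Surjective q := (app_surjective_of_epi π W.2).comp Φ.surjective
  let e := q.quotKerEquivOfSurjective hq
  have hker : ∀ z, z ∈ LinearMap.ker q ↔ ∃ n : ℕ, t ^ n • z = 0 := fun z => by
    refine ((hG.2 W (Φ z)).trans (killedByPowerNear_iff hI _)).trans (exists_congr fun n => ?_)
    rw [← map_smul, LinearEquiv.map_eq_zero_iff]
  have htS : t ∈ nonZeroDivisors Γ(S', W.1) := ht.mem_nonZeroDivisors
  refine ⟨fun hV => ?_, fun h0 => ?_⟩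
  · rw [← Misc3Fitt.ideal_congr e]
    refine ideal_quotient_eq_top_of_map htS ?_ _ fun m hm => (hker m).2 ⟨1, by rwa [pow_one]⟩
    rw [← hI, Divisors.ideal_comap_affine I b V W hWV, hV]
    rfl
  · rw [← Misc3Fitt.ideal_congr e]
    refine ideal_quotient_eq_bot_pow htS _ (fun m hm => (hker m).1 hm) ?_
    rw [Misc3Fitt.ideal_baseChange]
    exact h0

theorem stalkMap_map_eq_top_iff {X Y : Scheme.{u}} (f : Y ⟶ X) (y : Y) (J : Ideal (X.presheaf.stalk (f y))) :
    J.map (f.stalkMap y).hom = ⊤ ↔ J = ⊤ := by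
  refine ⟨fun h => ?_, fun h => by rw [h, Ideal.map_top]⟩
  by_contra hne
  have hle : J.map (f.stalkMap y).hom ≤ IsLocalRing.maximalIdeal _ :=
    Ideal.map_le_iff_le_comap.2 fun a ha hu =>
      IsLocalRing.le_maximalIdeal hne ha (isUnit_of_map_unit (f.stalkMap y).hom a hu)
  exact (IsLocalRing.maximalIdeal.isMaximal _).ne_top (top_le_iff.1 (h ▸ hle))

theorem mem_support_comap_iff {X Y : Scheme.{u}} (J : X.IdealSheafData) (f : Y ⟶ X) (y : Y) :
    y ∈ (J.comap f).support ↔ f y ∈ J.support := by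
  obtain ⟨U, hU, -⟩ := Divisors.exists_affine_le (f y) ⊤ trivial
  obtain ⟨V, hV, -⟩ := Divisors.exists_affine_le y ⊤ trivial
  rw [EffCartierLocal.mem_support_iff_map_germ_ne_top _ hV, FittSheaf.map_germ_comap J f hV hU,
    EffCartierLocal.mem_support_iff_map_germ_ne_top _ hU, Ne, stalkMap_map_eq_top_iff]

theorem ideal_eq_top_of_notMem_support {X : Scheme.{u}} (J : X.IdealSheafData) (W : X.affineOpens)
    (h : ∀ x ∈ W.1, x ∉ J.support) : J.ideal W = ⊤ := by
  by_contra hne
  obtain ⟨m, hm, hle⟩ := Ideal.exists_le_maximal _ hne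
  let p : PrimeSpectrum Γ(X, W.1) := ⟨m, hm.isPrime⟩
  have hx : W.2.fromSpec p ∈ W.1 := by
    have : W.2.fromSpec p ∈ Set.range W.2.fromSpec := ⟨p, rfl⟩
    rwa [W.2.range_fromSpec] at this
  refine h _ hx ((Scheme.IdealSheafData.mem_support_iff_of_mem hx).2 ?_)
  rw [Scheme.mem_zeroLocus_iff]
  intro a ha hb
  have hp : W.2.primeIdealOf ⟨W.2.fromSpec p, hx⟩ = p :=
    W.2.fromSpec.isOpenEmbedding.injective (W.2.fromSpec_primeIdealOf _)
  have h' := (mem_basicOpen_iff_notMem_primeIdealOf W.2 a _ hx).1 hb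
  rw [hp] at h'
  exact h' (hle ha)

/-- A section of the Fitting ideal vanishing off the centre maps to zero on the blow-up. -/
theorem vanish (W : S'.affineOpens) {V : S.affineOpens} (hWV : W.1 ≤ b ⁻¹ᵁ V.1) {t : Γ(S', W.1)}
    (ht : Divisors.IsNzdSec t) (hI : (I.comap b).ideal W = Ideal.span {t}) (a : Γ(S, V.1))
    (ha : ∀ (z : S) (hz : z ∈ V.1), z ∉ I.support → S.presheaf.germ V.1 z hz a = 0) :
    b.appLE V.1 W.1 hWV a = 0 := by
  obtain ⟨n, hn⟩ := exists_pow_mul_eq_zero_of_res_basicOpen_eq_zero_of_isAffineOpen S' W.2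
    (b.appLE V.1 W.1 hWV a) t (Divisors.section_ext fun y hy => by
      have hyW : y ∈ W.1 := S'.basicOpen_le t hy
      have hsupp : b y ∉ I.support := by
        rw [← mem_support_comap_iff, EffCartierLocal.mem_support_iff_map_germ_ne_top _ hyW, not_not,
          hI, Ideal.map_span, Set.image_singleton, Ideal.span_singleton_eq_top]
        exact (S'.mem_basicOpen t y hyW).1 hy
      rw [map_zero, Scheme.Hom.appLE]
      erw [TopCat.Presheaf.germ_res_apply, TopCat.Presheaf.germ_res_apply]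
      erw [← Scheme.Hom.germ_stalkMap_apply b V.1 y (hWV hyW), ha (b y) (hWV hyW) hsupp, map_zero])
  exact (pow_mem ht.mem_nonZeroDivisors n).1 _ hn

/-- The stalks of the Fitting ideals over an open where the module is free. -/
theorem fitt_stalk_of_free (F : S.Modules) [F.IsQuasicoherent] (hF : CohB1.IsFT F) (U : S.Opens) {k : ℕ}
    (hfree : FlatMod.IsFinLocFreeOfRank k (F.restrict U.ι)) (j : ℕ) {z : S} (hz : z ∈ U)
    {V : S.affineOpens} (hzV : z ∈ V.1) :
    (j < k → ((Fitt.sheafIdeal F j).ideal V).map (S.presheaf.germ V.1 z hzV).hom = ⊥) ∧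
      (k ≤ j → ((Fitt.sheafIdeal F j).ideal V).map (S.presheaf.germ V.1 z hzV).hom = ⊤) := by
  haveI : ((Scheme.Modules.pullback U.ι).obj F).IsQuasicoherent := isQCoh_pullback_obj U.ι F
  let e := (Scheme.Modules.restrictFunctorIsoPullback U.ι).app F
  haveI : (F.restrict U.ι).IsQuasicoherent := (isQCoh_iff_of_iso e).mpr inferInstance
  have hftP := isFT_pullback U.ι F hF
  have hftR : CohB1.IsFT (F.restrict U.ι) := isFT_of_epi e.inv hftP
  have hc : (Fitt.sheafIdeal F j).comap U.ι = Fitt.sheafIdeal (F.restrict U.ι) j := by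
    rw [FittSheaf.sheafIdeal_pullback F hF, FittSheaf.sheafIdeal_congr _ hftP e.symm]
  obtain ⟨h0, h1⟩ := (FittSheaf.isFinLocFreeOfRank_iff _ hftR k).1 hfree
  let y : (U : Scheme.{u}) := ⟨z, hz⟩
  obtain ⟨D, hD, -⟩ := Divisors.exists_affine_le y ⊤ trivial
  have hg := FittSheaf.map_germ_comap (Fitt.sheafIdeal F j) U.ι hD (U := V) (show U.ι y ∈ V.1 from hzV)
  have hinj : Function.Injective (U.ι.stalkMap y).hom :=
    ((ConcreteCategory.bijective_of_isIso (U.ι.stalkMap y))).1
  rw [hc] at hg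
  refine ⟨fun hjk => ?_, fun hkj => ?_⟩
  · rw [h0 j hjk, Scheme.IdealSheafData.ideal_bot] at hg
    exact (Ideal.map_eq_bot_iff_of_injective hinj).1 (hg.symm.trans Ideal.map_bot)
  · rw [h1 j hkj, Scheme.IdealSheafData.ideal_top] at hg
    exact (stalkMap_map_eq_top_iff U.ι y _).1 (hg.symm.trans (Ideal.map_top _))

/-- The strict transform is locally free of rank `k` if the lower Fitting ideals vanish on the blow-up. -/
theorem isFinLocFreeOfRank [F.IsQuasicoherent] (hF : CohB1.IsFT F) (k : ℕ)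
    (hE : BlowUp.IsEffCartierIdeal ((Fitt.sheafIdeal F k).comap b))
    (hG : BlowUp.IsStrictTransform b (Fitt.sheafIdeal F k) F G π)
    (hvan : ∀ j, j < k → ∀ (V : S.affineOpens) (a : Γ(S, V.1)), a ∈ Fitt.ideal Γ(S, V.1) Γ(F, V.1) j →
      ∀ (z : S) (hz : z ∈ V.1), z ∉ (Fitt.sheafIdeal F k).support → S.presheaf.germ V.1 z hz a = 0) :
    FlatMod.IsFinLocFreeOfRank k G := by
  haveI := isQCoh_of_isStrictTransform hE hG
  have hftG := isFT_of_isStrictTransform hF hE hG
  have key : ∀ x : S', ∃ W : S'.affineOpens, x ∈ W.1 ∧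
      Fitt.ideal Γ(S', W.1) Γ(G, W.1) k = ⊤ ∧ ∀ j, j < k → Fitt.ideal Γ(S', W.1) Γ(G, W.1) j = ⊥ := by
    intro x
    obtain ⟨V, hxV, -⟩ := Divisors.exists_affine_le (b x) ⊤ trivial
    obtain ⟨W, hxW, hWV, t, ht, hI⟩ := Divisors.exists_generator hE x (b ⁻¹ᵁ V.1) hxV
    refine ⟨W, hxW, (fitt_sections hF hE hG hWV ht hI k).1 (FittSheaf.sheafIdeal_ideal F hF k V),
      fun j hj => (fitt_sections hF hE hG hWV ht hI j).2 ?_⟩
    rw [eq_bot_iff, Ideal.map_le_iff_le_comap]
    exact fun a ha => vanish W hWV ht hI a fun z hz hns => hvan j hj V a ha z hz hns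
  refine (FittSheaf.isFinLocFreeOfRank_iff G hftG k).2
    ⟨fun j hj => Divisors.ext_of_cover fun x => ?_, fun j hj => Divisors.ext_of_cover fun x => ?_⟩
  · obtain ⟨W, hxW, -, h0⟩ := key x
    exact ⟨W, hxW, by rw [FittSheaf.sheafIdeal_ideal G hftG, h0 j hj, Scheme.IdealSheafData.ideal_bot]; rfl⟩
  · obtain ⟨W, hxW, h1, -⟩ := key x
    haveI := finite_sections G hftG W.2
    refine ⟨W, hxW, ?_⟩
    rw [FittSheaf.sheafIdeal_ideal G hftG, Scheme.IdealSheafData.ideal_top]
    exact top_le_iff.1 (h1.ge.trans (Misc3Fitt.ideal_mono hj))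

/-- The kernel of the strict transform map is finitely presented if the strict transform is locally free. -/
theorem isFP_kernel [F.IsQuasicoherent] (hF : CohB1.IsFP F) (hE : BlowUp.IsEffCartierIdeal (I.comap b))
    (hG : BlowUp.IsStrictTransform b I F G π) {r : ℕ} (hfree : FlatMod.IsFinLocFreeOfRank r G) :
    CohB1.IsFP (kernel π) := by
  haveI := isQCoh_kernel hE hG
  haveI := isQCoh_of_isStrictTransform hE hG
  haveI : ((Scheme.Modules.pullback b).obj F).IsQuasicoherent := isQCoh_pullback_obj b F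
  haveI := hG.1
  refine Groth.LocFree.isFP_of_affine_cover _ fun x => ?_
  obtain ⟨U, hxU, ⟨e⟩⟩ := hfree x
  obtain ⟨W, hxW, hWU⟩ := Divisors.exists_affine_le x U hxU
  obtain ⟨B⟩ := FittSheaf.exists_basis_sections G e W.2 hWU
  haveI : Module.Free Γ(S', W.1) Γ(G, W.1) := Module.Free.of_basis B
  haveI : Module.FinitePresentation Γ(S', W.1) Γ((Scheme.Modules.pullback b).obj F, W.1) :=
    PropsBasic.FPSections.finitePresentation_sections _ (isFP_pullback b F hF) W.2
  refine ⟨W.1, W.2, hxW, Module.finitePresentation_of_projective_of_exact (appₗ (kernel.ι π) W.1)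
    (appₗ π W.1) (OmegaSh.ι_app_injective π W.1) (app_surjective_of_epi π W.2) fun m => ⟨fun hm => ?_, ?_⟩⟩
  · exact ⟨OmegaSh.kerLift π W.1 m hm, OmegaSh.ι_kerLift π W.1 m hm⟩
  · rintro ⟨m, rfl⟩
    exact congr(($(kernel.condition π)).app W.1 m)

/-- The kernel of the strict transform map vanishes away from the centre. -/
theorem isZero_restrict_kernel (hG : BlowUp.IsStrictTransform b I F G π) (U : S.Opens)
    (hU : ∀ z ∈ U, z ∉ I.support) : IsZero ((kernel π).restrict (b ⁻¹ᵁ U).ι) := by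
  rw [IsZero.iff_id_eq_zero]
  ext W s
  change s = 0
  have hWU : (b ⁻¹ᵁ U).ι ''ᵁ W ≤ b ⁻¹ᵁ U := by
    rintro y ⟨z, -, rfl⟩; exact z.2
  suffices h : ∀ (W' : S'.Opens), W' ≤ b ⁻¹ᵁ U → ∀ a : Γ(kernel π, W'), a = 0 from h _ hWU s
  intro W' hW' a
  apply OmegaSh.ι_app_injective π W'
  rw [map_zero]
  let P := (Scheme.Modules.pullback b).obj F
  have hi : ∀ y : (W' : Set S'), ∃ D : S'.affineOpens, y.1 ∈ D.1 ∧ D.1 ≤ W' :=
    fun y => Divisors.exists_affine_le y.1 W' y.2
  choose D hD hDW using hi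
  refine TopCat.Sheaf.eq_of_locally_eq' ⟨P.presheaf, P.isSheaf⟩ (fun y => (D y).1) W'
    (fun y => homOfLE (hDW y)) (fun y hy => Opens.mem_iSup.2 ⟨⟨y, hy⟩, hD _⟩) _ _ fun y => ?_
  rw [map_zero]
  change res P (hDW y) ((kernel.ι π).app W' a) = 0
  have h0 : π.app (D y).1 (res P (hDW y) ((kernel.ι π).app W' a)) = 0 := by
    rw [res_app]
    exact congr(($(kernel.condition π)).app (D y).1 (res (kernel π) (hDW y) a))
  obtain ⟨n, hn⟩ := (hG.2 (D y) _).1 h0
  have htop : (I.comap b).ideal (D y) = ⊤ :=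
    ideal_eq_top_of_notMem_support _ _ fun z hz => by
      rw [mem_support_comap_iff]; exact hU _ (hW' (hDW y hz))
  have h1 := hn 1 (by rw [Scheme.IdealSheafData.ideal_pow, Pi.pow_apply]; simp [BlowUp.exceptional, htop, ← Ideal.one_eq_top])
  rwa [one_smul] at h1

end Groth.RefRank.StrictSheaf
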