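import Mathlib
import Groth.Prelude.Def_Wider
import Groth.Agent.RefRank.AffineCompl
import Groth.Agent.LocCohTransform.ExactTransform

/-!
# An exact ideal transform gives an affine punctured spectrum
-/

set_option autoImplicit false
universe u

open CategoryTheory CategoryTheory.Limits AlgebraicGeometry Opposite TopologicalSpace

namespace Groth.RefRank.AffineCompl

variable {A : Type u} [CommRing A] {U : (Spec (CommRingCat.of A)).Opens} {I : Ideal A}
variable (hUI : ∀ x : ↥(Spec (CommRingCat.of A)), x ∈ U ↔ ∃ f ∈ I, f ∉ (x : PrimeSpectrum A).asIdeal)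
include hUI

theorem le_iSup_basicOpen :
    U ≤ ⨆ f : I, (Spec (CommRingCat.of A)).basicOpen (toSec U (f : A)) := by
  intro x hx
  obtain ⟨f, hf, hfx⟩ := (hUI x).1 hx
  refine Opens.mem_iSup.2 ⟨⟨f, hf⟩, ?_⟩
  show x ∈ (Spec (CommRingCat.of A)).basicOpen (toSec U f)
  rw [basicOpen_toSec]
  exact ⟨hx, hfx⟩

theorem eq_zero_of_mul_pow {m : ℕ} (s : Γ(Spec (CommRingCat.of A), U))
    (h : ∀ c ∈ I ^ m, toSec U c * s = 0) : s = 0 := by
  let X := Spec (CommRingCat.of A)
  refine X.sheaf.eq_of_locally_eq' (fun f : I => X.basicOpen (toSec U (f : A))) U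
    (fun f => homOfLE (X.basicOpen_le _)) (le_iSup_basicOpen hUI) s 0 fun f => ?_
  show (X.presheaf.map (homOfLE (X.basicOpen_le _)).op).hom s =
    (X.presheaf.map (homOfLE (X.basicOpen_le _)).op).hom 0
  have hu : IsUnit ((X.presheaf.map (homOfLE (X.basicOpen_le (toSec U (f : A)))).op).hom (toSec U (f : A)) ^ m) :=
    (RingedSpace.isUnit_res_basicOpen X.toRingedSpace (toSec U (f : A))).pow m
  rw [map_zero, ← hu.mul_right_eq_zero]
  have := congrArg (X.presheaf.map (homOfLE (X.basicOpen_le (toSec U (f : A)))).op).hom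
    (h ((f : A) ^ m) (Ideal.pow_mem_pow f.2 m))
  rw [map_mul, map_zero, map_pow, map_pow] at this
  exact this

theorem exists_section {m : ℕ} (φ : (I ^ m : Ideal A) →ₗ[A] A) :
    ∃ s : Γ(Spec (CommRingCat.of A), U), ∀ c, toSec U c.1 * s = toSec U (φ c) := by
  let X := Spec (CommRingCat.of A)
  let W : I → X.Opens := fun f => X.basicOpen (toSec U (f : A))
  let ρ : ∀ f : I, A →+* Γ(X, W f) := fun f =>
    (X.presheaf.map (homOfLE (X.basicOpen_le (toSec U (f : A)))).op).hom.comp (toSec U)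
  have hu : ∀ f : I, IsUnit (ρ f ((f : A) ^ m)) := fun f => by
    rw [map_pow]
    exact (RingedSpace.isUnit_res_basicOpen X.toRingedSpace (toSec U (f : A))).pow m
  let t : ∀ f : I, Γ(X, W f) := fun f =>
    ((hu f).unit⁻¹ : (Γ(X, W f))ˣ) * ρ f (φ ⟨(f : A) ^ m, Ideal.pow_mem_pow f.2 m⟩)
  have ht : ∀ (f : I) (c : (I ^ m : Ideal A)), ρ f c.1 * t f = ρ f (φ c) := by
    intro f c
    apply (hu f).mul_left_cancel
    have h1 : (f : A) ^ m * φ c = c.1 * φ ⟨(f : A) ^ m, Ideal.pow_mem_pow f.2 m⟩ := by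
      rw [← smul_eq_mul, ← smul_eq_mul, ← map_smul, ← map_smul]
      congr 1
      exact Subtype.ext (mul_comm _ _)
    have h2 := congrArg (ρ f) h1
    rw [map_mul, map_mul] at h2
    rw [h2, mul_left_comm]
    congr 1
    rw [← mul_assoc, (hu f).mul_val_inv, one_mul]
  have hcompat : TopCat.Presheaf.IsCompatible X.sheaf.1 W t := by
    intro f g
    let α : A →+* Γ(X, W f ⊓ W g) :=
      (X.presheaf.map (homOfLE (inf_le_left.trans (X.basicOpen_le _) : W f ⊓ W g ≤ U)).op).hom.comp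
        (toSec U)
    have hα : ∀ a, (X.presheaf.map (Opens.infLELeft (W f) (W g)).op).hom (ρ f a) = α a := fun a =>
      res_res _ _ (toSec U a)
    have hβ : ∀ a, (X.presheaf.map (Opens.infLERight (W f) (W g)).op).hom (ρ g a) = α a := fun a =>
      res_res _ _ (toSec U a)
    have hu' : IsUnit (α ((f : A) ^ m)) :=
      hα ((f : A) ^ m) ▸ (hu f).map (X.presheaf.map (Opens.infLELeft (W f) (W g)).op).hom
    show (X.presheaf.map (Opens.infLELeft (W f) (W g)).op).hom (t f) =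
      (X.presheaf.map (Opens.infLERight (W f) (W g)).op).hom (t g)
    let c : (I ^ m : Ideal A) := ⟨(f : A) ^ m, Ideal.pow_mem_pow f.2 m⟩
    apply hu'.mul_left_cancel
    calc α c.1 * (X.presheaf.map (Opens.infLELeft (W f) (W g)).op).hom (t f) = α (φ c) := by
          rw [← hα c.1, ← hα (φ c), ← map_mul, ht]
      _ = α c.1 * (X.presheaf.map (Opens.infLERight (W f) (W g)).op).hom (t g) := by
          rw [← hβ c.1, ← hβ (φ c), ← map_mul, ht]
  obtain ⟨s, hs⟩ : ∃ s : Γ(X, U), ∀ f : I,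
      (X.presheaf.map (homOfLE (X.basicOpen_le (toSec U (f : A)))).op).hom s = t f :=
    (X.sheaf.existsUnique_gluing' W U (fun f => homOfLE (X.basicOpen_le _))
      (le_iSup_basicOpen hUI) t hcompat).exists
  refine ⟨s, fun c => sub_eq_zero.1 (eq_zero_of_mul_pow hUI (m := 0) _ fun e _ => ?_)⟩
  refine mul_eq_zero_of_right _ (sub_eq_zero.2 ?_)
  refine X.sheaf.eq_of_locally_eq' W U (fun f => homOfLE (X.basicOpen_le _))
    (le_iSup_basicOpen hUI) _ _ fun f => ?_
  show (X.presheaf.map (homOfLE (X.basicOpen_le _)).op).hom (toSec U c.1 * s) =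
    (X.presheaf.map (homOfLE (X.basicOpen_le _)).op).hom (toSec U (φ c))
  rw [map_mul]
  refine Eq.trans ?_ (ht f c)
  exact congrArg (ρ f c.1 * ·) (hs f)

open Groth.LocCohTransform in
theorem span_toSec_eq_top_of_smul_top (h : I • (⊤ : Submodule A (LocCoh.DT I A)) = ⊤) :
    Ideal.span (toSec U '' (I : Set A)) = ⊤ := by
  let J : Ideal Γ(Spec (CommRingCat.of A), U) := Ideal.span (toSec U '' (I : Set A))
  let Good : LocCoh.DT I A → Prop := fun z => ∃ (m : ℕ) (φ : (I ^ m : Ideal A) →ₗ[A] A)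
    (s : Γ(Spec (CommRingCat.of A), U)),
      cls I m φ = z ∧ (∀ c, toSec U c.1 * s = toSec U (φ c)) ∧ s ∈ J
  have key : Good (LocCoh.toDT I A 1) := by
    refine Submodule.smul_induction_on (p := Good)
      (h.ge (Submodule.mem_top : LocCoh.toDT I A 1 ∈ _)) (fun a ha y _ => ?_) (fun y z hy hz => ?_)
    · obtain ⟨m, ψ, rfl⟩ := cls_surjective I y
      obtain ⟨s, hs⟩ := exists_section hUI ψ
      refine ⟨m, a • ψ, toSec U a * s, map_smul (cls I m) a ψ, fun c => ?_,
        J.mul_mem_right _ (Ideal.subset_span ⟨a, ha, rfl⟩)⟩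
      rw [LinearMap.smul_apply, smul_eq_mul, map_mul, ← hs c, mul_left_comm]
    · obtain ⟨m₁, φ₁, s₁, rfl, hs₁, hJ₁⟩ := hy
      obtain ⟨m₂, φ₂, s₂, rfl, hs₂, hJ₂⟩ := hz
      refine ⟨max m₁ m₂, φ₁ ∘ₗ Submodule.inclusion (pow_le I (le_max_left m₁ m₂)) +
        φ₂ ∘ₗ Submodule.inclusion (pow_le I (le_max_right m₁ m₂)), s₁ + s₂, ?_, fun c => ?_,
        J.add_mem hJ₁ hJ₂⟩
      · rw [map_add, cls_restrict I (le_max_left m₁ m₂), cls_restrict I (le_max_right m₁ m₂)]
      · rw [LinearMap.add_apply, map_add, mul_add]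
        exact congrArg₂ (· + ·) (hs₁ (Submodule.inclusion (pow_le I (le_max_left m₁ m₂)) c))
          (hs₂ (Submodule.inclusion (pow_le I (le_max_right m₁ m₂)) c))
  obtain ⟨m, φ, s, he, hs, hJ⟩ := key
  rw [toDT_eq_cls I m (1 : A)] at he
  obtain ⟨k, hk, e⟩ := (cls_eq_iff I _ _).1 he
  have hs1 : s = 1 := by
    refine sub_eq_zero.1 (eq_zero_of_mul_pow hUI (m := k) _ fun c hc => ?_)
    have h2 : φ ⟨c, pow_le I hk hc⟩ = c := (LinearMap.congr_fun e ⟨c, hc⟩).trans (mul_one c)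
    have h3 := hs ⟨c, pow_le I hk hc⟩
    rw [h2] at h3
    rw [mul_sub, mul_one, h3, sub_self]
  exact J.eq_top_iff_one.2 (hs1 ▸ hJ)

theorem isAffineOpen_of_smul_top (h : I • (⊤ : Submodule A (LocCoh.DT I A)) = ⊤) :
    IsAffineOpen U := by
  refine isAffineOpen_of_isAffineOpen_basicOpen U _ (span_toSec_eq_top_of_smul_top hUI h) ?_
  intro x hx
  obtain ⟨f, hf, rfl⟩ := hx
  show IsAffineOpen ((Spec (CommRingCat.of A)).basicOpen (toSec U f))
  rw [show (Spec (CommRingCat.of A)).basicOpen (toSec U f) = PrimeSpectrum.basicOpen f from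
    (basicOpen_toSec U f).trans (inf_eq_right.2 (basicOpen_le hUI hf))]
  exact IsAffineOpen.Spec_basicOpen (R := CommRingCat.of A) f

end Groth.RefRank.AffineCompl
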