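import Groth.Agent.Chow.AmpleTwist
import Groth.Agent.PicAux.EffCartierSection
import Groth.Agent.Pi1Ample.FiniteAffine
import Groth.Agent.Divisors.AssocNzd
import Groth.Agent.Ega2Proj.QuasiAffineAmple
import Groth.Agent.SchemeMorphisms.Decomp

/-!
# Regular sections of large twists avoiding finitely many points
-/

universe u

open CategoryTheory CategoryTheory.Limits AlgebraicGeometry Opposite TopologicalSpace

set_option backward.isDefEq.respectTransparency.types false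

namespace Groth.RefRank.AmpleDiff

open Groth.PicAux Groth.PropsBasic.Ample

variable {X : Scheme.{u}} {L L' : X.Modules}

/-- Sections of all large twists, not vanishing at a given point and vanishing outside a given open. -/
theorem exists_twist_section_nhd (hA : CohB1.IsAmple L) (hL' : PicF.IsInvertible L') {O : X.Opens}
    {x : X} (hx : x ∈ O) :
    ∃ n₀ : ℕ, ∀ n, n₀ ≤ n →
      ∃ σ : Γ(CohB1.tensorMod (CohB1.tensorPow L n) L', ⊤), x ∈ gloc σ ∧ gloc σ ≤ O := by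
  obtain ⟨W, n₀, -, hxW, hW⟩ := Groth.Chow.exists_twist_sections hA hL' x
  obtain ⟨m, t, hxt, htO, -⟩ := Groth.PropsBasic.Ample.exists_affine_gloc_nhd hA hx
  refine ⟨n₀ + (m + 1), fun n hn => ?_⟩
  obtain ⟨k, rfl⟩ := Nat.exists_eq_add_of_le hn
  obtain ⟨σ, hσ⟩ := hW (n₀ + k) (Nat.le_add_right _ _)
  have hP := isInvertible_tensorPow hA.1 (n₀ + k)
  have hQ := isInvertible_tensorPow hA.1 (m + 1)
  obtain ⟨φ⟩ : Nonempty (CohB1.tensorMod (CohB1.tensorPow L (m + 1))
      (CohB1.tensorMod (CohB1.tensorPow L (n₀ + k)) L') ≅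
        CohB1.tensorMod (CohB1.tensorPow L (n₀ + (m + 1) + k)) L') := by
    obtain ⟨a⟩ := tensorMod_assoc hQ hP hL'
    refine ⟨a.symm ≪≫ PicGrp.tensorModIso ((tensorPow_add L (m + 1) (n₀ + k)).some.symm ≪≫
      eqToIso (by rw [show m + 1 + (n₀ + k) = n₀ + (m + 1) + k by omega])) (Iso.refl _)⟩
  refine ⟨φ.hom.app ⊤ (tmulSec t σ), ?_⟩
  rw [gloc_map φ.hom, gloc_tmulSec hQ (isInvertible_tensorMod hP hL'), hσ]
  exact ⟨⟨hxt, hxW⟩, inf_le_left.trans htO⟩

/-- A large twist has a section not vanishing at any of finitely many given points. -/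
theorem exists_twist_section_finite (hA : CohB1.IsAmple L) (hL' : PicF.IsInvertible L')
    (Z : Set X) (hZ : Z.Finite) :
    ∃ n₀ : ℕ, ∀ n, n₀ ≤ n → ∃ σ : Γ(CohB1.tensorMod (CohB1.tensorPow L n) L', ⊤), Z ⊆ gloc σ := by
  classical
  let Mset : Set X := {z ∈ Z | ∀ w ∈ Z, z ⤳ w → z = w}
  have hMfin : Mset.Finite := hZ.subset fun z hz => hz.1
  let M := hMfin.toFinset
  have hM : ∀ z ∈ Z, ∃ w ∈ M, z ⤳ w := fun z hz => by
    obtain ⟨w, ⟨hwZ, hzw⟩, hmin⟩ := (hZ.subset (Set.sep_subset Z (z ⤳ ·))).exists_minimalFor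
      (fun w => closure ({w} : Set X)) {w ∈ Z | z ⤳ w} ⟨z, hz, specializes_rfl⟩
    refine ⟨w, hMfin.mem_toFinset.2 ⟨hwZ, fun v hv hwv => ?_⟩, hzw⟩
    have h1 : closure ({v} : Set X) ⊆ closure {w} := specializes_iff_closure_subset.1 hwv
    exact (hwv.antisymm (specializes_iff_closure_subset.2 (hmin ⟨hv, hzw.trans hwv⟩ h1))).eq
  have hO : ∀ z : M, ∃ n₀ : ℕ, ∀ n, n₀ ≤ n →
      ∃ σ : Γ(CohB1.tensorMod (CohB1.tensorPow L n) L', ⊤), z.1 ∈ gloc σ ∧
        ∀ w ∈ M, w ≠ z.1 → w ∉ gloc σ := by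
    intro z
    have hzM := hMfin.mem_toFinset.1 z.2
    let C : Set X := ⋃ w ∈ (↑(M.erase z.1) : Set X), closure {w}
    have hC : IsClosed C := (M.erase z.1).finite_toSet.isClosed_biUnion fun _ _ => isClosed_closure
    have hzC : z.1 ∉ C := by
      intro hz
      obtain ⟨w, hw, hzw⟩ := Set.mem_iUnion₂.1 hz
      obtain ⟨hne, hwM⟩ := Finset.mem_erase.1 (Finset.mem_coe.1 hw)
      exact hne ((hMfin.mem_toFinset.1 hwM).2 z.1 hzM.1 (specializes_iff_mem_closure.2 hzw))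
    obtain ⟨n₀, hn₀⟩ := exists_twist_section_nhd hA hL' (O := ⟨Cᶜ, hC.isOpen_compl⟩) hzC
    refine ⟨n₀, fun n hn => ?_⟩
    obtain ⟨σ, hzσ, hσ⟩ := hn₀ n hn
    refine ⟨σ, hzσ, fun w hw hne hwt => hσ hwt ?_⟩
    exact Set.mem_iUnion₂.2 ⟨w, Finset.mem_coe.2 (Finset.mem_erase.2 ⟨hne, hw⟩),
      subset_closure (Set.mem_singleton w)⟩
  choose ν hν using hO
  refine ⟨Finset.univ.sup ν, fun n hn => ?_⟩
  choose s hs hsep using fun z => hν z n (le_trans (Finset.le_sup (f := ν) (Finset.mem_univ z)) hn)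
  have hI : PicF.IsInvertible (CohB1.tensorMod (CohB1.tensorPow L n) L') :=
    isInvertible_tensorMod (isInvertible_tensorPow hA.1 n) hL'
  let σ : Γ(CohB1.tensorMod (CohB1.tensorPow L n) L', ⊤) := ∑ z : M, s z
  refine ⟨σ, fun x hx => ?_⟩
  obtain ⟨w, hw, hxw⟩ := hM x hx
  refine hxw.mem_open (gloc σ).isOpen ?_
  obtain ⟨V, e, -, hwV, he⟩ := exists_affine_gen_mem hI w
  choose c hc using fun z : M => he.exists_coeff le_rfl (res _ (le_top : V ≤ ⊤) (s z))
  simp only [res_self] at hc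
  have hσ : res _ (le_top : V ≤ ⊤) σ = (∑ z, c z) • e := by
    rw [show res _ (le_top : V ≤ ⊤) σ = ∑ z, res _ (le_top : V ≤ ⊤) (s z) from map_sum _ _ _,
      Finset.sum_smul]
    exact Finset.sum_congr rfl fun z _ => hc z
  have hiff : ∀ z, w ∈ gloc (s z) ↔ (X.evaluation V w hwV) (c z) ≠ 0 := fun z => by
    rw [X.evaluation_ne_zero_iff_mem_basicOpen, ← gloc_inf_eq_basicOpen he (hc z)]
    exact ⟨fun h => ⟨h, hwV⟩, fun h => h.1⟩
  have hσiff : w ∈ gloc σ ↔ (X.evaluation V w hwV) (∑ z, c z) ≠ 0 := by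
    rw [X.evaluation_ne_zero_iff_mem_basicOpen, ← gloc_inf_eq_basicOpen he hσ]
    exact ⟨fun h => ⟨h, hwV⟩, fun h => h.1⟩
  rw [SetLike.mem_coe, hσiff, map_sum, Finset.sum_eq_single ⟨w, hw⟩ (fun z _ hz => not_not.1 fun h0 => ?_)
    (fun h => absurd (Finset.mem_univ _) h)]
  · exact (hiff _).1 (hs _)
  · exact hsep z w hw (fun hh => hz (Subtype.ext hh.symm)) ((hiff z).2 h0)

/-- A section not vanishing at the associated points is regular. -/
theorem regularSection_of_ass_subset [IsLocallyNoetherian X] {s : Coh.structureModule X ⟶ L}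
    (h : ∀ x, Curv2.IsWeakAssPoint (Coh.structureModule X) x → x ∈ CohB1.genLocus L s) :
    RegularSection L s := by
  intro W e he c hc
  refine Groth.Divisors.isNzdSec_of_weakAss c fun x hx hwa => ?_
  have h1 : x ∈ CohB1.genLocus L s ⊓ W := ⟨h x hwa, hx⟩
  rw [genLocus_inf_eq_basicOpen he (s := s) (by rw [gsec, res_app_oneSec]; exact hc)] at h1
  exact ((Scheme.mem_basicOpen X c x hx).1 h1).mem_nonZeroDivisors

theorem exists_effCartier_diff [IsNoetherian X] (hL : CohB1.IsAmple L) {N : X.Modules}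
    (hN : PicF.IsInvertible N) (E : Set X) (hE : E.Finite) :
    ∃ D D' : X.IdealSheafData, BlowUp.IsEffCartierIdeal D ∧ BlowUp.IsEffCartierIdeal D' ∧
      Disjoint E (D.support : Set X) ∧ Disjoint E (D'.support : Set X) ∧
      Nonempty (CohB1.tensorMod N (ClSub.idealMod D) ≅ ClSub.idealMod D') := by
  classical
  let A : Set X := {x | Curv2.IsWeakAssPoint (Coh.structureModule X) x}
  have hA : A.Finite := by
    obtain ⟨S, hSfin, hS⟩ := isCompact_and_isOpen_iff_finite_and_eq_biUnion_affineOpens.mp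
      ⟨(isCompact_univ : IsCompact (Set.univ : Set X)), isOpen_univ⟩
    refine (hSfin.biUnion fun U _ => Groth.SchemeMorphisms.finite_ass_inter
      (F := Coh.structureModule X) (Groth.QCohMod.isCoh_unit (X := X)) U.2).subset fun x hx => ?_
    obtain ⟨U, hU, hxU⟩ := Set.mem_iUnion₂.mp (hS.le (Set.mem_univ x))
    exact Set.mem_iUnion₂.mpr ⟨U, hU, Groth.SchemeMorphisms.mem_ass_iff_weak.2 hx, hxU⟩
  have hO : PicF.IsInvertible (Coh.structureModule X) := Groth.Ega2Proj.isInvertible_structure X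
  obtain ⟨n₁, hn₁⟩ := exists_twist_section_finite hL hN (E ∪ A) (hE.union hA)
  obtain ⟨n₂, hn₂⟩ := exists_twist_section_finite hL hO (E ∪ A) (hE.union hA)
  let n := max n₁ n₂
  let P := CohB1.tensorMod (CohB1.tensorPow L n) N
  let Q := CohB1.tensorPow L n
  have hQ : PicF.IsInvertible Q := isInvertible_tensorPow hL.1 n
  have hP : PicF.IsInvertible P := isInvertible_tensorMod hQ hN
  obtain ⟨σ, hσ⟩ := hn₁ n (le_max_left _ _)
  obtain ⟨τ₀, hτ₀⟩ := hn₂ n (le_max_right _ _)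
  obtain ⟨u₁⟩ := tensorMod_comm hQ hO
  obtain ⟨u₂⟩ := tensorMod_one hQ
  let u := u₁ ≪≫ u₂
  let τ : Γ(Q, ⊤) := u.hom.app ⊤ τ₀
  have hτ : E ∪ A ⊆ gloc τ := by rw [gloc_map u.hom]; exact hτ₀
  let s := homOfSection σ
  let t := homOfSection τ
  have hs : RegularSection P s := regularSection_of_ass_subset fun x hx => hσ (Or.inr hx)
  have ht : RegularSection Q t := regularSection_of_ass_subset fun x hx => hτ (Or.inr hx)
  refine ⟨PicF2.zeroScheme P s, PicF2.zeroScheme Q t, isEffCartierIdeal_zeroScheme hP hs,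
    isEffCartierIdeal_zeroScheme hQ ht, ?_, ?_, ?_⟩
  · exact Set.disjoint_left.2 fun x hx hx' =>
      (mem_genLocus_iff_not_mem_support hP s x).1 (hσ (Or.inl hx)) hx'
  · exact Set.disjoint_left.2 fun x hx hx' =>
      (mem_genLocus_iff_not_mem_support hQ t x).1 (hτ (Or.inl hx)) hx'
  · have hD := isInverseOf_zeroScheme hP hs
    have hD' := isInverseOf_zeroScheme hQ ht
    have hI := isInvertible_idealMod (isEffCartierIdeal_zeroScheme hP hs)
    obtain ⟨a⟩ := tensorMod_assoc hQ hN hI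
    obtain ⟨d⟩ := hD
    exact isInverseOf_unique (L := Q) ⟨a.symm ≪≫ d⟩ hD'

end Groth.RefRank.AmpleDiff
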