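import Groth.Agent.RefRank.Algebra
import Groth.Agent.RefRank.FittSheaf
import Groth.Agent.RefRank.RelDiv

/-!
# Effective Cartier divisors on normal schemes are determined by their pullback under proper surjections
-/

set_option autoImplicit false
universe u

open CategoryTheory AlgebraicGeometry TopologicalSpace IsLocalRing

namespace Groth.RefRank.CartierPullInj

open Groth.RefRank

variable {S S' : Scheme.{u}}

theorem not_map_stalk_eq_bot (f : S' ⟶ S) (U : S.Opens) (hU' : CInt.IsSchematicallyDense (f ⁻¹ᵁ U))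
    (D : S.IdealSheafData) (hD : BlowUp.IsEffCartierIdeal D) (hDU : (D.support : Set S) ⊆ (U : Set S)ᶜ)
    {x' : S'} {V : S.affineOpens} (hx : f x' ∈ V.1) :
    ((D.ideal V).map (S.presheaf.germ V.1 (f x') hx).hom).map (f.stalkMap x').hom ≠ ⊥ := by
  intro h
  obtain ⟨W, hxW, g, hg, hgW⟩ := hD (f x')
  rw [EffCartierLocal.map_germ_eq D hx hxW, hgW, Ideal.map_span, Ideal.map_span, Ideal.span_eq_bot] at h
  have h0 : (f.stalkMap x').hom (S.presheaf.germ W.1 (f x') hxW g) = 0 := h _ (by simp)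
  change f.stalkMap x' (S.presheaf.germ W.1 (f x') hxW g) = 0 at h0
  rw [Scheme.Hom.germ_stalkMap_apply] at h0
  obtain ⟨N, hxN, iN, iN', hres⟩ := TopCat.Presheaf.germ_eq S'.presheaf x' (V := f ⁻¹ᵁ W.1) hxW hxW
    (f.app W.1 g) 0 (h0.trans (map_zero _).symm)
  rw [map_zero] at hres
  have hempty : ∀ z ∈ N, f z ∉ U := by
    intro z hzN hzU
    have hzW : f z ∈ W.1 := iN.le hzN
    have hu : IsUnit (S.presheaf.germ W.1 (f z) hzW g) := by
      by_contra hnu
      refine hDU ((EffCartierLocal.mem_support_iff_map_germ_ne_top D hzW).2 ?_) hzU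
      rw [hgW, Ideal.map_span, Set.image_singleton, Ne, Ideal.span_singleton_eq_top]
      exact hnu
    have := hu.map (f.stalkMap z).hom
    change IsUnit (f.stalkMap z (S.presheaf.germ W.1 (f z) hzW g)) at this
    rw [Scheme.Hom.germ_stalkMap_apply, ← TopCat.Presheaf.germ_res_apply S'.presheaf iN z hzN, hres,
      map_zero] at this
    exact not_isUnit_zero this
  have hsub : Subsingleton Γ(S', N ⊓ f ⁻¹ᵁ U) := ⟨fun a b => Groth.Divisors.section_ext fun z hz =>
    absurd hz.2 (hempty z hz.1)⟩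
  have h1 : (1 : Γ(S', N)) = 0 := hU' N (@Subsingleton.elim _ hsub _ _)
  have h2 := congrArg (S'.presheaf.germ N x' hxN) h1
  rw [map_one, map_zero] at h2
  exact one_ne_zero h2

theorem le_of_comap_le [IsLocallyNoetherian S]
    (hnorm : ∀ x : S, IsDomain (S.presheaf.stalk x) ∧ IsIntegrallyClosed (S.presheaf.stalk x))
    (f : S' ⟶ S) (hf : Function.Surjective f)
    (U : S.Opens) (hU' : CInt.IsSchematicallyDense (f ⁻¹ᵁ U))
    (D E : S.IdealSheafData) (hD : BlowUp.IsEffCartierIdeal D) (hE : BlowUp.IsEffCartierIdeal E)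
    (hDU : (D.support : Set S) ⊆ (U : Set S)ᶜ) (hle : D.comap f ≤ E.comap f) :
    ∀ (x : S) (V : S.affineOpens) (hx : x ∈ V.1),
      (D.ideal V).map (S.presheaf.germ V.1 x hx).hom ≤ (E.ideal V).map (S.presheaf.germ V.1 x hx).hom := by
  intro x V hx
  obtain ⟨_, _⟩ := hnorm x
  obtain ⟨g, hg, hgD⟩ := RelDiv.exists_stalk_gen hD hx
  obtain ⟨h, hh, hhE⟩ := RelDiv.exists_stalk_gen hE hx
  rw [hgD, hhE, Ideal.span_singleton_le_span_singleton]
  refine dvd_of_height_one (nonZeroDivisors.ne_zero hh) fun P hP hP1 => ?_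
  haveI := hP
  obtain ⟨y, hyx, hu, hdim⟩ := exists_generization_of_prime P
  obtain ⟨_, _⟩ := hnorm y
  rw [hP1] at hdim
  have hyV := hyx.mem_open V.1.2 hx
  suffices key : rspec hyx h ∣ rspec hyx g by
    obtain ⟨c, hc⟩ := key
    obtain ⟨M, hM, hloc⟩ := RelDiv.exists_isLocalization_rspec hyx
    letI : Algebra (S.presheaf.stalk x) (S.presheaf.stalk y) := (rspec hyx).toAlgebra
    obtain ⟨⟨b, s⟩, hbs⟩ := IsLocalization.surj M c
    have e : algebraMap _ (S.presheaf.stalk y) ((s : S.presheaf.stalk x) * g) =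
        algebraMap _ (S.presheaf.stalk y) (h * b) := by
      rw [map_mul, map_mul, ← hbs]
      change _ * rspec hyx g = rspec hyx h * (c * _)
      rw [hc]
      change rspec hyx s * (rspec hyx h * c) = rspec hyx h * (c * rspec hyx s)
      ring
    obtain ⟨t, ht⟩ := (IsLocalization.eq_iff_exists M (S.presheaf.stalk y)).1 e
    refine ⟨t * s, (hu _).1 (by rw [map_mul]; exact (hM _ t.2).mul (hM _ s.2)), ⟨t * b, ?_⟩⟩
    rw [mul_assoc, ht]; ring
  have hgy : Ideal.span {rspec hyx g} = (D.ideal V).map (S.presheaf.germ V.1 y hyV).hom := by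
    rw [← EffCartierLocal.map_rspec hyx hx, hgD, Ideal.map_span, Set.image_singleton]
  have hhy : Ideal.span {rspec hyx h} = (E.ideal V).map (S.presheaf.germ V.1 y hyV).hom := by
    rw [← EffCartierLocal.map_rspec hyx hx, hhE, Ideal.map_span, Set.image_singleton]
  have hnf : ¬ IsField (S.presheaf.stalk y) := fun hfld => by
    rw [ringKrullDim_eq_zero_of_isField hfld] at hdim
    exact zero_ne_one hdim
  have : IsDiscreteValuationRing (S.presheaf.stalk y) := by
    have hK : Ring.KrullDimLE 1 (S.presheaf.stalk y) := Ring.krullDimLE_iff.mpr hdim.le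
    exact ((IsDiscreteValuationRing.TFAE _ hnf).out 3 0 rfl rfl).mp ⟨inferInstance,
      IsLocalRing.maximalIdeal _, ⟨fun h => hnf (IsLocalRing.isField_iff_maximalIdeal_eq.mpr h),
        inferInstance⟩, fun p hp => IsLocalRing.eq_maximalIdeal
          (Ring.krullDimLE_one_iff_of_noZeroDivisors.mp hK p hp.1 hp.2)⟩
  rcases ValuationRing.dvd_total (rspec hyx h) (rspec hyx g) with h1 | h1
  · exact h1
  obtain ⟨c, hc⟩ := h1
  by_cases hcu : IsUnit c
  · exact hc ▸ (hcu.mul_right_dvd).2 dvd_rfl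
  exfalso
  obtain ⟨x', hx'⟩ := hf y
  subst hx'
  obtain ⟨V', hx'V', -⟩ := Groth.Divisors.exists_affine_le x' ⊤ trivial
  refine not_map_stalk_eq_bot f U hU' D hD hDU (V := V) hyV ?_
  have h2 := Ideal.map_mono (f := (S'.presheaf.germ V'.1 x' hx'V').hom) (hle V')
  rw [FittSheaf.map_germ_comap D f hx'V' hyV, FittSheaf.map_germ_comap E f hx'V' hyV,
    ← hgy, ← hhy, Ideal.map_span, Ideal.map_span, Set.image_singleton, Set.image_singleton,
    Ideal.span_singleton_le_span_singleton, hc] at h2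
  obtain ⟨u, hu'⟩ := h2
  rw [← hgy, Ideal.map_span, Set.image_singleton, Ideal.span_singleton_eq_bot]
  generalize hG : (f.stalkMap x').hom (rspec hyx g) = G at hu' ⊢
  rw [map_mul, hG] at hu'
  have hnu : ¬ IsUnit ((f.stalkMap x').hom c * u) := fun hun =>
    hcu (IsLocalHom.map_nonunit (f := (f.stalkMap x').hom) c (isUnit_of_mul_isUnit_left hun))
  have h4 : G * (1 - (f.stalkMap x').hom c * u) = 0 := by
    rw [mul_sub, mul_one, ← mul_assoc, ← hu', sub_self]
  exact (IsLocalRing.isUnit_one_sub_self_of_mem_nonunits _ hnu).mul_left_eq_zero.1 h4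

theorem eq_of_comap_eq [IsLocallyNoetherian S]
    (hnorm : ∀ x : S, IsDomain (S.presheaf.stalk x) ∧ IsIntegrallyClosed (S.presheaf.stalk x))
    (f : S' ⟶ S) [IsProper f] (hdom : f.ker = ⊥)
    (U : S.Opens) (hU' : CInt.IsSchematicallyDense (f ⁻¹ᵁ U))
    (D E : S.IdealSheafData) (hD : BlowUp.IsEffCartierIdeal D) (hE : BlowUp.IsEffCartierIdeal E)
    (hDU : (D.support : Set S) ⊆ (U : Set S)ᶜ) (hEU : (E.support : Set S) ⊆ (U : Set S)ᶜ)
    (h : D.comap f = E.comap f) : D = E := by
  have hf : Function.Surjective f := by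
    intro y
    have h1 : (f.ker.support : Set S) = Set.univ := by rw [hdom]; simp
    rw [Scheme.Hom.support_ker, f.isClosedMap.isClosed_range.closure_eq] at h1
    exact h1.ge trivial
  refine FittSheaf.ext_map_germ fun x => ?_
  obtain ⟨V, hx, -⟩ := Groth.Divisors.exists_affine_le x ⊤ trivial
  exact ⟨V, hx, le_antisymm (le_of_comap_le hnorm f hf U hU' D E hD hE hDU h.le x V hx)
    (le_of_comap_le hnorm f hf U hU' E D hE hD hEU h.ge x V hx)⟩

end Groth.RefRank.CartierPullInj
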