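import Groth.Agent.Divisors.IdealComap
import Groth.Agent.QCohMod.Affine
import Mathlib

/-!
# Containment of flat closed subschemes over a reduced base is tested on fibres
-/

set_option autoImplicit false
universe u

open CategoryTheory Limits AlgebraicGeometry TopologicalSpace TensorProduct

namespace Groth.RefRank.FibreContain

theorem eq_zero_of_tensor_eq_zero {R : Type u} [CommRing R] {N : Type u} [AddCommGroup N] [Module R N]
    [Module.Flat R N] {ι : Type u} [Fintype ι] (K : ι → Type u) [∀ i, CommRing (K i)]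
    [∀ i, Algebra R (K i)] (hinj : ∀ r : R, (∀ i, algebraMap R (K i) r = 0) → r = 0)
    (n : N) (h : ∀ i, n ⊗ₜ[R] (1 : K i) = 0) : n = 0 := by
  classical
  let f : R →ₗ[R] (∀ i, K i) := LinearMap.pi fun i => Algebra.linearMap R (K i)
  have hf : Function.Injective f := (injective_iff_map_eq_zero f).2 fun r hr =>
    hinj r fun i => congrFun hr i
  have h1 := Module.Flat.lTensor_preserves_injective_linearMap (M := N) f hf
  have h2 : LinearMap.lTensor N f (n ⊗ₜ[R] (1 : R)) = LinearMap.lTensor N f 0 := by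
    rw [LinearMap.lTensor_tmul, map_zero]
    refine (TensorProduct.piRight R R N K).injective (funext fun i => ?_)
    rw [map_zero, TensorProduct.piRight_apply, TensorProduct.piRightHom_tmul, Pi.zero_apply]
    simpa [f] using h i
  have h3 := congrArg (TensorProduct.rid R N) (h1 h2)
  simpa using h3

theorem appLE_specMap_fromSpec {X : Scheme.{u}} {V : X.Opens} (hV : IsAffineOpen V) {C : CommRingCat.{u}}
    (φ : Γ(X, V) ⟶ C) (e : (⊤ : (Spec C).Opens) ≤ (Spec.map φ ≫ hV.fromSpec) ⁻¹ᵁ V) :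
    (Spec.map φ ≫ hV.fromSpec).appLE V ⊤ e = φ ≫ (Scheme.ΓSpecIso C).inv := by
  rw [Scheme.Hom.comp_appLE, hV.fromSpec_app_self, Category.assoc, Scheme.Hom.map_appLE,
    Scheme.ΓSpecIso_inv_naturality, Scheme.Hom.appTop, Scheme.Hom.app_eq_appLE]
  rfl

theorem le_of_fibre_le {X T : Scheme.{u}} [IsLocallyNoetherian T] [AlgebraicGeometry.IsReduced T]
    (π : X ⟶ T) (D D' : X.IdealSheafData) [hflat : Flat (D'.subschemeι ≫ π)]
    (hfib : ∀ t : ↥T, D.comap (pullback.fst π (T.fromSpecResidueField t)) ≤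
      D'.comap (pullback.fst π (T.fromSpecResidueField t))) : D ≤ D' := by
  have key : ∀ x : X, ∃ V : X.affineOpens, x ∈ V.1 ∧ D.ideal V ≤ D'.ideal V := by
    intro x
    obtain ⟨⟨U, hU⟩, hxU, -⟩ := Groth.Divisors.exists_affine_le (π x) ⊤ trivial
    obtain ⟨⟨V, hV⟩, hxV, hVU⟩ := Groth.Divisors.exists_affine_le x (π ⁻¹ᵁ U) hxU
    refine ⟨⟨V, hV⟩, hxV, fun a ha => ?_⟩
    let φ₀ := π.appLE U V hVU
    algebraize [φ₀.hom]
    set J := D'.ideal ⟨V, hV⟩
    haveI hN : Module.Flat Γ(T, U) (Γ(X, V) ⧸ J) := by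
      have h1 := (D'.subschemeι ≫ π).flat_appLE hU (hV.preimage D'.subschemeι)
        (show D'.subschemeι ⁻¹ᵁ V ≤ (D'.subschemeι ≫ π) ⁻¹ᵁ U from D'.subschemeι.preimage_mono hVU)
      rw [← Scheme.Hom.appLE_comp_appLE D'.subschemeι π U V (D'.subschemeι ⁻¹ᵁ V) hVU le_rfl,
        ← Scheme.Hom.app_eq_appLE, CommRingCat.hom_comp] at h1
      let e : (Γ(X, V) ⧸ J) ≃+* Γ(D'.subscheme, D'.subschemeι ⁻¹ᵁ V) :=
        (Ideal.quotEquivOfEq (D'.ker_subschemeι_app ⟨V, hV⟩).symm).trans
          (RingHom.quotientKerEquivOfSurjective (D'.subschemeι_app_surjective ⟨V, hV⟩))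
      have he : (D'.subschemeι.app V).hom = e.toRingHom.comp (Ideal.Quotient.mk J) := RingHom.ext fun t => rfl
      rw [he, RingHom.comp_assoc, RingHom.Flat.comp_iff_of_bijective_left e.bijective] at h1
      exact RingHom.flat_algebraMap_iff.1 h1
    haveI : IsNoetherianRing Γ(T, U) := IsLocallyNoetherian.component_noetherian ⟨U, hU⟩
    haveI : _root_.IsReduced Γ(T, U) := inferInstance
    haveI : Fintype (minimalPrimes Γ(T, U)) :=
      (minimalPrimes.finite_of_isNoetherianRing Γ(T, U)).fintype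
    let pt : minimalPrimes Γ(T, U) → T := fun p => hU.fromSpec ⟨p.1, p.2.isPrime⟩
    have hpt : ∀ p, pt p ∈ U := fun p => hU.opensRange_fromSpec.le ⟨_, rfl⟩
    let K : minimalPrimes Γ(T, U) → Type u := fun p => T.residueField (pt p)
    letI : ∀ p, Algebra Γ(T, U) (K p) := fun p =>
      (T.presheaf.germ U (pt p) (hpt p) ≫ T.residue (pt p)).hom.toAlgebra
    refine Ideal.Quotient.eq_zero_iff_mem.1 (eq_zero_of_tensor_eq_zero (R := Γ(T, U)) (N := Γ(X, V) ⧸ J) K (fun r hr => ?_) _ fun p => ?_)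
    · have hn : IsNilpotent r := by
        rw [← mem_nilradical, nilradical_eq_sInf, Ideal.mem_sInf]
        intro Q hQ
        haveI : Q.IsPrime := hQ
        obtain ⟨P, hP, hPQ⟩ := Ideal.exists_minimalPrimes_le (bot_le : (⊥ : Ideal Γ(T, U)) ≤ Q)
        refine hPQ ?_
        have hz : T.residue (pt ⟨P, hP⟩) (T.presheaf.germ U _ (hpt _) r) = 0 := hr ⟨P, hP⟩
        have hnu : ¬ IsUnit (T.presheaf.germ U (pt ⟨P, hP⟩) (hpt _) r) := fun hu => by
          have := hu.map (T.residue (pt ⟨P, hP⟩)).hom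
          rw [hz] at this
          exact not_isUnit_zero this
        rw [← Scheme.mem_basicOpen T r _ (hpt _),
          Groth.QCohMod.mem_basicOpen_iff_notMem_primeIdealOf hU r _ (hpt _), not_not] at hnu
        have hp : hU.primeIdealOf ⟨pt ⟨P, hP⟩, hpt _⟩ = ⟨P, hP.isPrime⟩ :=
          hU.fromSpec.isOpenEmbedding.injective (hU.fromSpec_primeIdealOf _)
        rwa [hp] at hnu
      exact hn.eq_zero
    · let C : CommRingCat.{u} := CommRingCat.of ((Γ(X, V) ⧸ J) ⊗[Γ(T, U)] K p)
      let φ : Γ(X, V) ⟶ C := CommRingCat.ofHom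
        ((Algebra.TensorProduct.includeLeft (R := Γ(T, U)) (S := Γ(T, U)) (A := Γ(X, V) ⧸ J) (B := K p)).toRingHom.comp
          (Ideal.Quotient.mk J))
      let ψ : T.residueField (pt p) ⟶ C := CommRingCat.ofHom
        (Algebra.TensorProduct.includeRight (R := Γ(T, U)) (A := Γ(X, V) ⧸ J) (B := K p)).toRingHom
      have hsq : φ₀ ≫ φ = T.presheaf.germ U (pt p) (hpt p) ≫ T.residue (pt p) ≫ ψ := by
        refine CommRingCat.hom_ext (RingHom.ext fun r => ?_)
        exact ((Algebra.TensorProduct.includeLeft (R := Γ(T, U)) (S := Γ(T, U)) (A := Γ(X, V) ⧸ J)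
          (B := K p)).commutes r).trans ((Algebra.TensorProduct.includeRight (R := Γ(T, U))
          (A := Γ(X, V) ⧸ J) (B := K p)).commutes r).symm
      let c : Spec C ⟶ X := Spec.map φ ≫ hV.fromSpec
      have hc : c ≫ π = Spec.map ψ ≫ T.fromSpecResidueField (pt p) := by
        rw [Scheme.fromSpecResidueField, Category.assoc, ← IsAffineOpen.SpecMap_appLE_fromSpec π hU hV hVU,
          ← Spec.map_comp_assoc, hsq, Spec.map_comp, Spec.map_comp, Category.assoc, Category.assoc,
          ← hU.fromSpecStalk_eq_fromSpecStalk (hpt p)]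
        rfl
      let l : Spec C ⟶ pullback π (T.fromSpecResidueField (pt p)) := pullback.lift c (Spec.map ψ) hc
      have hle : D.comap c ≤ D'.comap c := by
        have h := Scheme.IdealSheafData.comap_mono (f := l) (hfib (pt p))
        have hl : l ≫ pullback.fst π (T.fromSpecResidueField (pt p)) = c := pullback.lift_fst _ _ _
        rw [← hl, Scheme.IdealSheafData.comap_comp, Scheme.IdealSheafData.comap_comp]
        exact h
      have e : (⊤ : (Spec C).Opens) ≤ c ⁻¹ᵁ V := by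
        intro y _
        exact hV.opensRange_fromSpec.le ⟨Spec.map φ y, rfl⟩
      have h := hle ⟨⊤, isAffineOpen_top _⟩
      rw [Groth.Divisors.ideal_comap_affine D c ⟨V, hV⟩ ⟨⊤, isAffineOpen_top _⟩ e,
        Groth.Divisors.ideal_comap_affine D' c ⟨V, hV⟩ ⟨⊤, isAffineOpen_top _⟩ e,
        appLE_specMap_fromSpec hV φ e] at h
      have h0 : (D'.ideal ⟨V, hV⟩).map (φ ≫ (Scheme.ΓSpecIso C).inv).hom = ⊥ := by
        rw [eq_bot_iff, Ideal.map_le_iff_le_comap]
        intro b hb
        rw [Ideal.mem_comap, Ideal.mem_bot]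
        change (Scheme.ΓSpecIso C).inv ((Ideal.Quotient.mk J b) ⊗ₜ[Γ(T, U)] (1 : K p)) = 0
        rw [Ideal.Quotient.eq_zero_iff_mem.2 hb, zero_tmul, map_zero]
      have := h (Ideal.mem_map_of_mem _ ha)
      rw [h0, Ideal.mem_bot] at this
      change (Scheme.ΓSpecIso C).inv ((Ideal.Quotient.mk J a) ⊗ₜ[Γ(T, U)] (1 : K p)) = 0 at this
      exact (map_eq_zero_iff _ (ConcreteCategory.bijective_of_isIso (Scheme.ΓSpecIso C).inv).1).1 this
  choose V hV hle using key
  refine Scheme.IdealSheafData.le_of_iSup_eq_top V ?_ hle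
  exact eq_top_iff.2 fun x _ => Opens.mem_iSup.2 ⟨x, hV x⟩

end Groth.RefRank.FibreContain
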