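import Mathlib

/-!
# Cutting out a smooth algebra by a nonvanishing Jacobian minor
-/

set_option autoImplicit false
universe u

open MvPolynomial

namespace Groth.RefRank.JacobianEmbed

/-- Rows which are independent have an invertible square minor. -/
theorem exists_minor_of_linearIndependent {k : Type*} [Field k] {m n : ℕ} (r : Fin m → Fin n → k)
    (hr : LinearIndependent k r) :
    ∃ ι : Fin m → Fin n, Function.Injective ι ∧ (Matrix.of fun i j => r j (ι i)).det ≠ 0 := by
  classical
  let M : Matrix (Fin m) (Fin n) k := Matrix.of r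
  have hrank : M.rank = m := by
    rw [LinearIndependent.rank_matrix (M := M) hr, Fintype.card_fin]
  have hfin : Module.finrank k (Submodule.span k (Set.range M.col)) = m := by
    rw [← Matrix.rank_eq_finrank_span_cols, hrank]
  obtain ⟨b, hb, hspan, hli⟩ := exists_linearIndependent k (Set.range M.col)
  have : Fintype b := (Set.Finite.subset (Set.finite_range _) hb).fintype
  have hcard : Fintype.card b = m := by
    rw [← finrank_span_eq_card hli, Subtype.range_coe, hspan, hfin]
  let e : Fin m ≃ b := (Fintype.equivFinOfCardEq hcard).symm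
  choose ι hι using fun i => hb (e i).2
  have hli' : LinearIndependent k (fun i => M.col (ι i)) := by
    have : (fun i => M.col (ι i)) = Subtype.val ∘ e := funext fun i => hι i
    rw [this]
    exact hli.comp e e.injective
  refine ⟨ι, fun a b h => ?_, ?_⟩
  · exact hli'.injective (congrArg M.col h)
  · have h2 : LinearIndependent k (Matrix.of fun i j => r j (ι i)).row := hli'
    exact ((Matrix.isUnit_iff_isUnit_det _).1 (Matrix.linearIndependent_rows_iff_isUnit.1 h2)).ne_zero

variable {A B : Type u} [CommRing A] [CommRing B] [Algebra A B] {n : ℕ}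

/-- If the differentials at a prime are spanned by `p` elements, some `n - p` relations have an
invertible minor there. -/
theorem exists_minor (φ : MvPolynomial (Fin n) A →ₐ[A] B) (hφ : Function.Surjective φ)
    (q : Ideal B) [q.IsPrime] {p m : ℕ} (hm : n = p + m) (w : Fin p → Ω[B⁄A])
    (hw : ∀ i, ∃ s ∉ q, s • KaehlerDifferential.D A B (φ (X i)) ∈ Submodule.span B (Set.range w)) :
    ∃ (v : Fin m → MvPolynomial (Fin n) A) (ι : Fin m → Fin n), Function.Injective ι ∧
      (∀ j, φ (v j) = 0) ∧ φ (Matrix.of fun i j => pderiv (ι i) (v j)).det ∉ q := by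
  classical
  let k := q.ResidueField
  let χ : MvPolynomial (Fin n) A →+* k := (algebraMap B k).comp φ.toRingHom
  let vec : MvPolynomial (Fin n) A → (Fin n → k) := fun f i => χ (pderiv i f)
  have vec_add : ∀ f g, vec (f + g) = vec f + vec g := fun f g => funext fun i => by simp [vec]
  have vec_mul : ∀ f g, vec (f * g) = χ f • vec g + χ g • vec f := fun f g => funext fun i => by
    simp [vec, pderiv_mul, mul_comm, add_comm]
  have vec_X : ∀ i, vec (X i) = Pi.single i 1 := fun i => funext fun j => by
    simp [vec, pderiv_X, Pi.single_apply, eq_comm, apply_ite χ]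
  let S : Set (Fin n → k) := vec '' {f | φ f = 0}
  let J := Submodule.span k S
  have hkill : ∀ f, φ f = 0 → J.mkQ (vec f) = 0 := fun f hf =>
    (Submodule.Quotient.mk_eq_zero _).2 (Submodule.subset_span ⟨f, hf, rfl⟩)
  let δ₀ : B → (Fin n → k) ⧸ J := fun b => J.mkQ (vec (Function.surjInv hφ b))
  have hδ₀ : ∀ f, δ₀ (φ f) = J.mkQ (vec f) := fun f => by
    have h : φ (Function.surjInv hφ (φ f) - f) = 0 := by
      rw [map_sub, Function.surjInv_eq hφ, sub_self]
    have h2 := hkill _ h
    have h3 : vec (Function.surjInv hφ (φ f)) = vec (Function.surjInv hφ (φ f) - f) + vec f := by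
      rw [← vec_add, sub_add_cancel]
    change J.mkQ _ = _
    rw [h3, map_add, h2, zero_add]
  have hsmul : ∀ (b : B) (y : (Fin n → k) ⧸ J), b • y = algebraMap B k b • y :=
    fun b y => (algebraMap_smul k b y).symm
  let δlin : B →ₗ[A] (Fin n → k) ⧸ J :=
    { toFun := δ₀
      map_add' := fun a b => by
        obtain ⟨f, rfl⟩ := hφ a
        obtain ⟨g, rfl⟩ := hφ b
        rw [← map_add, hδ₀, hδ₀, hδ₀, vec_add, map_add]
      map_smul' := fun a b => by
        obtain ⟨g, rfl⟩ := hφ b
        rw [← map_smul, hδ₀, hδ₀, RingHom.id_apply, ← IsScalarTower.algebraMap_smul B a (J.mkQ (vec g)),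
          hsmul, ← map_smul]
        congr 1
        funext i
        simp [vec, χ, Algebra.smul_def, pderiv_mul] }
  let δ : Derivation A B ((Fin n → k) ⧸ J) := Derivation.mk' δlin fun a b => by
    obtain ⟨f, rfl⟩ := hφ a
    obtain ⟨g, rfl⟩ := hφ b
    change δ₀ (φ f * φ g) = φ f • δ₀ (φ g) + φ g • δ₀ (φ f)
    rw [← map_mul, hδ₀, hδ₀, hδ₀, vec_mul, map_add, map_smul, map_smul, hsmul, hsmul]
    rfl
  let L := δ.liftKaehlerDifferential
  have hL : ∀ f, L (KaehlerDifferential.D A B (φ f)) = J.mkQ (vec f) := fun f => by
    rw [Derivation.liftKaehlerDifferential_comp_D]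
    exact hδ₀ f
  have htop : Submodule.span k (Set.range fun j => L (w j)) = ⊤ := by
    rw [eq_top_iff]
    rintro y -
    obtain ⟨z, rfl⟩ := J.mkQ_surjective y
    rw [pi_eq_sum_univ z, map_sum]
    refine Submodule.sum_mem _ fun i _ => ?_
    rw [map_smul]
    refine Submodule.smul_mem _ _ ?_
    rw [show (fun j => if i = j then (1 : k) else 0) = Pi.single i 1 from
      funext fun j => by simp [Pi.single_apply, eq_comm], ← vec_X, ← hL]
    obtain ⟨s, hs, hmem⟩ := hw i
    have h1 : L (s • KaehlerDifferential.D A B (φ (X i))) ∈ Submodule.span k (Set.range fun j => L (w j)) := by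
      have h := Submodule.mem_map_of_mem (f := L) hmem
      rw [Submodule.map_span, ← Set.range_comp] at h
      exact Submodule.span_le_restrictScalars B k _ h
    rw [map_smul, hsmul] at h1
    have hs0 : algebraMap B k s ≠ 0 := fun h => hs ((Ideal.algebraMap_residueField_eq_zero).1 h)
    exact (Submodule.smul_mem_iff _ hs0).1 h1
  have hrankQ : Module.finrank k ((Fin n → k) ⧸ J) ≤ p := by
    rw [← finrank_top, ← htop]
    exact (finrank_range_le_card _).trans (by simp)
  have hrankJ : m ≤ Module.finrank k J := by
    have := J.finrank_quotient_add_finrank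
    rw [Module.finrank_fin_fun] at this
    omega
  obtain ⟨b, hb, hspan, hli⟩ := exists_linearIndependent k S
  haveI : Finite b := hli.finite
  have : Fintype b := Fintype.ofFinite b
  have hcard : m ≤ Fintype.card b := by
    rw [← finrank_span_eq_card hli, Subtype.range_coe, hspan]
    exact hrankJ
  obtain ⟨e⟩ : Nonempty (Fin m ↪ b) := Function.Embedding.nonempty_of_card_le (by simpa using hcard)
  choose v hv hv' using fun j => hb (e j).2
  obtain ⟨ι, hι, hdet⟩ := exists_minor_of_linearIndependent (fun j => vec (v j)) (by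
    have : (fun j => vec (v j)) = Subtype.val ∘ e := funext fun j => hv' j
    rw [this]
    exact hli.comp e e.injective)
  refine ⟨v, ι, hι, hv, fun h => hdet ?_⟩
  have h2 : χ (Matrix.of fun i j => pderiv (ι i) (v j)).det = 0 :=
    Ideal.algebraMap_residueField_eq_zero.2 h
  rw [RingHom.map_det] at h2
  exact h2

/-- The standard smooth algebra cut out by the chosen relations surjects onto a localization. -/
theorem exists_smooth_cover (φ : MvPolynomial (Fin n) A →ₐ[A] B) (hφ : Function.Surjective φ)
    (q : Ideal B) [q.IsPrime] {p m : ℕ} (hm : n = p + m) (w : Fin p → Ω[B⁄A])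
    (hw : ∀ i, ∃ s ∉ q, s • KaehlerDifferential.D A B (φ (X i)) ∈ Submodule.span B (Set.range w)) :
    ∃ (g : B) (C : Type u) (_ : CommRing C) (_ : Algebra A C) (π : C →ₐ[A] Localization.Away g),
      g ∉ q ∧ Function.Surjective π ∧ Algebra.IsStandardSmoothOfRelativeDimension p A C := by
  classical
  obtain ⟨v, ι, hι, hv, hg⟩ := exists_minor φ hφ q hm w hw
  let d : MvPolynomial (Fin n) A := (Matrix.of fun i j => pderiv (ι i) (v j)).det
  let C₀ := MvPolynomial (Fin n) A ⧸ Ideal.span (Set.range v)
  let g₀ : C₀ := Ideal.Quotient.mk _ d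
  let P : Algebra.PreSubmersivePresentation A C₀ (Fin n) (Fin m) :=
    { toPresentation := Algebra.Presentation.naive
      map := ι
      map_inj := hι }
  have hjac : P.jacobian = g₀ := by
    rw [P.jacobian_eq_jacobiMatrix_det]
    have : P.jacobiMatrix = Matrix.of fun i j => pderiv (ι i) (v j) := by
      refine Matrix.ext fun i j => ?_
      rw [P.jacobiMatrix_apply]
      rfl
    rw [this]
    rfl
  let C := Localization.Away g₀
  let Q := Algebra.PreSubmersivePresentation.localizationAway C g₀
  let R : Algebra.SubmersivePresentation A C (Unit ⊕ Fin n) (Unit ⊕ Fin m) :=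
    { toPreSubmersivePresentation := Q.comp P
      jacobian_isUnit := by
        rw [Algebra.PreSubmersivePresentation.comp_jacobian_eq_jacobian_smul_jacobian, Algebra.smul_def,
          hjac, Algebra.PreSubmersivePresentation.localizationAway_jacobian]
        exact (IsLocalization.Away.algebraMap_isUnit g₀).mul (IsLocalization.Away.algebraMap_isUnit g₀) }
  have hdim : R.dimension = p := by
    simp only [Algebra.Presentation.dimension, Nat.card_sum, Nat.card_fin, Nat.card_unique]
    omega
  let ψ : C₀ →ₐ[A] B := Ideal.Quotient.liftₐ _ φ fun a ha => by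
    have : Ideal.span (Set.range v) ≤ RingHom.ker φ := Ideal.span_le.2 (by rintro _ ⟨j, rfl⟩; exact hv j)
    exact this ha
  have hψg : ψ g₀ = φ d := rfl
  have hψs : Function.Surjective ψ := fun b => by
    obtain ⟨f, rfl⟩ := hφ b
    exact ⟨Ideal.Quotient.mk _ f, rfl⟩
  let ψ' : C →ₐ[A] Localization.Away (ψ g₀) := Localization.awayMapₐ ψ g₀
  refine ⟨ψ g₀, C, inferInstance, inferInstance, ψ', hψg ▸ hg, ?_, R.isStandardSmoothOfRelativeDimension hdim⟩
  exact IsLocalization.Away.mapₐ_surjective_of_surjective g₀ hψs

end Groth.RefRank.JacobianEmbed
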