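import Groth.Agent.RefRank.JacobianEmbed
import Groth.Agent.AlgSpCartier.RegKindsAlg

/-!
# The Jacobian criterion for complete intersections in smooth algebras
-/

set_option autoImplicit false
universe u

open MvPolynomial

namespace Groth.RefRank.JacobianSmooth

variable {A B : Type u} [CommRing A] [CommRing B] [Algebra A B] {n : ℕ}

/-- Exactly `n - p` generating relations have an invertible minor where `p` differentials span. -/
theorem exists_minor_of_generators (φ : MvPolynomial (Fin n) A →ₐ[A] B) (hφ : Function.Surjective φ)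
    (q : Ideal B) [q.IsPrime] {p R : ℕ} (hn : n = p + R) (v : Fin R → MvPolynomial (Fin n) A)
    (hker : RingHom.ker φ = Ideal.span (Set.range v)) (w : Fin p → Ω[B⁄A])
    (hw : ∀ i, ∃ s ∉ q, s • KaehlerDifferential.D A B (φ (X i)) ∈ Submodule.span B (Set.range w)) :
    ∃ ι : Fin R → Fin n, Function.Injective ι ∧
      φ (Matrix.of fun i j => pderiv (ι i) (v j)).det ∉ q := by
  classical
  obtain ⟨v', ι, hι, hv', hdet⟩ := JacobianEmbed.exists_minor φ hφ q hn w hw
  have hv : ∀ j, φ (v j) = 0 := fun j => hker.ge (Ideal.subset_span ⟨j, rfl⟩)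
  have hex : ∀ j, ∃ a : Fin R → MvPolynomial (Fin n) A, ∑ k, a k * v k = v' j := fun j =>
    Ideal.mem_span_range_iff_exists_fun.1 (hker.le (hv' j))
  choose a ha using hex
  refine ⟨ι, hι, fun h => hdet ?_⟩
  have e : φ.mapMatrix (Matrix.of fun i j => pderiv (ι i) (v' j)) =
      φ.mapMatrix (Matrix.of fun i j => pderiv (ι i) (v j)) *
        φ.mapMatrix (Matrix.of fun k j => a j k) := by
    ext i j
    simp [Matrix.mul_apply, ← ha, pderiv_mul, hv, mul_comm]
  rw [AlgHom.map_det, e, Matrix.det_mul, ← AlgHom.map_det]
  exact Ideal.mul_mem_right _ q h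

/-- Jacobian criterion: a presentation with `n - p` relations gives a standard smooth localization. -/
theorem exists_smooth_localization (φ : MvPolynomial (Fin n) A →ₐ[A] B) (hφ : Function.Surjective φ)
    (q : Ideal B) [q.IsPrime] {p R : ℕ} (hn : n = p + R) (v : Fin R → MvPolynomial (Fin n) A)
    (hker : RingHom.ker φ = Ideal.span (Set.range v)) (w : Fin p → Ω[B⁄A])
    (hw : ∀ i, ∃ s ∉ q, s • KaehlerDifferential.D A B (φ (X i)) ∈ Submodule.span B (Set.range w)) :
    ∃ g ∉ q, Algebra.IsStandardSmoothOfRelativeDimension p A (Localization.Away g) := by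
  classical
  obtain ⟨ι, hι, hg⟩ := exists_minor_of_generators φ hφ q hn v hker w hw
  let d : MvPolynomial (Fin n) A := (Matrix.of fun i j => pderiv (ι i) (v j)).det
  let C₀ := MvPolynomial (Fin n) A ⧸ Ideal.span (Set.range v)
  let g₀ : C₀ := Ideal.Quotient.mk _ d
  let P : Algebra.PreSubmersivePresentation A C₀ (Fin n) (Fin R) :=
    { toPresentation := Algebra.Presentation.naive
      map := ι
      map_inj := hι }
  have hjac : P.jacobian = g₀ := by
    rw [P.jacobian_eq_jacobiMatrix_det]
    have : P.jacobiMatrix = Matrix.of fun i j => pderiv (ι i) (v j) := by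
      refine Matrix.ext fun i j => ?_
      rw [P.jacobiMatrix_apply]
      rfl
    rw [this]
    rfl
  let C := Localization.Away g₀
  let Q := Algebra.PreSubmersivePresentation.localizationAway C g₀
  let S : Algebra.SubmersivePresentation A C (Unit ⊕ Fin n) (Unit ⊕ Fin R) :=
    { toPreSubmersivePresentation := Q.comp P
      jacobian_isUnit := by
        rw [Algebra.PreSubmersivePresentation.comp_jacobian_eq_jacobian_smul_jacobian, Algebra.smul_def,
          hjac, Algebra.PreSubmersivePresentation.localizationAway_jacobian]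
        exact (IsLocalization.Away.algebraMap_isUnit g₀).mul (IsLocalization.Away.algebraMap_isUnit g₀) }
  have hdim : S.dimension = p := by
    simp only [Algebra.Presentation.dimension, Nat.card_sum, Nat.card_fin, Nat.card_unique]
    omega
  let ψ : C₀ ≃ₐ[A] B :=
    (Ideal.quotientEquivAlgOfEq A hker.symm).trans (Ideal.quotientKerAlgEquivOfSurjective hφ)
  have hψg : ψ g₀ = φ d := rfl
  refine ⟨ψ g₀, hψg ▸ hg, ?_⟩
  have hS : Algebra.IsStandardSmoothOfRelativeDimension p A C := S.isStandardSmoothOfRelativeDimension hdim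
  haveI : IsLocalization ((Submonoid.powers g₀).map ψ.toAlgHom.toRingHom) (Localization.Away (ψ g₀)) := by
    rw [Submonoid.map_powers]
    exact (inferInstance : IsLocalization (Submonoid.powers (ψ g₀)) (Localization.Away (ψ g₀)))
  let e : C ≃ₐ[A] Localization.Away (ψ g₀) :=
    IsLocalization.algEquivOfAlgEquiv C (Localization.Away (ψ g₀)) ψ (Submonoid.map_powers _ g₀)
  exact Algebra.IsStandardSmoothOfRelativeDimension.of_algEquiv p e

/-- A quotient of a standard smooth algebra by `c` elements is standard smooth where the differentials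
are spanned by `p = d - c` elements. -/
theorem exists_smooth_localization_of_quotient {C : Type u} [CommRing C] [Algebra A C] {d c p : ℕ}
    (hd : d = p + c) (hC : Algebra.IsStandardSmoothOfRelativeDimension d A C) (π : C →ₐ[A] B)
    (hπ : Function.Surjective π) (f : Fin c → C) (hker : RingHom.ker π = Ideal.span (Set.range f))
    (q : Ideal B) [q.IsPrime] (w : Fin p → Ω[B⁄A])
    (hw : ∀ z, ∃ s ∉ q, s • z ∈ Submodule.span B (Set.range w)) :
    ∃ g ∉ q, Algebra.IsStandardSmoothOfRelativeDimension p A (Localization.Away g) := by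
  classical
  obtain ⟨ι₀, σ₀, _, _, P₀, hP⟩ := hC.out
  have hle : Nat.card σ₀ ≤ Nat.card ι₀ := Nat.card_le_card_of_injective _ P₀.map_inj
  let P := P₀.toPresentation.reindex (Finite.equivFin ι₀).symm (Finite.equivFin σ₀).symm
  let α : MvPolynomial (Fin (Nat.card ι₀)) A →ₐ[A] C := MvPolynomial.aeval P.val
  have hα : Function.Surjective α := P.aeval_val_surjective
  choose l hl using fun j => hα (f j)
  let v : Fin (Nat.card σ₀ + c) → MvPolynomial (Fin (Nat.card ι₀)) A := Fin.append P.relation l
  have hkα : RingHom.ker α = Ideal.span (Set.range P.relation) :=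
    P.toGenerators.ker_eq_ker_aeval_val.symm.trans P.span_range_relation_eq_ker.symm
  have hkv : RingHom.ker (π.comp α) = Ideal.span (Set.range v) := by
    have hv : Set.range v = Set.range P.relation ∪ Set.range l := by
      rw [← Set.image_univ]
      ext y
      simp only [Set.image_univ, Set.mem_range, Set.mem_union]
      constructor
      · rintro ⟨i, rfl⟩
        refine i.addCases (fun j => Or.inl ⟨j, ?_⟩) (fun j => Or.inr ⟨j, ?_⟩) <;> simp [v]
      · rintro (⟨j, rfl⟩ | ⟨j, rfl⟩)
        · exact ⟨Fin.castAdd c j, by simp [v]⟩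
        · exact ⟨Fin.natAdd (Nat.card σ₀) j, by simp [v]⟩
    rw [hv, Ideal.span_union, ← hkα,
      show RingHom.ker (π.comp α) = (RingHom.ker π).comap α from (RingHom.comap_ker _ _).symm, hker,
      show Ideal.span (Set.range f) = (Ideal.span (Set.range l)).map α by
        rw [Ideal.map_span, ← Set.range_comp]; exact congrArg _ (congrArg _ (funext fun j => (hl j).symm)),
      Ideal.comap_map_of_surjective _ hα, ← RingHom.ker_eq_comap_bot, sup_comm]
  refine exists_smooth_localization (π.comp α) (hπ.comp hα) q (R := Nat.card σ₀ + c) ?_ v hkv w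
    fun i => hw _
  have : P₀.dimension = Nat.card ι₀ - Nat.card σ₀ := rfl
  omega

open scoped TensorProduct in
/-- A smooth quotient of a standard smooth algebra by a quasi-regular sequence of length `c` has
differentials spanned by `d - c` elements near every prime. -/
theorem spans_of_formallySmooth {C : Type u} [CommRing C] [Algebra A C] {d c p : ℕ}
    (hd : d = p + c) (hC : Algebra.IsStandardSmoothOfRelativeDimension d A C) (π : C →ₐ[A] B)
    (hπ : Function.Surjective π) (f : Fin c → C) (hf : CAlgX.IsQuasiRegular f)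
    (hker : RingHom.ker π = Ideal.span (Set.range f)) [Algebra.FormallySmooth A B]
    (q : Ideal B) [q.IsPrime] :
    ∃ w : Fin p → Ω[B⁄A], ∀ z, ∃ s ∉ q, s • z ∈ Submodule.span B (Set.range w) := by
  classical
  haveI : Nontrivial B := nontrivial_of_ne _ _ (fun h : (1 : B) = 0 => (‹q.IsPrime›).ne_top
    ((Ideal.eq_top_iff_one _).2 (h ▸ q.zero_mem)))
  letI := π.toRingHom.toAlgebra
  haveI : IsScalarTower A C B := IsScalarTower.of_algebraMap_eq fun a => (π.commutes a).symm
  haveI : Nontrivial C := π.toRingHom.domain_nontrivial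
  haveI := hC
  haveI := Algebra.IsStandardSmoothOfRelativeDimension.isStandardSmooth (R := A) (S := C) d
  haveI : Algebra.FiniteType A B := Algebra.FiniteType.of_surjective π hπ
  have hsurj : Function.Surjective (algebraMap C B) := hπ
  set I := RingHom.ker (algebraMap C B)
  have hI : I = Ideal.span (Set.range f) := hker
  have hex : ∀ x : I, ∃ a : Fin c → C, ∑ j, a j * f j = x.1 := fun x =>
    Ideal.mem_span_range_iff_exists_fun.1 (hI.le x.2)
  choose a ha using hex
  have huniq : ∀ (x : I) (b : Fin c → C), ∑ j, b j * f j = x.1 → ∀ j, π (a x j) = π (b j) := fun x b hb j => by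
    have h : (a x - b) j ∈ Ideal.span (Set.range f) :=
      Groth.RegKinds.coeff_mem_of_isQuasiRegular hf (a := a x - b)
        (by simp [sub_mul, Finset.sum_sub_distrib, ha, hb]) j
    rw [← hker, RingHom.mem_ker, Pi.sub_apply, map_sub, sub_eq_zero] at h
    exact h
  let ε₀ : I →ₗ[C] (Fin c → B) :=
    { toFun := fun x j => π (a x j)
      map_add' := fun x y => funext fun j => by
        rw [Pi.add_apply, ← map_add]
        exact huniq (x + y) (a x + a y) (by simp [add_mul, Finset.sum_add_distrib, ha]) j
      map_smul' := fun r x => funext fun j => by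
        rw [RingHom.id_apply, Pi.smul_apply, Algebra.smul_def, show algebraMap C B r = π r from rfl, ← map_mul]
        exact huniq (r • x) (r • a x) (by simp [mul_assoc, ← Finset.mul_sum, ha]) j }
  let ε : I.Cotangent →ₗ[C] (Fin c → B) := Submodule.liftQ _ ε₀ (by
    rw [Submodule.smul_le]
    rintro r hr x -
    rw [LinearMap.mem_ker, map_smul]
    funext j
    rw [Pi.smul_apply, Algebra.smul_def, show algebraMap C B r = 0 from hr, zero_mul]
    rfl)
  let fI : Fin c → I := fun j => ⟨f j, hI.ge (Ideal.subset_span ⟨j, rfl⟩)⟩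
  have hεf : ∀ j, ε (I.toCotangent (fI j)) = Pi.single j 1 := fun j => funext fun k => by
    change π (a (fI j) k) = _
    rw [huniq (fI j) (Pi.single j 1) (by simp [Pi.single_apply, fI]) k, Pi.single_apply, Pi.single_apply,
      apply_ite π, map_one, map_zero]
  let β : (Fin c → B) →ₗ[B] B ⊗[C] Ω[C⁄A] :=
    Fintype.linearCombination B fun j => (1 : B) ⊗ₜ KaehlerDifferential.D A C (f j)
  obtain ⟨l, hl⟩ := (Algebra.FormallySmooth.iff_split_injection (R := A) (P := C) (A := B) hsurj).1 inferInstance
  let r : B ⊗[C] Ω[C⁄A] →ₗ[B] (Fin c → B) := (ε ∘ₗ l).extendScalarsOfSurjective hsurj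
  have hrβ : ∀ y, r (β y) = y := fun y => by
    rw [Fintype.linearCombination_apply, map_sum]
    refine (Finset.sum_congr rfl fun j _ => ?_).trans (pi_eq_sum_univ' y).symm
    rw [map_smul]
    congr 1
    change ε (l ((1 : B) ⊗ₜ KaehlerDifferential.D A C (f j))) = _
    rw [← hεf j, show ((1 : B) ⊗ₜ[C] KaehlerDifferential.D A C (f j)) =
      KaehlerDifferential.kerCotangentToTensor A C B (I.toCotangent (fI j)) from rfl]
    exact congrArg ε (LinearMap.congr_fun hl _)
  let μ := KaehlerDifferential.mapBaseChange A C B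
  have hμβ : ∀ y, μ (β y) = 0 := fun y => by
    rw [Fintype.linearCombination_apply, map_sum]
    refine Finset.sum_eq_zero fun j _ => ?_
    rw [map_smul, KaehlerDifferential.mapBaseChange_tmul, KaehlerDifferential.map_D,
      show algebraMap C B (f j) = 0 from hI.ge (Ideal.subset_span ⟨j, rfl⟩), map_zero, smul_zero, smul_zero]
  have hbij : Function.Bijective (LinearMap.prod r μ) := by
    constructor
    · rw [injective_iff_map_eq_zero]
      intro x hx
      obtain ⟨hx1, hx2⟩ := Prod.ext_iff.1 hx
      have hmem : x ∈ LinearMap.range (KaehlerDifferential.kerCotangentToTensor A C B) := by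
        rw [KaehlerDifferential.range_kerCotangentToTensor A C B hsurj]
        exact hx2
      obtain ⟨y, rfl⟩ := hmem
      obtain ⟨y, rfl⟩ := Ideal.toCotangent_surjective _ y
      have hy : KaehlerDifferential.kerCotangentToTensor A C B (I.toCotangent y) = β (fun j => π (a y j)) := by
        have hsum : I.toCotangent y = ∑ j, a y j • I.toCotangent (fI j) := by
          simp only [← map_smul, ← map_sum]
          congr 1
          exact Subtype.ext (by simp [fI, ha])
        rw [hsum, map_sum, Fintype.linearCombination_apply]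
        refine Finset.sum_congr rfl fun j _ => ?_
        rw [map_smul, KaehlerDifferential.kerCotangentToTensor_toCotangent,
          ← algebraMap_smul B (a y j)]
        rfl
      rw [hy] at hx1 ⊢
      rw [show (fun j => π (a y j)) = 0 from (hrβ _).symm.trans hx1, map_zero]
    · rintro ⟨y, z⟩
      obtain ⟨x, rfl⟩ := KaehlerDifferential.mapBaseChange_surjective A C B hsurj z
      refine ⟨x + β (y - r x), Prod.ext ?_ ?_⟩
      · simp [hrβ]
      · change μ (x + β (y - r x)) = μ x
        rw [map_add, hμβ, add_zero]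
  let e := LinearEquiv.ofBijective _ hbij
  let q' : PrimeSpectrum B := ⟨q, inferInstance⟩
  have hrank : Module.rankAtStalk (Ω[B⁄A]) q' = p := by
    have h1 := congrFun (Module.rankAtStalk_eq_of_equiv e) q'
    rw [Module.rankAtStalk_prod, Pi.add_apply, Module.rankAtStalk_eq_finrank_of_free,
      Module.rankAtStalk_eq_finrank_of_free] at h1
    have h2 : Module.finrank B (B ⊗[C] Ω[C⁄A]) = d := by
      rw [Module.finrank_baseChange, Module.finrank,
        Algebra.IsStandardSmoothOfRelativeDimension.rank_kaehlerDifferential d, Cardinal.toNat_natCast]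
    simp only [Pi.natCast_apply, h2, Module.finrank_fin_fun, Nat.cast_id] at h1
    omega
  let S := q.primeCompl
  haveI : Module.Free (Localization.AtPrime q) (LocalizedModule S (Ω[B⁄A])) :=
    Module.free_of_flat_of_isLocalRing
  let bs := Module.finBasisOfFinrankEq (Localization.AtPrime q) (LocalizedModule S (Ω[B⁄A])) hrank
  choose ms hms using fun j => IsLocalizedModule.surj S (LocalizedModule.mkLinearMap S (Ω[B⁄A])) (bs j)
  refine ⟨fun j => (ms j).1, fun z => ?_⟩
  have hspan : Submodule.span (Localization.AtPrime q)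
      (LocalizedModule.mkLinearMap S (Ω[B⁄A]) '' Set.range fun j => (ms j).1) = ⊤ := by
    rw [eq_top_iff, ← bs.span_eq, Submodule.span_le]
    rintro _ ⟨j, rfl⟩
    have hu : IsUnit (algebraMap B (Localization.AtPrime q) (ms j).2.1) :=
      IsLocalization.map_units _ (ms j).2
    refine (Submodule.smul_mem_iff_of_isUnit _ hu).1 ?_
    rw [algebraMap_smul, ← Submonoid.smul_def, hms j]
    exact Submodule.subset_span ⟨_, ⟨j, rfl⟩, rfl⟩
  have hz : LocalizedModule.mkLinearMap S (Ω[B⁄A]) z ∈ Submodule.localized' (Localization.AtPrime q) S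
      (LocalizedModule.mkLinearMap S (Ω[B⁄A])) (Submodule.span B (Set.range fun j => (ms j).1)) := by
    rw [Submodule.localized'_span, hspan]
    trivial
  obtain ⟨m, hm, s, hs⟩ := hz
  rw [IsLocalizedModule.mk'_eq_iff, Submonoid.smul_def, ← LinearMap.map_smul] at hs
  obtain ⟨u, hu⟩ := (IsLocalizedModule.eq_iff_exists S (LocalizedModule.mkLinearMap S (Ω[B⁄A]))).1 hs
  refine ⟨(u * s : S).1, (u * s : S).2, ?_⟩
  rw [Submonoid.coe_mul, mul_smul]
  exact hu.symm ▸ Submodule.smul_mem _ _ hm

end Groth.RefRank.JacobianSmooth
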