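import Groth.Agent.RefRank.MeroDenom
import Groth.Agent.RefRank.StrictSheaf
import Groth.Agent.Divisors.BlowUpBasic
import Groth.Agent.PicAux.EffCartierSection
import Groth.Agent.PicAux.EffCartierLine
import Groth.Agent.PicAux.Pullback
import Groth.Agent.PicAux.PicLaw

/-!
# A regular meromorphic section on the blow up in its ideal of denominators
-/

set_option autoImplicit false
universe u

open CategoryTheory AlgebraicGeometry Opposite TopologicalSpace Groth.PicAux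

namespace Groth.RefRank.MeroBlowUp

variable {X : Scheme.{u}} {L : X.Modules} (s : Γ(Mero.merMod L, ⊤))

/-- `m = f · s` over `U`. -/
def IsProd {U : X.Opens} (f : Γ(X, U)) (m : Γ(L, U)) : Prop :=
  ∀ y : U, X.presheaf.germ U y.1 y.2 f • s.1 ⟨y.1, Opens.mem_top y.1⟩ =
    LocalizedModule.mk (L.presheaf.germ U y.1 y.2 m) 1

theorem exists_isProd {U : X.Opens} {f : Γ(X, U)} (hf : f ∈ Mero.denomIdeal L s U) :
    ∃ m, IsProd s f m :=
  (MeroDenom.mem_denomIdeal_iff s).1 hf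

theorem IsProd.res {U V : X.Opens} {f : Γ(X, U)} {m : Γ(L, U)} (h : IsProd s f m) (hVU : V ≤ U) :
    IsProd s (resX X hVU f) (res L hVU m) := fun y => by
  rw [germ_resX, h ⟨y.1, hVU y.2⟩]
  exact Mero.mk_congr (TopCat.Presheaf.germ_res_apply L.presheaf (homOfLE hVU) y.1 y.2 m).symm rfl

theorem IsProd.cross (hL : PicF.IsInvertible L) {U : X.Opens} {f f' : Γ(X, U)} {m m' : Γ(L, U)}
    (h : IsProd s f m) (h' : IsProd s f' m') : f • m' = f' • m := by
  refine TopCat.Presheaf.section_ext ⟨L.presheaf, L.isSheaf⟩ U _ _ fun y hy => ?_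
  refine MeroDenom.mk_germ_injective hL y ?_
  show LocalizedModule.mk (L.presheaf.germ U y hy (f • m')) 1 =
    LocalizedModule.mk (L.presheaf.germ U y hy (f' • m)) 1
  rw [Mero.germ_smul, Mero.germ_smul, ← LocalizedModule.smul'_mk, ← LocalizedModule.smul'_mk,
    ← h ⟨y, hy⟩, ← h' ⟨y, hy⟩, smul_smul, smul_smul, mul_comm]

/-- The denominators meet in a nonzerodivisor numerator. -/
theorem exists_regular_prod (hL : PicF.IsInvertible L) (hs : Mero.IsRegularMero L s) (x : X) :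
    ∃ (V : X.affineOpens) (e : Γ(L, V.1)) (c d : Γ(X, V.1)), x ∈ V.1 ∧ Gen L V.1 e ∧
      Divisors.IsNzdSec c ∧ d ∈ Mero.denomIdeal L s V.1 ∧ IsProd s d (c • e) := by
  obtain ⟨V, e, c, b, hxV, -, he, hse⟩ := MeroDenom.exists_local_frac s hL x (O := ⊤) trivial
  have hp : IsProd s b.1 (c • e) := fun y => by
    rw [hse y, LocalizedModule.smul'_mk]
    exact LocalizedModule.mk_eq.2 ⟨1, by simp [Submonoid.smul_def]⟩
  refine ⟨V, e, c, b.1, hxV, he, fun y hy => ?_, (MeroDenom.mem_denomIdeal_iff s).2 ⟨_, hp⟩, hp⟩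
  rw [mem_nonZeroDivisors_iff_right]
  intro q hq
  have h0 : algebraMap (X.presheaf.stalk y) (Mero.KStalk X y) q • s.1 ⟨y, Opens.mem_top y⟩ = 0 := by
    rw [algebraMap_smul, hse ⟨y, hy⟩, LocalizedModule.smul'_mk, Mero.germ_smul, smul_smul, hq, zero_smul,
      LocalizedModule.zero_mk]
  have hz := hs y _ h0
  obtain ⟨u, hu⟩ := (IsLocalization.map_eq_zero_iff (Mero.regStalk X y) (Mero.KStalk X y) q).1 hz
  exact (mul_left_mem_nonZeroDivisors_eq_zero_iff (Mero.regStalk_le_nonZeroDivisors y u.2)).1 hu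

theorem domain_eq (hL : PicF.IsInvertible L) (I : X.IdealSheafData)
    (hI : ∀ V : X.affineOpens, I.ideal V = Mero.denomIdeal L s V.1) :
    ((I.support.compl : X.Opens) : Set X) = Mero.domain L s := by
  ext x
  constructor
  · intro hx
    obtain ⟨V, hxV, -⟩ := Divisors.exists_affine_le x ⊤ trivial
    have hne : ¬ x ∈ I.support := hx
    rw [I.mem_support_iff_of_mem hxV, Scheme.mem_zeroLocus_iff] at hne
    push Not at hne
    obtain ⟨f, hf, hxf⟩ := hne
    rw [SetLike.mem_coe, hI] at hf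
    obtain ⟨m, hm⟩ := exists_isProd s hf
    let D := X.basicOpen f
    have hle : D ≤ V.1 := X.basicOpen_le f
    have hu : IsUnit (resX X hle f) := RingedSpace.isUnit_res_basicOpen X.toRingedSpace f
    refine ⟨D, hxf, (↑hu.unit⁻¹ : Γ(X, D)) • res L hle m, fun y => ?_⟩
    change _ = LocalizedModule.mk (L.presheaf.germ D y.1 y.2 _) 1
    rw [Mero.germ_smul, ← LocalizedModule.smul'_mk]
    rw [← (hm.res s hle) y, smul_smul, ← map_mul, IsUnit.val_inv_mul, map_one, one_smul]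
  · rintro ⟨V, hxV, m, hm⟩
    obtain ⟨W, hxW, hWV⟩ := Divisors.exists_affine_le x V hxV
    have h1 : (1 : Γ(X, W.1)) ∈ I.ideal W := by
      rw [hI]
      refine (MeroDenom.mem_denomIdeal_iff s).2 ⟨res L hWV m, fun y => ?_⟩
      rw [map_one, one_smul]
      exact (hm ⟨y.1, hWV y.2⟩).trans
        (Mero.mk_congr (TopCat.Presheaf.germ_res_apply L.presheaf (homOfLE hWV) y.1 y.2 m).symm rfl)
    change ¬ x ∈ I.support
    rw [I.mem_support_iff_of_mem hxW, Scheme.mem_zeroLocus_iff]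
    exact fun h => h 1 h1 (by rw [Scheme.basicOpen_of_isUnit X isUnit_one]; exact hxW)

section BlowUp

variable {X' : Scheme.{u}} (b : X' ⟶ X) (I : X.IdealSheafData)

/-- The pullback of a function. -/
noncomputable abbrev pullX {U : X.Opens} {W : X'.Opens} (h : W ≤ b ⁻¹ᵁ U) : Γ(X, U) →+* Γ(X', W) :=
  (b.appLE U W h).hom

/-- The pullback of a section. -/
noncomputable abbrev pullL {U : X.Opens} {W : X'.Opens} (h : W ≤ b ⁻¹ᵁ U) (m : Γ(L, U)) :
    Γ((Scheme.Modules.pullback b).obj L, W) :=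
  res _ h (pullSec b L m)

theorem pullL_smul {U : X.Opens} {W : X'.Opens} (h : W ≤ b ⁻¹ᵁ U) (r : Γ(X, U)) (m : Γ(L, U)) :
    pullL b h (r • m) = pullX b h r • pullL b h m := by
  simp only [pullL, pullSec_smul, res_smul]
  rfl

theorem resX_pullX {U : X.Opens} {W W' : X'.Opens} (h : W ≤ b ⁻¹ᵁ U) (h' : W' ≤ W) (r : Γ(X, U)) :
    resX X' h' (pullX b h r) = pullX b (h'.trans h) r := by
  show resX X' h' (resX X' h (b.app U r)) = resX X' (h'.trans h) (b.app U r)
  rw [resX_resX]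

theorem pullX_resX {U U' : X.Opens} (hU : U' ≤ U) {W : X'.Opens} (h : W ≤ b ⁻¹ᵁ U') (r : Γ(X, U)) :
    pullX b h (resX X hU r) = pullX b (h.trans (b.preimage_mono hU)) r := by
  show (X.presheaf.map (homOfLE hU).op ≫ b.appLE U' W h) r = _
  rw [Scheme.Hom.map_appLE]

theorem res_pullL {U : X.Opens} {W W' : X'.Opens} (h : W ≤ b ⁻¹ᵁ U) (h' : W' ≤ W) (m : Γ(L, U)) :
    res _ h' (pullL b h m) = pullL b (h'.trans h) m := by
  simp only [pullL, res_res]

theorem pullL_res {U U' : X.Opens} (hU : U' ≤ U) {W : X'.Opens} (h : W ≤ b ⁻¹ᵁ U') (m : Γ(L, U)) :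
    pullL b h (res L hU m) = pullL b (h.trans (b.preimage_mono hU)) m := by
  simp only [pullL, ← res_pullSec, res_res]

variable (hL : PicF.IsInvertible L) (hI : ∀ V : X.affineOpens, I.ideal V = Mero.denomIdeal L s V.1)

include hL hI in
/-- Division by an element of the exceptional ideal. -/
theorem exists_quot (V : X.affineOpens) (W : X'.affineOpens) (hWV : W.1 ≤ b ⁻¹ᵁ V.1) {y : Γ(X', W.1)}
    (hy : y ∈ (I.comap b).ideal W) :
    ∃ g : Γ((Scheme.Modules.pullback b).obj L, W.1), ∀ (V' : X.affineOpens) (f : Γ(X, V'.1))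
      (m : Γ(L, V'.1)), IsProd s f m → ∀ (W' : X'.Opens) (h : W' ≤ W.1) (h' : W' ≤ b ⁻¹ᵁ V'.1),
        pullX b h' f • res _ h g = resX X' h y • pullL b h' m := by
  rw [Divisors.ideal_comap_affine I b V W hWV, hI] at hy
  induction hy using Submodule.span_induction with
  | mem y hy =>
    obtain ⟨f₀, hf₀, rfl⟩ := hy
    obtain ⟨m₀, hm₀⟩ := exists_isProd s hf₀
    refine ⟨pullL b hWV m₀, fun V' f m hm W' h h' => ?_⟩
    have hle : W' ≤ b ⁻¹ᵁ (V.1 ⊓ V'.1) := fun z hz => ⟨hWV (h hz), h' hz⟩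
    rw [res_pullL]
    change _ = resX X' h (pullX b hWV f₀) • _
    rw [resX_pullX, ← pullX_resX b (inf_le_left : V.1 ⊓ V'.1 ≤ V.1) hle,
      ← pullX_resX b (inf_le_right : V.1 ⊓ V'.1 ≤ V'.1) hle,
      ← pullL_res b (inf_le_left : V.1 ⊓ V'.1 ≤ V.1) hle m₀,
      ← pullL_res b (inf_le_right : V.1 ⊓ V'.1 ≤ V'.1) hle m, ← pullL_smul, ← pullL_smul,
      (hm.res s inf_le_right).cross s hL (hm₀.res s inf_le_left)]
  | zero => exact ⟨0, fun _ _ _ _ W' h h' => by rw [res_zero, smul_zero, map_zero, zero_smul]⟩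
  | add y y' _ _ hy hy' =>
    obtain ⟨g, hg⟩ := hy
    obtain ⟨g', hg'⟩ := hy'
    exact ⟨g + g', fun V' f m hm W' h h' => by
      rw [res_add, smul_add, hg V' f m hm W' h h', hg' V' f m hm W' h h', map_add, add_smul]⟩
  | smul a y _ hy =>
    obtain ⟨g, hg⟩ := hy
    exact ⟨a • g, fun V' f m hm W' h h' => by
      rw [res_smul, smul_comm, hg V' f m hm W' h h', smul_eq_mul, map_mul, mul_smul]⟩

variable (hE : BlowUp.IsEffCartierIdeal (I.comap b)) {M : X'.Modules} (hM : PicF.IsInvertible M)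

include hI hE hM in
/-- A section killed by the exceptional ideal vanishes. -/
theorem eq_zero_of_kill {O : X'.Opens} (d : Γ(M, O))
    (h : ∀ (V : X.affineOpens) (f : Γ(X, V.1)), f ∈ Mero.denomIdeal L s V.1 →
      ∀ (W' : X'.Opens) (hW : W' ≤ O) (h' : W' ≤ b ⁻¹ᵁ V.1), pullX b h' f • res M hW d = 0) : d = 0 := by
  have hloc : ∀ z : (O : Set X'), ∃ W : X'.affineOpens, z.1 ∈ W.1 ∧ ∃ hWO : W.1 ≤ O, res M hWO d = 0 := by
    rintro ⟨z, hz⟩
    obtain ⟨V, hzV, -⟩ := Divisors.exists_affine_le (b z) ⊤ trivial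
    obtain ⟨U, e, hzU, he⟩ := (isInvertible_iff_exists_gen _).1 hM z
    obtain ⟨W, hzW, hW, t, ht, htI⟩ := Divisors.exists_generator hE z (O ⊓ U ⊓ b ⁻¹ᵁ V.1) ⟨⟨hz, hzU⟩, hzV⟩
    have hWO : W.1 ≤ O := fun y hy => (hW hy).1.1
    have hWU : W.1 ≤ U := fun y hy => (hW hy).1.2
    have hWV : W.1 ≤ b ⁻¹ᵁ V.1 := fun y hy => (hW hy).2
    refine ⟨W, hzW, hWO, ?_⟩
    have key : ∀ y ∈ (I.comap b).ideal W, y • res M hWO d = 0 := by
      intro y hy
      rw [Divisors.ideal_comap_affine I b V W hWV, hI] at hy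
      induction hy using Submodule.span_induction with
      | mem y hy => obtain ⟨f, hf, rfl⟩ := hy; exact h V f hf W.1 hWO hWV
      | zero => exact zero_smul _ _
      | add y y' _ _ h h' => rw [add_smul, h, h', add_zero]
      | smul a y _ h => rw [smul_eq_mul, mul_smul, h, smul_zero]
    have h1 := key t (htI ▸ Ideal.mem_span_singleton_self t)
    obtain ⟨c, hc⟩ := he.exists_coeff hWU (res M hWO d)
    rw [hc, ← mul_smul] at h1
    have h2 : t * c = 0 := he.smul_inj hWU (h1.trans (zero_smul _ _).symm)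
    rw [hc, (mul_left_mem_nonZeroDivisors_eq_zero_iff ht.mem_nonZeroDivisors).1 h2, zero_smul]
  choose W hzW hWO h0 using hloc
  refine res_ext (fun z => (W z).1) hWO (fun z hz => Opens.mem_iSup.2 ⟨⟨z, hz⟩, hzW _⟩) fun z => ?_
  rw [h0, res_zero]

end BlowUp

theorem regularSection_of_local {X : Scheme.{u}} {M : X.Modules} {σ : Coh.structureModule X ⟶ M}
    (h : ∀ z : X, ∃ (U : X.Opens) (e : Γ(M, U)) (c : Γ(X, U)), z ∈ U ∧ Gen M U e ∧
      σ.app U (oneSec X U) = c • e ∧ Divisors.IsNzdSec c) : RegularSection M σ := by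
  intro W e he c hc z hz
  obtain ⟨U, e₀, c₀, hzU, he₀, hc₀, hnzd⟩ := h z
  obtain ⟨a, ha⟩ := (he.res (inf_le_left : W ⊓ U ≤ W)).exists_unit (he₀.res inf_le_right)
  have h1 := congrArg (res M (inf_le_left : W ⊓ U ≤ W)) hc
  have h2 := congrArg (res M (inf_le_right : W ⊓ U ≤ U)) hc₀
  rw [res_app_oneSec, res_smul] at h1 h2
  have h3 : resX X (inf_le_left : W ⊓ U ≤ W) c = resX X (inf_le_right : W ⊓ U ≤ U) c₀ * (a : Γ(X, W ⊓ U)) := by
    refine he.smul_inj inf_le_left ?_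
    rw [← h1, h2, ha, mul_smul]
  have h4 := congrArg (X.presheaf.germ (W ⊓ U) z ⟨hz, hzU⟩).hom h3
  rw [map_mul, germ_resX, germ_resX] at h4
  rw [h4]
  exact Submonoid.mul_mem _ (hnzd z hzU) (a.isUnit.map _).mem_nonZeroDivisors

theorem exists_frame_div {X : Scheme.{u}} {N : X.Modules} {σ : Coh.structureModule X ⟶ N}
    (hN : PicF.IsInvertible N) (hE : BlowUp.IsEffCartierIdeal (PicF2.zeroScheme N σ)) (x : X) (O : X.Opens)
    (hx : x ∈ O) :
    ∃ (W : X.affineOpens) (n : Γ(N, W.1)) (t : Γ(X, W.1)), x ∈ W.1 ∧ W.1 ≤ O ∧ Gen N W.1 n ∧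
      σ.app W.1 (oneSec X W.1) = t • n ∧ Divisors.IsNzdSec t ∧
      (PicF2.zeroScheme N σ).ideal W = Ideal.span {t} := by
  obtain ⟨U, n, hxU, hn⟩ := (isInvertible_iff_exists_gen _).1 hN x
  obtain ⟨W, hxW, hW, g, hg, hgI⟩ := Divisors.exists_generator hE x (U ⊓ O) ⟨hxU, hx⟩
  have hWU : W.1 ≤ U := hW.trans inf_le_left
  obtain ⟨t, ht⟩ := (hn.res hWU).exists_coeff le_rfl (σ.app W.1 (oneSec X W.1))
  rw [res_self] at ht
  have hI := Variety2.Zero.zeroScheme_ideal_eq_span hN σ W (hn.res hWU) ht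
  refine ⟨W, res N hWU n, t, hxW, hW.trans inf_le_right, hn.res hWU, ht, fun y hy => ?_, hI⟩
  have hgt : g ∈ Ideal.span {t} := hI ▸ hgI ▸ Ideal.mem_span_singleton_self g
  obtain ⟨a, ha⟩ := Ideal.mem_span_singleton'.1 hgt
  have := hg y hy
  rw [← ha, map_mul] at this
  exact (mul_mem_nonZeroDivisors.1 this).2

variable (hL : PicF.IsInvertible L) (hs : Mero.IsRegularMero L s) (I : X.IdealSheafData)
  (hI : ∀ V : X.affineOpens, I.ideal V = Mero.denomIdeal L s V.1)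

include hL hs hI in
/-- On the blow up in the ideal of denominators, `b^*L` is the difference of two divisors. -/
theorem exists_divisor {X' : Scheme.{u}} (b : X' ⟶ X) (hb : BlowUp.IsBlowUp b I) :
    ∃ 𝓓 : X'.IdealSheafData, BlowUp.IsEffCartierIdeal 𝓓 ∧
      Nonempty (CohB1.tensorMod ((Scheme.Modules.pullback b).obj L) (ClSub.idealMod 𝓓) ≅
        ClSub.idealMod (I.comap b)) := by
  obtain ⟨N, sE, hN, hNinv, hsE⟩ := exists_invertible_section hb.1
  set L' := (Scheme.Modules.pullback b).obj L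
  have hL' : PicF.IsInvertible L' := isInvertible_pullback b hL
  have hM : PicF.IsInvertible (CohB1.tensorMod L' N) := isInvertible_tensorMod hL' hN
  have hloc : ∀ z : X', ∃ (W : X'.affineOpens) (σ : Γ(CohB1.tensorMod L' N, W.1)), z ∈ W.1 ∧
      ∀ (V' : X.affineOpens) (f : Γ(X, V'.1)) (m : Γ(L, V'.1)), IsProd s f m →
        ∀ (W' : X'.Opens) (h : W' ≤ W.1) (h' : W' ≤ b ⁻¹ᵁ V'.1),
          pullX b h' f • res _ h σ = tmulSec (pullL b h' m) (sE.app W' (oneSec X' W')) := by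
    intro z
    obtain ⟨V, hzV, -⟩ := Divisors.exists_affine_le (b z) ⊤ trivial
    obtain ⟨W, n, t, hzW, hWV, hn, hsn, -, htI⟩ := exists_frame_div hN (hsE.symm ▸ hb.1) z (b ⁻¹ᵁ V.1) hzV
    rw [hsE] at htI
    obtain ⟨g, hg⟩ := exists_quot s b I hL hI V W hWV (htI ▸ Ideal.mem_span_singleton_self t)
    refine ⟨W, tmulSec g n, hzW, fun V' f m hm W' h h' => ?_⟩
    have h1 := congrArg (res N h) hsn
    rw [res_app_oneSec, res_smul] at h1
    rw [res_tmulSec, ← tmulSec_smul_left, hg V' f m hm W' h h', h1, tmulSec_smul_left, tmulSec_smul_right]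
  choose W σ hzW hσ using hloc
  have hcov : iSup (fun z => (W z).1) = ⊤ := eq_top_iff.2 fun z _ => Opens.mem_iSup.2 ⟨z, hzW z⟩
  obtain ⟨S, hS, -⟩ := res_glue (M := CohB1.tensorMod L' N) (fun z => (W z).1) (U := ⊤)
    (fun z => le_top) hcov.ge σ fun i j => by
      refine sub_eq_zero.1 (eq_zero_of_kill s b I hI hb.1 hM _ fun V f hf W' hW h' => ?_)
      obtain ⟨m, hm⟩ := exists_isProd s hf
      rw [show res _ hW (_ - _) = _ from map_sub _ _ _, smul_sub, sub_eq_zero]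
      show pullX b h' f • res _ hW (res _ _ (σ i)) = pullX b h' f • res _ hW (res _ _ (σ j))
      rw [res_res, res_res, hσ i V f m hm, hσ j V f m hm]
  let σS := homOfSection S
  have hreg : RegularSection (CohB1.tensorMod L' N) σS := by
    refine regularSection_of_local fun z => ?_
    obtain ⟨V, e, c, d, hzV, he, hc, hd, hprod⟩ := exists_regular_prod s hL hs (b z)
    obtain ⟨W₀, n, t, hzW₀, hW₀, hn, hsn, ht, -⟩ := exists_frame_div hN (hsE.symm ▸ hb.1) z
      ((W z).1 ⊓ b ⁻¹ᵁ V.1) ⟨hzW z, hzV⟩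
    have h1 : W₀.1 ≤ (W z).1 := hW₀.trans inf_le_left
    have h2 : W₀.1 ≤ b ⁻¹ᵁ V.1 := hW₀.trans inf_le_right
    have hgen : Gen (CohB1.tensorMod L' N) W₀.1 (tmulSec (pullL b h2 e) n) :=
      ((he.pull b).res h2).tensor hn
    obtain ⟨u, hu⟩ := hgen.exists_coeff le_rfl (σS.app W₀.1 (oneSec X' W₀.1))
    rw [res_self] at hu
    refine ⟨W₀.1, _, u, hzW₀, hgen, hu, fun y hy => ?_⟩
    have hS' : σS.app W₀.1 (oneSec X' W₀.1) = res _ h1 (σ z) := by
      rw [← hS z, res_res, ← res_app_oneSec σS (le_top : W₀.1 ≤ ⊤), homOfSection_one]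
    have key : pullX b h2 d * u = pullX b h2 c * t := by
      refine hgen.smul_inj le_rfl ?_
      rw [res_self, mul_smul, mul_smul, ← hu, hS', hσ z V d _ hprod, hsn, pullL_smul, tmulSec_smul_left,
        tmulSec_smul_right]
    have hnzd : Divisors.IsNzdSec (pullX b h2 c) := (Divisors.isNzdSec_app hb hc).res h2
    have := (hnzd.mul ht) y hy
    rw [← key, map_mul] at this
    exact (mul_mem_nonZeroDivisors.1 this).2
  refine ⟨PicF2.zeroScheme _ σS, isEffCartierIdeal_zeroScheme hM hreg, ?_⟩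
  obtain ⟨e₁⟩ := isInverseOf_zeroScheme hM hreg
  have hD := isInvertible_idealMod (isEffCartierIdeal_zeroScheme hM hreg)
  have hIE := isInvertible_idealMod hb.1
  generalize ClSub.idealMod (PicF2.zeroScheme (CohB1.tensorMod L' N) σS) = D at e₁ hD ⊢
  generalize ClSub.idealMod (I.comap b) = E at hNinv hIE ⊢
  obtain ⟨e₂⟩ := hNinv
  -- `(L' ⊗ D) ⊗ N ≅ O`, and `E` is the inverse of `N`
  obtain ⟨a₁⟩ := tensorMod_assoc hL' hN hD
  obtain ⟨c₁⟩ := tensorMod_comm hN hD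
  obtain ⟨a₂⟩ := tensorMod_assoc hL' hD hN
  have hLD := isInvertible_tensorMod hL' hD
  let f₁ : CohB1.tensorMod (CohB1.tensorMod L' D) N ≅ Coh.structureModule X' :=
    a₂ ≪≫ PicGrp.tensorModIso (Iso.refl L') c₁.symm ≪≫ a₁.symm ≪≫ e₁
  obtain ⟨u₁⟩ := tensorMod_iso_structure_of_iso hIE f₁
  obtain ⟨a₃⟩ := tensorMod_assoc hLD hN hIE
  obtain ⟨u₂⟩ := tensorMod_iso_structure_of_iso hLD e₂
  obtain ⟨c₂⟩ := tensorMod_comm (isInvertible_tensorMod hN hIE) hLD
  exact ⟨u₂.symm ≪≫ c₂ ≪≫ a₃.symm ≪≫ u₁⟩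

end Groth.RefRank.MeroBlowUp
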