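import Groth.Agent.RefRank.MeroTotal
import Groth.Agent.PicAux.QCoh
import Groth.Agent.QCohMod.Sections

/-!
# The ideal of denominators of a meromorphic section
-/

set_option autoImplicit false
universe u

open CategoryTheory AlgebraicGeometry Opposite TopologicalSpace Groth.PicAux

namespace Groth.RefRank.MeroDenom

variable {X : Scheme.{u}} {L : X.Modules}

theorem coeff_germ {U : X.Opens} {e : Γ(L, U)} {y : X} (hy : y ∈ U) {V : X.Opens} (hVU : V ≤ U) (hyV : y ∈ V)
    (c : Γ(X, V)) :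
    L.presheaf.germ V y hyV (c • res L hVU e) = X.presheaf.germ V y hyV c • L.presheaf.germ U y hy e := by
  rw [Mero.germ_smul]
  congr 1
  exact TopCat.Presheaf.germ_res_apply L.presheaf (homOfLE hVU) y hyV e

theorem mk_germ_injective (hL : PicF.IsInvertible L) (x : X) :
    Function.Injective (fun v : L.presheaf.stalk x => (LocalizedModule.mk v 1 : Mero.MStalk L x)) := by
  obtain ⟨U, e, hxU, he⟩ := (isInvertible_iff_exists_gen _).1 hL x
  intro v w hvw
  obtain ⟨t, ht⟩ := LocalizedModule.mk_eq.1 hvw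
  simp only [Submonoid.smul_def, Submonoid.coe_one, one_smul] at ht
  obtain ⟨V, hxV, m, hm⟩ := TopCat.Presheaf.exists_germ_eq L.presheaf (v - w)
  obtain ⟨c, hc⟩ := he.exists_coeff (inf_le_left : U ⊓ V ≤ U) (res L inf_le_right m)
  have e1 : v - w = X.presheaf.germ (U ⊓ V) x ⟨hxU, hxV⟩ c • L.presheaf.germ U x hxU e := by
    rw [← coeff_germ hxU inf_le_left ⟨hxU, hxV⟩ c, ← hc, ← hm]
    exact (TopCat.Presheaf.germ_res_apply L.presheaf (homOfLE inf_le_right) x ⟨hxU, hxV⟩ m).symm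
  have h0 : ((t : X.presheaf.stalk x) * X.presheaf.germ (U ⊓ V) x ⟨hxU, hxV⟩ c) = 0 :=
    germ_smul_eq_zero he hxU (by rw [mul_smul, ← e1, smul_sub, ht, sub_self])
  have hc0 := (mul_left_mem_nonZeroDivisors_eq_zero_iff
    (Mero.regStalk_le_nonZeroDivisors x t.2)).1 h0
  rw [hc0, zero_smul, sub_eq_zero] at e1
  exact e1

variable (s : Γ(Mero.merMod L, ⊤))

theorem mem_denomIdeal_iff {U : X.Opens} {f : Γ(X, U)} :
    f ∈ Mero.denomIdeal L s U ↔ ∃ m : Γ(L, U), ∀ x : U,
      X.presheaf.germ U x.1 x.2 f • s.1 ⟨x.1, Opens.mem_top x.1⟩ =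
        LocalizedModule.mk (L.presheaf.germ U x.1 x.2 m) 1 := Iff.rfl

theorem exists_local_frac (hL : PicF.IsInvertible L) (x : X) {O : X.Opens} (hx : x ∈ O) :
    ∃ (W : X.affineOpens) (e : Γ(L, W.1)) (c : Γ(X, W.1)) (b : Mero.regSub X W.1),
      x ∈ W.1 ∧ W.1 ≤ O ∧ Gen L W.1 e ∧ ∀ y : W.1, s.1 ⟨y.1, Opens.mem_top y.1⟩ =
        LocalizedModule.mk (L.presheaf.germ W.1 y.1 y.2 (c • e)) (Mero.regGerm y b) := by
  obtain ⟨U, e, hxU, he⟩ := (isInvertible_iff_exists_gen _).1 hL x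
  obtain ⟨V, hxV, i, m, b, hmb⟩ := s.2 ⟨x, trivial⟩
  obtain ⟨⟨W, hW⟩, hxW, hle⟩ := Groth.Divisors.exists_affine_le x (U ⊓ V ⊓ O) ⟨⟨hxU, hxV⟩, hx⟩
  have hWU : W ≤ U := fun z hz => (hle hz).1.1
  have hWV : W ≤ V := fun z hz => (hle hz).1.2
  obtain ⟨c, hc⟩ := he.exists_coeff hWU (res L hWV m)
  refine ⟨⟨W, hW⟩, res L hWU e, c, ⟨resX X hWV b.1, Mero.regSub_res (homOfLE hWV) b.2⟩,
    hxW, fun z hz => (hle hz).2, he.res hWU, fun y => ?_⟩
  refine (hmb ⟨y.1, hWV y.2⟩).trans (Mero.mk_congr ?_ ?_)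
  · rw [← hc]
    exact (TopCat.Presheaf.germ_res_apply L.presheaf (homOfLE hWV) y.1 y.2 m).symm
  · exact (germ_resX hWV y.1 y.2 b.1).symm

theorem exists_pow_mem (hL : PicF.IsInvertible L) {U : X.Opens} (hU : IsCompact (U : Set X))
    (g r : Γ(X, U)) (m : Γ(L, U))
    (h : ∀ (y : X) (hyg : y ∈ X.basicOpen g),
      X.presheaf.germ U y (X.basicOpen_le g hyg) r • s.1 ⟨y, Opens.mem_top y⟩ =
        LocalizedModule.mk (L.presheaf.germ U y (X.basicOpen_le g hyg) m) 1) :
    ∃ k : ℕ, g ^ k * r ∈ Mero.denomIdeal L s U := by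
  have hloc : ∀ x : U, ∃ (W : X.Opens) (_ : x.1 ∈ W) (hWU : W ≤ U) (k : ℕ), ∀ (y : X) (hy : y ∈ W),
      X.presheaf.germ U y (hWU hy) g ^ k • (X.presheaf.germ U y (hWU hy) r • s.1 ⟨y, Opens.mem_top y⟩) =
        X.presheaf.germ U y (hWU hy) g ^ k •
          (LocalizedModule.mk (L.presheaf.germ U y (hWU hy) m) 1 : Mero.MStalk L y) := by
    intro x
    obtain ⟨⟨W, hW⟩, e, c, b, hxW, hWU, he, hs⟩ := exists_local_frac s hL x.1 x.2
    have hWU' : W ≤ U := hWU
    obtain ⟨d, hd⟩ := he.exists_coeff (le_refl W) (res L hWU' m)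
    rw [res_self] at hd
    let u := resX X hWU' r * c - b.1 * d
    let g' := resX X hWU' g
    have key : ∀ (y : X) (hy : y ∈ W) (q : X.presheaf.stalk y), q * X.presheaf.germ W y hy u = 0 ↔
        q • (X.presheaf.germ U y (hWU' hy) r • s.1 ⟨y, Opens.mem_top y⟩) =
          q • (LocalizedModule.mk (L.presheaf.germ U y (hWU' hy) m) 1 : Mero.MStalk L y) := by
      intro y hy q
      have em : L.presheaf.germ U y (hWU' hy) m = X.presheaf.germ W y hy d • L.presheaf.germ W y hy e := by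
        rw [← Mero.germ_smul, ← hd]
        exact (TopCat.Presheaf.germ_res_apply L.presheaf (homOfLE hWU') y hy m).symm
      rw [hs ⟨y, hy⟩, em, Mero.germ_smul]
      change _ ↔ q • (_ • LocalizedModule.mk _ _) = q • LocalizedModule.mk _ _
      rw [LocalizedModule.smul'_mk, LocalizedModule.smul'_mk, LocalizedModule.smul'_mk, smul_smul,
        smul_smul, smul_smul, LocalizedModule.mk_eq]
      simp only [Submonoid.smul_def, Submonoid.coe_one, smul_smul, one_mul]
      constructor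
      · intro h0
        refine ⟨1, ?_⟩
        simp only [Submonoid.coe_one, one_mul]
        congr 1
        rw [← sub_eq_zero, ← h0]
        simp only [u, map_sub, map_mul, germ_resX]
        ring
      · rintro ⟨t, ht⟩
        rw [← sub_eq_zero, ← sub_smul] at ht
        have h0 := germ_smul_eq_zero he hy ht
        refine (mul_left_mem_nonZeroDivisors_eq_zero_iff (Mero.regStalk_le_nonZeroDivisors y t.2)).1 ?_
        rw [← h0]
        simp only [u, map_sub, map_mul, germ_resX]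
        ring
    have hu0 : resX X (X.basicOpen_le g') u = 0 := by
      refine Groth.Divisors.section_ext fun y hy => ?_
      rw [germ_resX, map_zero]
      have hyg : y ∈ X.basicOpen g := ((X.basicOpen_res g (homOfLE hWU').op).le hy).2
      have := (key y (X.basicOpen_le g' hy) 1).2 (by rw [one_smul, one_smul]; exact h y hyg)
      rwa [one_mul] at this
    obtain ⟨k, hk⟩ := exists_pow_mul_eq_zero_of_res_basicOpen_eq_zero_of_isCompact X hW.isCompact u g' hu0
    refine ⟨W, hxW, hWU', k, fun y hy => (key y hy _).1 ?_⟩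
    have e2 := congrArg (X.presheaf.germ W y hy) hk
    rw [map_mul, map_pow, map_zero, germ_resX] at e2
    exact e2
  choose W hxW hWU k hk using hloc
  obtain ⟨t, ht⟩ := hU.elim_finite_subcover (fun x : U => (W x : Set X)) (fun x => (W x).2)
    fun x hx => Set.mem_iUnion.2 ⟨⟨x, hx⟩, hxW ⟨x, hx⟩⟩
  refine ⟨t.sup k, (mem_denomIdeal_iff s).2 ⟨g ^ t.sup k • m, fun y => ?_⟩⟩
  obtain ⟨x, hxt, hyx⟩ := Set.mem_iUnion₂.1 (ht y.2)
  rw [map_mul, map_pow, mul_smul, Mero.germ_smul, map_pow, ← LocalizedModule.smul'_mk,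
    ← Nat.sub_add_cancel (Finset.le_sup (f := k) hxt), pow_add, mul_smul, mul_smul, hk x y.1 hyx]

theorem res_mem_denomIdeal {U V : X.Opens} (h : V ≤ U) {f : Γ(X, U)} (hf : f ∈ Mero.denomIdeal L s U) :
    resX X h f ∈ Mero.denomIdeal L s V := by
  obtain ⟨m, hm⟩ := (mem_denomIdeal_iff s).1 hf
  refine (mem_denomIdeal_iff s).2 ⟨res L h m, fun y => ?_⟩
  rw [germ_resX, hm ⟨y.1, h y.2⟩]
  exact Mero.mk_congr (TopCat.Presheaf.germ_res_apply L.presheaf (homOfLE h) y.1 y.2 m).symm rfl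

theorem map_denomIdeal_basicOpen (hL : PicF.IsInvertible L) (U : X.affineOpens) (g : Γ(X, U.1)) :
    (Mero.denomIdeal L s U.1).map (X.presheaf.map (homOfLE <| X.basicOpen_le g).op).hom =
      Mero.denomIdeal L s (X.affineBasicOpen g).1 := by
  refine le_antisymm (Ideal.map_le_iff_le_comap.2 fun f hf =>
    res_mem_denomIdeal s (X.basicOpen_le g) hf) fun f hf => ?_
  haveI : L.IsQuasicoherent := isQCoh_of_isInvertible hL
  haveI := U.2.isLocalization_basicOpen g
  obtain ⟨m, hm⟩ := (mem_denomIdeal_iff s).1 hf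
  obtain ⟨⟨r, ⟨_, n, rfl⟩⟩, hr⟩ := IsLocalization.surj (Submonoid.powers g) (S := Γ(X, X.basicOpen g)) f
  obtain ⟨k, m', hm'⟩ := Groth.QCohMod.exists_pow_smul_eq_res L U.2 g m
  let D := X.basicOpen g
  have hle : D ≤ U.1 := X.basicOpen_le g
  obtain ⟨j, hj⟩ := exists_pow_mem s hL U.2.isCompact g (g ^ k * r) (g ^ n • m') (fun y hyg => by
    have e1 := congrArg (X.presheaf.germ D y hyg) hr
    rw [map_mul] at e1
    change X.presheaf.germ D y hyg f * X.presheaf.germ D y hyg (resX X hle (g ^ n)) =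
      X.presheaf.germ D y hyg (resX X hle r) at e1
    rw [germ_resX, germ_resX] at e1
    have e2 := congrArg (L.presheaf.germ D y hyg) hm'
    erw [TopCat.Presheaf.germ_res_apply, Mero.germ_smul] at e2
    rw [Mero.germ_smul, e2, map_mul, ← e1]
    change _ = LocalizedModule.mk (_ • (X.presheaf.germ D y hyg (resX X hle g ^ k) • _)) _
    have e3 : LocalizedModule.mk ((L.presheaf.germ D y hyg) m) 1 =
      X.presheaf.germ D y hyg f • s.1 ⟨y, trivial⟩ := (hm ⟨y, hyg⟩).symm
    rw [map_pow (X.presheaf.germ D y hyg).hom, germ_resX, ← LocalizedModule.smul'_mk,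
      ← LocalizedModule.smul'_mk, e3, smul_smul, smul_smul, map_pow, map_pow]
    congr 1
    ring)
  have hu : IsUnit (resX X hle (g ^ (j + k + n))) := by
    rw [map_pow]
    exact (RingedSpace.isUnit_res_basicOpen X.toRingedSpace g).pow _
  refine (Ideal.unit_mul_mem_iff_mem _ hu).1 ?_
  have : resX X hle (g ^ (j + k + n)) * f = resX X hle (g ^ j * (g ^ k * r)) := by
    have hr' : f * resX X hle (g ^ n) = resX X hle r := hr
    rw [map_mul, map_mul, ← hr', map_pow, map_pow, map_pow, map_pow]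
    ring
  rw [this]
  exact Ideal.mem_map_of_mem _ hj

/-- The ideal sheaf of denominators. -/
noncomputable def denomData (hL : PicF.IsInvertible L) : X.IdealSheafData where
  ideal U := Mero.denomIdeal L s U.1
  map_ideal_basicOpen U g := map_denomIdeal_basicOpen s hL U g

theorem interior_support_denomData (hL : PicF.IsInvertible L) :
    interior ((denomData s hL).support : Set X) = ∅ := by
  rw [Set.eq_empty_iff_forall_notMem]
  intro x hx
  obtain ⟨⟨W, hW⟩, e, c, b, hxW, hWO, -, hs⟩ :=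
    exists_local_frac s hL x (O := ⟨_, isOpen_interior⟩) hx
  have hbW : b.1 ∈ Mero.denomIdeal L s W := (mem_denomIdeal_iff s).2 ⟨c • e, fun y => by
    rw [hs y, LocalizedModule.smul'_mk]
    exact LocalizedModule.mk_eq.2 ⟨1, by simp [Submonoid.smul_def]⟩⟩
  have hbot : X.basicOpen b.1 = ⊥ := by
    refine eq_bot_iff.2 fun y hy => ?_
    have hyW : y ∈ W := X.basicOpen_le b.1 hy
    have hsup : y ∈ (denomData s hL).support := interior_subset (hWO hyW)
    exact ((Scheme.mem_zeroLocus_iff _ _ _).1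
      (((denomData s hL).mem_support_iff_of_mem (U := ⟨W, hW⟩) hyW).1 hsup) b.1 hbW hy).elim
  have h0 : resX X (X.basicOpen_le b.1) (1 : Γ(X, W)) = 0 :=
    Groth.Divisors.section_ext fun y hy => absurd (hbot.le hy) (by simp)
  obtain ⟨n, hn⟩ := exists_pow_mul_eq_zero_of_res_basicOpen_eq_zero_of_isCompact X hW.isCompact 1 b.1 h0
  have e2 := congrArg (X.presheaf.germ W x hxW) hn
  rw [map_mul, map_pow, map_one, map_zero, mul_one] at e2
  exact nonZeroDivisors.ne_zero (pow_mem (b.2 ⟨x, hxW⟩) n) e2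

end Groth.RefRank.MeroDenom
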