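import Groth.Agent.RefRank.FittSheaf
import Groth.Agent.OmegaSheaf.Pull
import Groth.Agent.OmegaSheaf.Universal
import Groth.Agent.OmegaSheaf.Smooth
import Groth.Agent.QCohMod.OpenSupport
import Mathlib.AlgebraicGeometry.Morphisms.FormallyUnramified

/-!
# The support of the sheaf of differentials is the ramification locus
-/

set_option autoImplicit false
universe u

open CategoryTheory AlgebraicGeometry TopologicalSpace Groth.QCohMod Groth.OmegaSheaf

namespace Groth.RefRank.OmegaUnramified

variable {X S : Scheme.{u}} (f : X ⟶ S) [QuasiSeparated f]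

theorem formallyUnramified_chart_iff (c : Chart f) :
    FormallyUnramified (c.U.ι ≫ f) ↔ Subsingleton Γ(Omega.sheaf f, c.U) := by
  letI := chartAlg f c.e
  haveI : IsAffine (c.U : Scheme.{u}) := c.hU
  haveI : IsAffine (c.V : Scheme.{u}) := c.hV
  have h1 : FormallyUnramified (c.U.ι ≫ f) ↔ FormallyUnramified (f.resLE c.V c.U c.e) := by
    rw [← Scheme.Hom.resLE_comp_ι f c.e]
    exact ⟨fun _ => FormallyUnramified.of_comp _ c.V.ι, fun h => MorphismProperty.comp_mem _ _ _ h inferInstance⟩
  rw [h1, HasRingHomProperty.iff_of_isAffine (P := @FormallyUnramified), Scheme.Hom.appTop,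
    Scheme.Hom.resLE_app_top, CommRingCat.hom_comp,
    RingHom.FormallyUnramified.respectsIso.cancel_left_isIso, CommRingCat.hom_comp,
    RingHom.FormallyUnramified.respectsIso.cancel_right_isIso]
  rw [show (f.appLE c.V c.U c.e).hom = algebraMap Γ(S, c.V) Γ(X, c.U) from rfl,
    RingHom.formallyUnramified_algebraMap, Algebra.formallyUnramified_iff]
  exact ((chartEquiv f c.e c.hV c.hU).toEquiv.subsingleton_congr)

theorem notMem_support_iff [LocallyOfFiniteType f] (x : X) :
    x ∉ CohB1.support (Omega.sheaf f) ↔ ∃ U : X.Opens, x ∈ U ∧ FormallyUnramified (U.ι ≫ f) := by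
  haveI : (Omega.sheaf f).IsQuasicoherent :=
    Groth.OmegaSheaf.isQCoh_of_isUniversal (isUniversal_dOmega f)
  have hft := isFT_sheaf f
  constructor
  · intro hx
    have hopen : IsOpen (CohB1.support (Omega.sheaf f))ᶜ := by
      have h : CohB1.support (Omega.sheaf f) = ((Fitt.sheafIdeal (Omega.sheaf f) 0).support : Set X) := by
        ext y
        refine not_iff_not.1 (Iff.trans ?_ (FittSheaf.notMem_support_iff_spans _ hft 0 y).symm)
        refine Iff.trans (not_not (a := Subsingleton ((Omega.sheaf f).presheaf.stalk y))) ?_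
        constructor
        · intro _
          exact ⟨Fin.elim0, Subsingleton.elim _ _⟩
        · rintro ⟨g, hg⟩
          rw [Set.range_eq_empty, Submodule.span_empty] at hg
          exact (Submodule.subsingleton_iff _).1 (subsingleton_of_bot_eq_top hg)
      rw [h]
      exact (Fitt.sheafIdeal (Omega.sheaf f) 0).support.isClosed.isOpen_compl
    obtain ⟨c, hxc, hc⟩ := exists_chart f (W := ⟨_, hopen⟩) (show x ∈ _ from hx)
    refine ⟨c.U, hxc, (formallyUnramified_chart_iff f c).2 ?_⟩
    refine subsingleton_sections_of_stalk _ c.U fun y hy => ?_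
    exact @AddCommGrpCat.isZero_of_subsingleton _ (not_not.1 (hc hy))
  · rintro ⟨U, hxU, hU⟩ hx
    obtain ⟨c, hxc, hc⟩ := exists_chart f (W := U) hxU
    have : FormallyUnramified (c.U.ι ≫ f) := by
      rw [← X.homOfLE_ι hc, Category.assoc]
      exact MorphismProperty.comp_mem _ _ _ inferInstance hU
    have hs := (formallyUnramified_chart_iff f c).1 this
    exact @not_subsingleton _ (Module.mem_support_iff.1 ((mem_support_iff _ c.hU x hxc).1 hx))
      inferInstance

end Groth.RefRank.OmegaUnramified
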