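import Groth.Agent.RefRank.JacobianEmbed
import Groth.Agent.RefRank.OmegaUnramified

/-!
# The Jacobian loci and local embeddings into smooth schemes
-/

set_option autoImplicit false
universe u

open CategoryTheory AlgebraicGeometry TopologicalSpace Groth.QCohMod Groth.OmegaSheaf

namespace Groth.RefRank.OmegaEmbed

theorem exists_spanning_of_surjective {A C B : Type u} [CommRing A] [CommRing C] [CommRing B]
    [Algebra A C] [Algebra A B] (π : C →ₐ[A] B) (hπ : Function.Surjective π) (p : ℕ)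
    (h : Algebra.IsStandardSmoothOfRelativeDimension p A C) :
    ∃ w : Fin p → Ω[B⁄A], Submodule.span B (Set.range w) = ⊤ := by
  rcases subsingleton_or_nontrivial C with hC | hC
  · haveI : Subsingleton B := hπ.subsingleton
    haveI : Subsingleton (Ω[B⁄A]) := Module.subsingleton B _
    exact ⟨fun _ => 0, Subsingleton.elim _ _⟩
  letI := π.toRingHom.toAlgebra
  haveI : IsScalarTower A C B := IsScalarTower.of_algebraMap_eq fun a => (π.commutes a).symm
  haveI := h
  haveI := Algebra.IsStandardSmoothOfRelativeDimension.isStandardSmooth (R := A) (S := C) p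
  have hrank := Algebra.IsStandardSmoothOfRelativeDimension.rank_kaehlerDifferential (R := A) (S := C) p
  let b := Module.Free.chooseBasis C (Ω[C⁄A])
  have hcard : Nat.card (Module.Free.ChooseBasisIndex C (Ω[C⁄A])) = p := by
    rw [← Cardinal.toNat_natCast p, ← hrank, ← b.mk_eq_rank'']
    rfl
  haveI : Finite (Module.Free.ChooseBasisIndex C (Ω[C⁄A])) := Module.Finite.finite_basis b
  let e := (Finite.equivFinOfCardEq hcard).symm
  refine ⟨fun j => KaehlerDifferential.map A A C B (b (e j)), ?_⟩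
  have h1 := KaehlerDifferential.map_surjective_of_surjective A A C B hπ
  rw [eq_top_iff]
  rintro y -
  obtain ⟨z, rfl⟩ := h1 y
  rw [← b.sum_repr z, map_sum]
  refine Submodule.sum_mem _ fun i _ => ?_
  rw [LinearMap.map_smul, ← algebraMap_smul B]
  exact Submodule.smul_mem _ _ (Submodule.subset_span ⟨e.symm i, by simp⟩)

variable {X Y : Scheme.{u}} (f : X ⟶ Y)

theorem notMem_support_of_embedding [LocallyOfFiniteType f] [QuasiSeparated f] (p : ℕ) (x : X)
    (U : X.Opens) (U' : Scheme.{u}) (i : (U : Scheme.{u}) ⟶ U') (g : U' ⟶ Y) (hxU : x ∈ U)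
    [IsClosedImmersion i] [hg : SmoothOfRelativeDimension p g] (hcomm : i ≫ g = U.ι ≫ f) :
    x ∉ (Fitt.sheafIdeal (Omega.sheaf f) p).support := by
  haveI : (Omega.sheaf f).IsQuasicoherent :=
    Groth.OmegaSheaf.isQCoh_of_isUniversal (isUniversal_dOmega f)
  obtain ⟨V, hV, W, hW, hxW, eW, hsm⟩ := hg.exists_isStandardSmoothOfRelativeDimension (i ⟨x, hxU⟩)
  have hT' : IsAffineOpen (i ⁻¹ᵁ W) := hW.preimage i
  let T : X.Opens := U.ι ''ᵁ (i ⁻¹ᵁ W)
  have hT : IsAffineOpen T := hT'.image_of_isOpenImmersion U.ι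
  have eT : T ≤ f ⁻¹ᵁ V := by
    rintro _ ⟨y, hy, rfl⟩
    change (U.ι ≫ f) y ∈ V
    rw [← hcomm]
    exact eW hy
  have hxT : x ∈ T := ⟨⟨x, hxU⟩, hxW, rfl⟩
  letI := chartAlg f eT
  letI := (g.appLE V W eW).hom.toAlgebra
  have key : g.appLE V W eW ≫ (i.app W ≫ (U.ι.appIso (i ⁻¹ᵁ W)).inv) = f.appLE V T eT := by
    rw [← cancel_mono (U.ι.appIso (i ⁻¹ᵁ W)).hom, Category.assoc, Category.assoc, Iso.inv_hom_id,
      Category.comp_id, Scheme.Hom.appIso_hom', Scheme.Hom.app_eq_appLE, Scheme.Hom.appLE_comp_appLE,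
      Scheme.Hom.appLE_comp_appLE]
    simp only [hcomm]
  let π : Γ(U', W) →ₐ[Γ(Y, V)] Γ(X, T) :=
    { (i.app W ≫ (U.ι.appIso (i ⁻¹ᵁ W)).inv).hom with
      commutes' := fun r => congr($(key) r) }
  have hπ : Function.Surjective π :=
    (ConcreteCategory.bijective_of_isIso (U.ι.appIso (i ⁻¹ᵁ W)).inv).2.comp (i.app_surjective W hW)
  obtain ⟨w, hw⟩ := exists_spanning_of_surjective π hπ p hsm
  rw [FittSheaf.notMem_support_iff_spans _ (isFT_sheaf f)]
  letI := stalkModule (Omega.sheaf f) x hxT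
  haveI := isLocalizedModule_germ (Omega.sheaf f) hT x hxT
  let z : Fin p → Γ(Omega.sheaf f, T) := fun j => chartEquiv f eT hV hT (w j)
  have hz : Submodule.span Γ(X, T) (Set.range z) = ⊤ := by
    rw [show Set.range z = (chartEquiv f eT hV hT) '' Set.range w from Set.range_comp _ _,
      show (chartEquiv f eT hV hT : _ → _) = (chartEquiv f eT hV hT).toLinearMap from rfl,
      Submodule.span_image, hw, Submodule.map_top]
    exact LinearEquiv.range _
  refine ⟨fun j => germₗ (Omega.sheaf f) x hxT (z j), eq_top_iff.2 ?_⟩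
  rintro y -
  obtain ⟨⟨m, s⟩, hs⟩ := IsLocalizedModule.surj (hT.primeIdealOf ⟨x, hxT⟩).asIdeal.primeCompl
    (germₗ (Omega.sheaf f) x hxT) y
  have hm : germₗ (Omega.sheaf f) x hxT m ∈ Submodule.span (X.presheaf.stalk x)
      (Set.range fun j => germₗ (Omega.sheaf f) x hxT (z j)) := by
    clear hs
    have hm := hz.ge (Submodule.mem_top (x := m))
    induction hm using Submodule.span_induction with
    | mem a ha => obtain ⟨j, rfl⟩ := ha; exact Submodule.subset_span ⟨j, rfl⟩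
    | zero => simp
    | add a b _ _ ha hb => rw [map_add]; exact add_mem ha hb
    | smul r a _ ha => rw [map_smul]; exact Submodule.smul_mem _ _ ha
  rw [← hs] at hm
  have hu : IsUnit (X.presheaf.germ T x hxT s.1) :=
    (Scheme.mem_basicOpen X s.1 x hxT).mp ((mem_basicOpen_iff_notMem_primeIdealOf hT s.1 x hxT).mpr s.2)
  exact (Submodule.smul_mem_iff_of_isUnit _ hu).1 hm

theorem exists_embedding [LocallyOfFinitePresentation f] [QuasiSeparated f] (p : ℕ) (x : X)
    (hx : x ∉ (Fitt.sheafIdeal (Omega.sheaf f) p).support) :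
    ∃ (U : X.Opens) (U' : Scheme.{u}) (i : (U : Scheme.{u}) ⟶ U') (g : U' ⟶ Y),
      x ∈ U ∧ IsClosedImmersion i ∧ SmoothOfRelativeDimension p g ∧ i ≫ g = U.ι ≫ f := by
  classical
  haveI : (Omega.sheaf f).IsQuasicoherent :=
    Groth.OmegaSheaf.isQCoh_of_isUniversal (isUniversal_dOmega f)
  obtain ⟨g₁, hg₁⟩ := (FittSheaf.notMem_support_iff_spans _ (isFT_sheaf f) p x).1 hx
  obtain ⟨c, hxc, -⟩ := exists_chart f (W := (⊤ : X.Opens)) (x := x) trivial
  letI := chartAlg f c.e
  letI := stalkModule (Omega.sheaf f) x hxc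
  haveI := isLocalizedModule_germ (Omega.sheaf f) c.hU x hxc
  set S := (c.hU.primeIdealOf ⟨x, hxc⟩).asIdeal.primeCompl with hS
  have hunit : ∀ a : S, IsUnit (X.presheaf.germ c.U x hxc a.1) := fun a =>
    (Scheme.mem_basicOpen X a.1 x hxc).mp
      ((mem_basicOpen_iff_notMem_primeIdealOf c.hU a.1 x hxc).mpr a.2)
  choose ms hms using fun j => IsLocalizedModule.surj S (germₗ (Omega.sheaf f) x hxc) (g₁ j)
  let w : Fin p → Ω[Γ(X, c.U)⁄Γ(Y, c.V)] := fun j => (chartEquiv f c.e c.hV c.hU).symm (ms j).1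
  have hw : ∀ z : Ω[Γ(X, c.U)⁄Γ(Y, c.V)], ∃ s ∉ (c.hU.primeIdealOf ⟨x, hxc⟩).asIdeal,
      s • z ∈ Submodule.span Γ(X, c.U) (Set.range w) := by
    intro z
    have hz : germₗ (Omega.sheaf f) x hxc (chartEquiv f c.e c.hV c.hU z) ∈
        Submodule.span (X.presheaf.stalk x) (Set.range g₁) := hg₁.ge trivial
    have key : ∀ y ∈ Submodule.span (X.presheaf.stalk x) (Set.range g₁), ∃ s : S,
        ∃ a ∈ Submodule.span Γ(X, c.U) (Set.range w),
          (s : Γ(X, c.U)) • y = germₗ (Omega.sheaf f) x hxc (chartEquiv f c.e c.hV c.hU a) := by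
      intro y hy
      induction hy using Submodule.span_induction with
      | mem a ha =>
        obtain ⟨j, rfl⟩ := ha
        exact ⟨(ms j).2, w j, Submodule.subset_span ⟨j, rfl⟩, by
          rw [LinearEquiv.apply_symm_apply]; exact hms j⟩
      | zero => exact ⟨1, 0, zero_mem _, by simp⟩
      | add a b _ _ ha hb =>
        obtain ⟨s, a', ha', ha''⟩ := ha
        obtain ⟨t, b', hb', hb''⟩ := hb
        refine ⟨s * t, (t : Γ(X, c.U)) • a' + (s : Γ(X, c.U)) • b',
          add_mem (Submodule.smul_mem _ _ ha') (Submodule.smul_mem _ _ hb'), ?_⟩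
        rw [map_add, map_add, map_smul, map_smul, map_smul, map_smul, ← ha'', ← hb'', Submonoid.coe_mul,
          smul_add, ← mul_smul, ← mul_smul, mul_comm (t : Γ(X, c.U))]
      | smul r a _ ha =>
        obtain ⟨s, a', ha', ha''⟩ := ha
        letI : Algebra Γ(X, c.U) (X.presheaf.stalk x) :=
          TopCat.Presheaf.algebra_section_stalk X.presheaf ⟨x, hxc⟩
        haveI : IsLocalization.AtPrime (X.presheaf.stalk x) (c.hU.primeIdealOf ⟨x, hxc⟩).asIdeal :=
          c.hU.isLocalization_stalk ⟨x, hxc⟩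
        haveI : IsScalarTower Γ(X, c.U) (X.presheaf.stalk x) ((Omega.sheaf f).presheaf.stalk x) :=
          IsScalarTower.of_compHom _ _ _
        obtain ⟨⟨b, t⟩, hbt⟩ := IsLocalization.surj S r
        refine ⟨t * s, b • a', Submodule.smul_mem _ _ ha', ?_⟩
        rw [map_smul, map_smul, ← ha'', Submonoid.coe_mul, ← algebraMap_smul (X.presheaf.stalk x),
          ← algebraMap_smul (X.presheaf.stalk x) b, ← algebraMap_smul (X.presheaf.stalk x) (s : Γ(X, c.U)),
          map_mul, ← mul_smul, ← mul_smul, mul_right_comm, mul_comm _ r, hbt]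
    obtain ⟨s, a, ha, ha'⟩ := key _ hz
    rw [← map_smul, ← map_smul] at ha'
    obtain ⟨u, hu⟩ := (IsLocalizedModule.eq_iff_exists S (germₗ (Omega.sheaf f) x hxc)).1 ha'
    refine ⟨(u * s : S).1, (u * s : S).2, ?_⟩
    have h2 : (chartEquiv f c.e c.hV c.hU) ((u * s : S).1 • z) = (chartEquiv f c.e c.hV c.hU) (u.1 • a) := by
      rw [map_smul, map_smul, Submonoid.coe_mul, mul_smul]
      rw [map_smul] at hu
      exact hu
    rw [(chartEquiv f c.e c.hV c.hU).injective h2]
    exact Submodule.smul_mem _ _ ha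
  have hfp : (f.appLE c.V c.U c.e).hom.FinitePresentation := f.finitePresentation_appLE c.hV c.hU c.e
  haveI : Algebra.FinitePresentation Γ(Y, c.V) Γ(X, c.U) := hfp
  obtain ⟨n, φ₀, hφ₀⟩ := Algebra.FiniteType.iff_quotient_mvPolynomial''.1
    (inferInstance : Algebra.FiniteType Γ(Y, c.V) Γ(X, c.U))
  let φ : MvPolynomial (Fin (p + n)) Γ(Y, c.V) →ₐ[Γ(Y, c.V)] Γ(X, c.U) :=
    MvPolynomial.aeval (Fin.append (fun _ => 0) fun i => φ₀ (MvPolynomial.X i))
  have hφ : Function.Surjective φ := fun b => by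
    obtain ⟨a, rfl⟩ := hφ₀ b
    refine ⟨MvPolynomial.rename (Fin.natAdd p) a, ?_⟩
    rw [MvPolynomial.aeval_rename]
    exact DFunLike.congr_fun (MvPolynomial.algHom_ext (f := MvPolynomial.aeval _) (g := φ₀) fun i => by
      simp) a
  obtain ⟨b, C, _, _, π, hbq, hπ, hsm⟩ := JacobianEmbed.exists_smooth_cover φ hφ
    (c.hU.primeIdealOf ⟨x, hxc⟩).asIdeal rfl w fun i => hw _
  let U₁ : X.Opens := X.basicOpen b
  have hU₁ : IsAffineOpen U₁ := c.hU.basicOpen b
  have e₁ : U₁ ≤ f ⁻¹ᵁ c.V := (X.basicOpen_le b).trans c.e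
  letI : Algebra Γ(Y, c.V) Γ(X, U₁) := (f.appLE c.V U₁ e₁).hom.toAlgebra
  letI : Algebra Γ(X, c.U) Γ(X, U₁) := (X.presheaf.map (homOfLE (X.basicOpen_le b)).op).hom.toAlgebra
  haveI : IsScalarTower Γ(Y, c.V) Γ(X, c.U) Γ(X, U₁) := IsScalarTower.of_algebraMap_eq fun r => by
    exact (congr($(Scheme.Hom.appLE_map (f := f) c.e (homOfLE (X.basicOpen_le b)).op) r)).symm
  haveI : IsLocalization.Away b Γ(X, U₁) := c.hU.isLocalization_basicOpen b
  let ε : Localization.Away b ≃ₐ[Γ(X, c.U)] Γ(X, U₁) :=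
    IsLocalization.algEquiv (Submonoid.powers b) _ _
  let π₁ : C →ₐ[Γ(Y, c.V)] Γ(X, U₁) := (ε.toAlgHom.restrictScalars Γ(Y, c.V)).comp π
  have hπ₁ : Function.Surjective π₁ := ε.surjective.comp hπ
  haveI : IsClosedImmersion (Spec.map (CommRingCat.ofHom π₁.toRingHom)) :=
    IsClosedImmersion.spec_of_surjective _ hπ₁
  refine ⟨U₁, Spec (CommRingCat.of C), hU₁.isoSpec.hom ≫ Spec.map (CommRingCat.ofHom π₁.toRingHom),
    Spec.map (CommRingCat.ofHom (algebraMap Γ(Y, c.V) C)) ≫ c.hV.fromSpec, ?_, inferInstance, ?_, ?_⟩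
  · exact (mem_basicOpen_iff_notMem_primeIdealOf c.hU b x hxc).mpr hbq
  · haveI : SmoothOfRelativeDimension p (Spec.map (CommRingCat.ofHom (algebraMap Γ(Y, c.V) C))) := by
      rw [HasRingHomProperty.Spec_iff (P := @SmoothOfRelativeDimension p)]
      exact RingHom.locally_of RingHom.isStandardSmoothOfRelativeDimension_respectsIso _
        ((RingHom.isStandardSmoothOfRelativeDimension_algebraMap p).2 hsm)
    exact inferInstanceAs (SmoothOfRelativeDimension (p + 0) _)
  · rw [Category.assoc, ← Spec.map_comp_assoc, ← CommRingCat.ofHom_comp]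
    have : π₁.toRingHom.comp (algebraMap Γ(Y, c.V) C) = (f.appLE c.V U₁ e₁).hom :=
      RingHom.ext π₁.commutes
    rw [this, CommRingCat.ofHom_hom, IsAffineOpen.SpecMap_appLE_fromSpec f c.hV hU₁ e₁, ← Category.assoc,
      hU₁.isoSpec_hom_fromSpec]

end Groth.RefRank.OmegaEmbed
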