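/-
When the locus where a section of a rank one reflexive module generates has affine inclusion.
-/
import Groth.Agent.RefRank.RefPowLoc

universe u

open CategoryTheory CategoryTheory.Limits AlgebraicGeometry TopologicalSpace Opposite

namespace Groth.RefRank

open Groth.QCohMod

variable {X : Scheme.{u}} {F : X.Modules} (s : Coh.structureModule X ⟶ F)

/-- A function as a section of the structure module. -/
def strSec {V : X.Opens} (b : Γ(X, V)) : Γ(Coh.structureModule X, V) := b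

theorem smul_strSec {V : X.Opens} (r b : Γ(X, V)) : r • strSec b = strSec (r * b) := rfl

theorem app_strSec {M : X.Modules} (φ : Coh.structureModule X ⟶ M) {V : X.Opens} (b : Γ(X, V)) :
    φ.app V (strSec b) = b • φ.app V (strSec 1) := by
  rw [← Scheme.Modules.Hom.app_smul, smul_strSec, mul_one]

theorem germ_sPow_one (n : ℕ) {W : X.Opens} {x : X} (hx : x ∈ W) :
    germ (RefPow.refPow F n) x hx ((RefPow.sPow s n).app W (strSec 1)) = RefPow.sPowGerm s n x := by
  rw [← sg_sPow, sg_eq_germ (RefPow.sPow s n) x hx]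
  rfl

variable [IsIntegral X] [IsLocallyNoetherian X] {s}

/-- An element of `m_x M_x` comes, up to a function invertible at `x`, from `p_x Γ(W, M)`. -/
theorem exists_mem_smul_top (M : X.Modules) [M.IsQuasicoherent] {W : X.Opens} (hW : IsAffineOpen W)
    {x : X} (hx : x ∈ W) {v : M.presheaf.stalk x}
    (hv : v ∈ IsLocalRing.maximalIdeal (X.presheaf.stalk x) • (⊤ : Submodule (X.presheaf.stalk x) (M.presheaf.stalk x))) :
    ∃ (c : Γ(X, W)) (m : Γ(M, W)), x ∈ X.basicOpen c ∧
      m ∈ (hW.primeIdealOf ⟨x, hx⟩).asIdeal • (⊤ : Submodule Γ(X, W) Γ(M, W)) ∧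
      X.presheaf.germ W x hx c • v = germ M x hx m := by
  refine Submodule.smul_induction_on hv ?_ ?_
  · intro r hr v _
    obtain ⟨a, c₁, hc₁, hcr⟩ := exists_mul_germ_eq hW hx r
    obtain ⟨c₂, m, hc₂, hm⟩ := exists_smul_germ_eq M hW x hx v
    have ha : a ∈ (hW.primeIdealOf ⟨x, hx⟩).asIdeal := by
      by_contra ha'
      have hu : IsUnit (X.presheaf.germ W x hx a) := (Scheme.mem_basicOpen X a x hx).mp
        ((mem_basicOpen_iff_notMem_primeIdealOf hW a x hx).mpr ha')
      rw [← hcr] at hu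
      exact hr (isUnit_of_mul_isUnit_right hu)
    refine ⟨c₁ * c₂, a • m, by rw [Scheme.basicOpen_mul]; exact ⟨hc₁, hc₂⟩,
      Submodule.smul_mem_smul ha trivial, ?_⟩
    rw [map_mul, germ_smul, ← hcr, ← hm, smul_smul, smul_smul]
    congr 1
    ring
  · intro v w hv hw
    obtain ⟨c, m, hc, hm, e⟩ := hv
    obtain ⟨c', m', hc', hm', e'⟩ := hw
    refine ⟨c * c', c' • m + c • m', by rw [Scheme.basicOpen_mul]; exact ⟨hc, hc'⟩,
      Submodule.add_mem _ (Submodule.smul_mem _ _ hm) (Submodule.smul_mem _ _ hm'), ?_⟩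
    rw [map_mul, map_add, germ_smul, germ_smul, ← e, ← e', smul_add, smul_smul, smul_smul,
      mul_comm (X.presheaf.germ W x hx c) (X.presheaf.germ W x hx c')]

theorem mulBy_app_sPow (n : ℕ) {V : X.Opens} (g : Γ(Coh.structureModule X, V)) :
    (RefPow.mulBy s n).app V ((RefPow.sPow s n).app V g) = (RefPow.sPow s (n + 1)).app V g := rfl

/-- Raising the degree of a representation. -/
theorem exists_rep_of_le {W V : X.Opens} (hVW : V ≤ W) (I : Ideal Γ(X, W)) {n n' : ℕ} (hn : n ≤ n')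
    {g : Γ(Coh.structureModule X, V)} {m : Γ(RefPow.refPow F n, W)}
    (hm : m ∈ I • (⊤ : Submodule Γ(X, W) Γ(RefPow.refPow F n, W)))
    (he : res _ hVW m = (RefPow.sPow s n).app V g) :
    ∃ m' : Γ(RefPow.refPow F n', W), m' ∈ I • (⊤ : Submodule Γ(X, W) Γ(RefPow.refPow F n', W)) ∧
      res _ hVW m' = (RefPow.sPow s n').app V g := by
  induction hn with
  | refl => exact ⟨m, hm, he⟩
  | @step k _ ih =>
    obtain ⟨m', hm', he'⟩ := ih
    refine ⟨(RefPow.mulBy s k).app W m', ?_, ?_⟩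
    · clear he'
      refine Submodule.smul_induction_on hm' ?_ ?_
      · intro a ha v _
        rw [Scheme.Modules.Hom.app_smul]
        exact Submodule.smul_mem_smul ha trivial
      · intro v w hv hw
        rw [map_add]
        exact Submodule.add_mem _ hv hw
    · refine (congr($((RefPow.mulBy s k).mapPresheaf.naturality (homOfLE hVW).op) m')).symm.trans ?_
      exact (congrArg ((RefPow.mulBy s k).app V) he').trans (mulBy_app_sPow k g)

theorem sPow_germ_mem_of_isAffineHom (hX : Pi1.IsNormalScheme X) (hF : RefHull.IsRef1 F)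
    {U : X.Opens} (hU : (U : Set X) = RefPow.isoLocus s) [IsAffineHom U.ι] {x : X} (hx : x ∉ U) :
    ∃ n : ℕ, 0 < n ∧ RefPow.sPowGerm s n x ∈ IsLocalRing.maximalIdeal (X.presheaf.stalk x) •
      (⊤ : Submodule (X.presheaf.stalk x) ((RefPow.refPow F n).presheaf.stalk x)) := by
  by_cases hη : genericPoint ↥X ∈ U
  swap
  · refine ⟨1, one_pos, ?_⟩
    rw [← sg_sPow, sg_sPow_one, sg_eq_zero_of_not_mem hF (fun h => hη (hU.symm.subset h))]
    exact Submodule.zero_mem _
  obtain ⟨W, hW, hxW⟩ := exists_affine_mem x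
  let V := W ⊓ U
  have hV : IsAffineOpen V := by
    have h := (hW.preimage U.ι).image_of_isOpenImmersion U.ι
    rwa [Scheme.Hom.image_preimage_eq_opensRange_inf, Scheme.Opens.opensRange_ι, inf_comm] at h
  let ρ := (X.presheaf.map (homOfLE (inf_le_left : V ≤ W)).op).hom
  have h1 : (hW.primeIdealOf ⟨x, hxW⟩).asIdeal.map ρ = ⊤ := by
    by_contra hne
    obtain ⟨M, hM, hle⟩ := Ideal.exists_le_maximal _ hne
    let q : PrimeSpectrum Γ(X, V) := ⟨M, hM.isPrime⟩
    have hy : hV.fromSpec q ∈ V := hV.opensRange_fromSpec.le ⟨q, rfl⟩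
    have hq : hV.primeIdealOf ⟨hV.fromSpec q, hy⟩ = q :=
      hV.fromSpec.isOpenEmbedding.injective (hV.fromSpec_primeIdealOf ⟨_, hy⟩)
    obtain ⟨a, haU, hya⟩ := hW.exists_basicOpen_le (⟨hV.fromSpec q, hy.2⟩ : U) hy.1
    have hap : a ∈ (hW.primeIdealOf ⟨x, hxW⟩).asIdeal := by
      by_contra h
      exact hx (haU ((mem_basicOpen_iff_notMem_primeIdealOf hW a x hxW).mpr h))
    have h2 : hV.fromSpec q ∈ X.basicOpen (ρ a) := by
      change _ ∈ X.basicOpen (X.presheaf.map (homOfLE (inf_le_left : V ≤ W)).op a)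
      rw [Scheme.basicOpen_res]
      exact ⟨hy, hya⟩
    rw [mem_basicOpen_iff_notMem_primeIdealOf hV (ρ a) _ hy, hq] at h2
    exact h2 (hle (Ideal.mem_map_of_mem _ hap))
  have key : ∀ b ∈ (hW.primeIdealOf ⟨x, hxW⟩).asIdeal.map ρ, ∀ r : Γ(X, V),
      ∃ (n : ℕ) (m : Γ(RefPow.refPow F n, W)),
        m ∈ (hW.primeIdealOf ⟨x, hxW⟩).asIdeal • (⊤ : Submodule Γ(X, W) Γ(RefPow.refPow F n, W)) ∧
          res _ (inf_le_left : V ≤ W) m = (RefPow.sPow s n).app V (strSec (r * b)) := by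
    intro b hb
    induction hb using Submodule.span_induction with
    | mem b hb =>
      obtain ⟨a, ha, rfl⟩ := hb
      intro r
      obtain ⟨n, m, hm⟩ := exists_pow_section hX hF hU hη hW (inf_le_left : V ≤ W) inf_le_right le_rfl
        (strSec r)
      refine ⟨n, a • m, Submodule.smul_mem_smul ha trivial, ?_⟩
      rw [res_smul, hm, ← Scheme.Modules.Hom.app_smul, smul_strSec, mul_comm]
    | zero =>
      intro r
      refine ⟨0, 0, Submodule.zero_mem _, ?_⟩
      rw [map_zero, mul_zero, app_strSec, zero_smul]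
    | add b c _ _ hb hc =>
      intro r
      obtain ⟨n, m, hm, e⟩ := hb r
      obtain ⟨n', m', hm', e'⟩ := hc r
      obtain ⟨k, hk, ek⟩ := exists_rep_of_le (s := s) inf_le_left _ (le_max_left n n') hm e
      obtain ⟨k', hk', ek'⟩ := exists_rep_of_le (s := s) inf_le_left _ (le_max_right n n') hm' e'
      refine ⟨max n n', k + k', Submodule.add_mem _ hk hk', ?_⟩
      rw [map_add, ek, ek', mul_add, app_strSec, app_strSec _ (r * c), app_strSec _ (r * b + r * c), add_smul]
    | smul r' b _ hb =>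
      intro r
      rw [smul_eq_mul, ← mul_assoc]
      exact hb (r * r')
  obtain ⟨n, m, hm, e⟩ := key 1 (by rw [h1]; trivial) 1
  obtain ⟨m', hm', e'⟩ := exists_rep_of_le (s := s) inf_le_left _ (Nat.le_succ n) hm e
  refine ⟨n + 1, Nat.succ_pos n, ?_⟩
  have hFn := isRef1_refPow hF (n + 1)
  have hηV : genericPoint ↥X ∈ V := ⟨(genSpec x).mem_open W.2 hxW, hη⟩
  have heq : m' = (RefPow.sPow s (n + 1)).app W (strSec 1) := by
    refine mod_section_ext _ fun y hy => mspec_gen_injective hFn.1 hFn.2.1 y ?_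
    rw [mspec_germ, mspec_germ, germ_sPow_one s (n + 1) ((genSpec y).mem_open W.2 hy),
      ← germ_res _ (inf_le_left : V ≤ W) _ hηV m', e', mul_one, germ_sPow_one s (n + 1) hηV]
  rw [← germ_sPow_one s (n + 1) hxW, ← heq]
  clear e' heq
  refine Submodule.smul_induction_on hm' ?_ ?_
  · intro a ha v _
    rw [germ_smul]
    refine Submodule.smul_mem_smul (fun hu => ?_) trivial
    exact (mem_basicOpen_iff_notMem_primeIdealOf hW a x hxW).mp ((Scheme.mem_basicOpen X a x hxW).mpr hu) ha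
  · intro v w hv hw
    rw [map_add]
    exact Submodule.add_mem _ hv hw

theorem isAffineHom_of_sPow_germ_mem (hF : RefHull.IsRef1 F)
    {U : X.Opens} (hU : (U : Set X) = RefPow.isoLocus s)
    (h : ∀ x : X, x ∉ U → ∃ n : ℕ, 0 < n ∧
      RefPow.sPowGerm s n x ∈ IsLocalRing.maximalIdeal (X.presheaf.stalk x) •
        (⊤ : Submodule (X.presheaf.stalk x) ((RefPow.refPow F n).presheaf.stalk x))) :
    IsAffineHom U.ι := by
  refine ⟨fun W hW => ?_⟩
  refine (Scheme.Hom.isAffineOpen_iff_of_isOpenImmersion U.ι).mp ?_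
  rw [Scheme.Hom.image_preimage_eq_opensRange_inf, Scheme.Opens.opensRange_ι, inf_comm]
  let V := W ⊓ U
  let ρ := (X.presheaf.map (homOfLE (inf_le_left : V ≤ W)).op).hom
  let S : Set Γ(X, W) := {a | X.basicOpen a ≤ U}
  refine isAffineOpen_of_isAffineOpen_basicOpen V (ρ '' S) ?_ ?_
  swap
  · rintro _ ⟨a, ha, rfl⟩
    change IsAffineOpen (X.basicOpen (X.presheaf.map (homOfLE (inf_le_left : V ≤ W)).op a))
    rw [Scheme.basicOpen_res, inf_eq_right.mpr (show X.basicOpen a ≤ V from le_inf (X.basicOpen_le a) ha)]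
    exact hW.basicOpen a
  by_contra hne
  obtain ⟨M, hM, hle⟩ := Ideal.exists_le_maximal _ hne
  have hS : ∀ a ∈ S, a ∈ M.comap ρ := fun a ha => hle (Ideal.subset_span ⟨a, ha, rfl⟩)
  let q : PrimeSpectrum Γ(X, W) := ⟨M.comap ρ, Ideal.IsPrime.comap ρ⟩
  have hz : hW.fromSpec q ∈ W := hW.opensRange_fromSpec.le ⟨q, rfl⟩
  have hq : hW.primeIdealOf ⟨hW.fromSpec q, hz⟩ = q :=
    hW.fromSpec.isOpenEmbedding.injective (hW.fromSpec_primeIdealOf ⟨_, hz⟩)
  have hzU : hW.fromSpec q ∉ U := fun hzU => by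
    obtain ⟨a, haU, hza⟩ := hW.exists_basicOpen_le (⟨hW.fromSpec q, hzU⟩ : U) hz
    rw [mem_basicOpen_iff_notMem_primeIdealOf hW a _ hz, hq] at hza
    exact hza (hS a haU)
  obtain ⟨n, -, hn⟩ := h _ hzU
  have hFn := isRef1_refPow hF n
  have := hFn.1.1
  obtain ⟨c, m, hc, hm, e⟩ := exists_mem_smul_top (RefPow.refPow F n) hW hz hn
  rw [hq] at hm
  rw [← germ_sPow_one s n hz, ← germ_smul, ← sub_eq_zero, ← map_sub] at e
  obtain ⟨d, hd, hd0⟩ := exists_smul_eq_zero_of_germ_eq_zero _ hW _ hz _ e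
  rw [smul_sub, sub_eq_zero, smul_smul] at hd0
  have hVs : ∀ y ∈ V, y ∈ RefPow.isoLocus s := fun y hy => hU.subset hy.2
  have hb := app_bijective_of_stalk (RefPow.sPow s n) fun y hy => stalkMapₗ_sPow_bijective hF (hVs y hy) n
  have hrep : ∀ v ∈ q.asIdeal • (⊤ : Submodule Γ(X, W) Γ(RefPow.refPow F n, W)),
      ∃ b ∈ M, res _ (inf_le_left : V ≤ W) v = (RefPow.sPow s n).app V (strSec b) := by
    intro v hv
    refine Submodule.smul_induction_on hv ?_ ?_
    · intro a ha v _
      obtain ⟨g, hg⟩ := hb.2 (res _ (inf_le_left : V ≤ W) v)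
      refine ⟨ρ a * (show Γ(X, V) from g), M.mul_mem_right _ ha, ?_⟩
      rw [res_smul, ← hg, ← smul_strSec, Scheme.Modules.Hom.app_smul]
      rfl
    · intro v w hv hw
      obtain ⟨b, hb', eb⟩ := hv
      obtain ⟨b', hb'', eb'⟩ := hw
      exact ⟨b + b', M.add_mem hb' hb'', by
        rw [map_add, eb, eb', app_strSec, app_strSec _ b', app_strSec _ (b + b'), add_smul]⟩
  obtain ⟨b, hbM, hb'⟩ := hrep _ (Submodule.smul_mem _ d hm)
  rw [← hd0, res_smul] at hb'
  have hnat : res _ (inf_le_left : V ≤ W) ((RefPow.sPow s n).app W (strSec 1)) =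
      (RefPow.sPow s n).app V (strSec 1) := by
    refine (congr($((RefPow.sPow s n).mapPresheaf.naturality (homOfLE (inf_le_left : V ≤ W)).op) (strSec 1))).symm.trans ?_
    exact congrArg ((RefPow.sPow s n).app V) (map_one ρ)
  rw [hnat, ← app_strSec] at hb'
  have hmem : ρ (d * c) ∈ M := (hb.1 hb' : ρ (d * c) = b) ▸ hbM
  have hdc : hW.fromSpec q ∈ X.basicOpen (d * c) := by rw [Scheme.basicOpen_mul]; exact ⟨hd, hc⟩
  rw [mem_basicOpen_iff_notMem_primeIdealOf hW (d * c) _ hz, hq] at hdc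
  exact hdc hmem

end Groth.RefRank
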