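/-
The colimit of the reflexive powers is the direct image from the locus where the section generates.
-/
import Groth.Agent.RefRank.RefPowLoc

universe u

open CategoryTheory CategoryTheory.Limits AlgebraicGeometry TopologicalSpace Opposite

namespace Groth.RefRank

open Groth.QCohMod

variable {X : Scheme.{u}} [IsIntegral X] [IsLocallyNoetherian X] {F : X.Modules}
  {s : Coh.structureModule X ⟶ F} {U : X.Opens}

/-- The restriction of a power of `s` to the locus where `s` generates is an isomorphism. -/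
theorem isIso_restrict_sPow (hF : RefHull.IsRef1 F) (hU : (U : Set X) = RefPow.isoLocus s) (n : ℕ) :
    IsIso ((Scheme.Modules.restrictFunctor U.ι).map (RefPow.sPow s n)) := by
  refine QCohMod.isIso_of_stalk _ fun y => ?_
  have hy : U.ι y ∈ RefPow.isoLocus s := by rw [← hU]; exact y.2
  have : IsIso ((QCohMod.stalk (U.ι.base y)).map (RefPow.sPow s n)) :=
    (ConcreteCategory.isIso_iff_bijective _).mpr
      ((stalkMapₗ_bijective_iff _ _).mp (stalkMapₗ_sPow_bijective hF hy n))
  rw [CohTwo.restrict_stalk_map]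
  infer_instance

/-- The functions on the locus `U`, as a module on `X`. -/
noncomputable abbrev funOn (U : X.Opens) : X.Modules :=
  (Scheme.Modules.pushforward U.ι).obj ((Coh.structureModule X).restrict U.ι)

/-- The leg in degree `n`. -/
noncomputable def powLeg (hF : RefHull.IsRef1 F) (hU : (U : Set X) = RefPow.isoLocus s) (n : ℕ) :
    RefPow.refPow F n ⟶ funOn U :=
  haveI := isIso_restrict_sPow hF hU n
  (Scheme.Modules.restrictAdjunction U.ι).unit.app _ ≫
    (Scheme.Modules.pushforward U.ι).map (inv ((Scheme.Modules.restrictFunctor U.ι).map (RefPow.sPow s n)))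

theorem powLeg_zero (hF : RefHull.IsRef1 F) (hU : (U : Set X) = RefPow.isoLocus s) :
    powLeg hF hU 0 = (Scheme.Modules.restrictAdjunction U.ι).unit.app (Coh.structureModule X) := by
  haveI := isIso_restrict_sPow hF hU 0
  have h : inv ((Scheme.Modules.restrictFunctor U.ι).map (RefPow.sPow s 0)) = 𝟙 _ :=
    IsIso.inv_eq_of_hom_inv_id
      ((Category.comp_id _).trans ((Scheme.Modules.restrictFunctor U.ι).map_id _))
  rw [powLeg, h]
  refine (congrArg (_ ≫ ·) ((Scheme.Modules.pushforward U.ι).map_id _)).trans ?_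
  exact Category.comp_id _

theorem mulBy_powLeg (hF : RefHull.IsRef1 F) (hU : (U : Set X) = RefPow.isoLocus s) (n : ℕ) :
    RefPow.mulBy s n ≫ powLeg hF hU (n + 1) = powLeg hF hU n := by
  haveI := isIso_restrict_sPow hF hU n
  haveI := isIso_restrict_sPow hF hU (n + 1)
  have key : (Scheme.Modules.restrictFunctor U.ι).map (RefPow.mulBy s n) ≫
      inv ((Scheme.Modules.restrictFunctor U.ι).map (RefPow.sPow s (n + 1))) =
      inv ((Scheme.Modules.restrictFunctor U.ι).map (RefPow.sPow s n)) := by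
    refine (IsIso.inv_eq_of_hom_inv_id ?_).symm
    have e : (Scheme.Modules.restrictFunctor U.ι).map (RefPow.sPow s (n + 1)) =
        (Scheme.Modules.restrictFunctor U.ι).map (RefPow.sPow s n) ≫
          (Scheme.Modules.restrictFunctor U.ι).map (RefPow.mulBy s n) := by
      rw [RefPow.sPow_succ, Functor.map_comp]
    rw [← Category.assoc, ← e, IsIso.hom_inv_id]
  have hn := (Scheme.Modules.restrictAdjunction U.ι).unit.naturality (RefPow.mulBy s n)
  rw [powLeg, powLeg, ← key, Functor.map_comp]
  simp only [Functor.id_map, Functor.comp_map] at hn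
  exact (Category.assoc _ _ _).symm.trans ((congrArg (· ≫ _) hn).trans (Category.assoc _ _ _))

/-- The cocone. -/
noncomputable def powCocone (hF : RefHull.IsRef1 F) (hU : (U : Set X) = RefPow.isoLocus s) :
    RefPow.diagram F s ⟶ (Functor.const ℕ).obj (funOn U) :=
  NatTrans.ofSequence (F := RefPow.diagram F s) (G := (Functor.const ℕ).obj (funOn U))
    (fun n => powLeg hF hU n) fun n => by
      rw [RefPow.diagram_map]
      exact (mulBy_powLeg hF hU n).trans (Category.comp_id _).symm

theorem powCocone_app (hF : RefHull.IsRef1 F) (hU : (U : Set X) = RefPow.isoLocus s) (n : ℕ) :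
    (powCocone hF hU).app n = powLeg hF hU n := rfl

/-- A section of a leg, multiplied back by the power of `s`. -/
theorem sPow_app_powLeg (hF : RefHull.IsRef1 F) (hU : (U : Set X) = RefPow.isoLocus s) (n : ℕ)
    (W : X.Opens) (m : Γ(RefPow.refPow F n, W)) :
    (RefPow.sPow s n).app (U.ι ''ᵁ U.ι ⁻¹ᵁ W)
      (show Γ(Coh.structureModule X, U.ι ''ᵁ U.ι ⁻¹ᵁ W) from (powLeg hF hU n).app W m) =
      res (RefPow.refPow F n) (U.ι.image_preimage_le W) m := by
  haveI := isIso_restrict_sPow hF hU n
  exact congr($(IsIso.inv_hom_id ((Scheme.Modules.restrictFunctor U.ι).map (RefPow.sPow s n))).app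
    (U.ι ⁻¹ᵁ W) (res (RefPow.refPow F n) (U.ι.image_preimage_le W) m))

theorem subsingleton_funOn (hη : genericPoint ↥X ∉ U) (W : X.Opens) :
    Subsingleton Γ(funOn U, W) := by
  have hemp : ∀ x : X, x ∉ U.ι ''ᵁ U.ι ⁻¹ᵁ W := fun x hx => by
    obtain ⟨u, -, rfl⟩ := hx
    exact hη ((genSpec (U.ι u)).mem_open U.2 u.2)
  exact ⟨fun a b => mod_section_ext (Coh.structureModule X) (s := (show Γ(Coh.structureModule X, U.ι ''ᵁ U.ι ⁻¹ᵁ W) from a))
    (t := b) fun x hx => (hemp x hx).elim⟩

theorem powLeg_surjective (hX : Pi1.IsNormalScheme X) (hF : RefHull.IsRef1 F)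
    (hU : (U : Set X) = RefPow.isoLocus s) {W : X.Opens} (hW : IsAffineOpen W) (g : Γ(funOn U, W)) :
    ∃ (n : ℕ) (m : Γ(RefPow.refPow F n, W)), (powLeg hF hU n).app W m = g := by
  by_cases hη : genericPoint ↥X ∈ U
  · have hVU : U.ι ''ᵁ U.ι ⁻¹ᵁ W ≤ U := Scheme.Opens.ι_image_le U _
    have hle : W ⊓ U ≤ U.ι ''ᵁ U.ι ⁻¹ᵁ W := by
      rw [Scheme.Hom.image_preimage_eq_opensRange_inf, Scheme.Opens.opensRange_ι, inf_comm]
    obtain ⟨n, m, hm⟩ := exists_pow_section hX hF hU hη hW (U.ι.image_preimage_le W) hVU hle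
      (show Γ(Coh.structureModule X, U.ι ''ᵁ U.ι ⁻¹ᵁ W) from g)
    refine ⟨n, m, ?_⟩
    refine (app_bijective_of_stalk (RefPow.sPow s n) fun x hx => stalkMapₗ_sPow_bijective hF
      (hU.subset (hVU hx)) n).1 ?_
    exact (sPow_app_powLeg hF hU n W m).trans hm
  · have := subsingleton_funOn hη W
    exact ⟨0, 0, Subsingleton.elim _ _⟩

theorem stalk_powLeg_injective (hF : RefHull.IsRef1 F) (hU : (U : Set X) = RefPow.isoLocus s)
    (hη : genericPoint ↥X ∈ U) (n : ℕ) (x : X) :
    Function.Injective (RefHull.stalkMapₗ (powLeg hF hU n) x) := by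
  refine (injective_iff_map_eq_zero _).mpr fun v hv => ?_
  have hFn := isRef1_refPow hF n
  obtain ⟨W, hx, m, rfl⟩ := exists_germ _ x v
  obtain ⟨W', hxW', i, j, e⟩ := TopCat.Presheaf.germ_eq _ x hx hx _ _
    (((RefHull.stalkMapₗ_germ (powLeg hF hU n) x hx m).symm.trans hv).trans
      (map_zero (germ (funOn U) x hx)).symm)
  have e1 : res (funOn U) i.le ((powLeg hF hU n).app W m) = 0 := e.trans (map_zero _)
  have hn : (powLeg hF hU n).app W' (res _ i.le m) = res (funOn U) i.le ((powLeg hF hU n).app W m) :=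
    congr($((powLeg hF hU n).mapPresheaf.naturality (homOfLE i.le).op) m)
  have e2 := sPow_app_powLeg hF hU n W' (res _ i.le m)
  rw [show (powLeg hF hU n).app W' (res _ i.le m) = 0 from hn.trans e1] at e2
  have hηW : genericPoint ↥X ∈ U.ι ''ᵁ U.ι ⁻¹ᵁ W' := by
    rw [Scheme.Hom.image_preimage_eq_opensRange_inf, Scheme.Opens.opensRange_ι]
    exact ⟨hη, (genSpec x).mem_open W'.2 hxW'⟩
  have e3 := congrArg (germ (RefPow.refPow F n) _ hηW) e2
  rw [germ_res, germ_res] at e3
  refine mspec_gen_injective hFn.1 hFn.2.1 x ?_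
  rw [mspec_germ, map_zero]
  refine e3.symm.trans ?_
  exact (congrArg (germ _ _ hηW) (map_zero ((RefPow.sPow s n).app _).hom)).trans (map_zero _)

theorem nonempty_isColimit_powCocone (hX : Pi1.IsNormalScheme X) (hF : RefHull.IsRef1 F)
    (hU : (U : Set X) = RefPow.isoLocus s) : Nonempty (IsColimit (Cocone.mk _ (powCocone hF hU))) := by
  let c : Cocone (RefPow.diagram F s) := Cocone.mk _ (powCocone hF hU)
  let h := colimit.desc (RefPow.diagram F s) c
  suffices hh : IsIso h from
    (IsColimit.nonempty_isColimit_iff_isIso_desc (colimit.isColimit (RefPow.diagram F s)) (t := c)).2 hh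
  refine (isIso_iff_bijective_stalk h).mpr fun x => ?_
  have hι : ∀ n, colimit.ι (RefPow.diagram F s) n ≫ h = powLeg hF hU n := fun n =>
    (colimit.ι_desc c n).trans (powCocone_app hF hU n)
  have happ : ∀ n (v : (RefPow.refPow F n).presheaf.stalk x),
      RefHull.stalkMapₗ h x (RefHull.stalkMapₗ (colimit.ι (RefPow.diagram F s) n) x v) =
        RefHull.stalkMapₗ (powLeg hF hU n) x v := fun n v => by
    refine (stalkMapₗ_comp (colimit.ι (RefPow.diagram F s) n) h x v).symm.trans ?_
    rw [hι n]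
    rfl
  have : PreservesFilteredColimitsOfSize.{0, 0} (forget AddCommGrpCat.{u}) :=
    preservesSmallestFilteredColimits_of_preservesFilteredColimits.{u, u} _
  refine ⟨(injective_iff_map_eq_zero _).mpr fun q hq => ?_, fun q => ?_⟩
  · obtain ⟨n, v, hv⟩ := Concrete.isColimit_exists_rep _
      (isColimitOfPreserves (QCohMod.stalk x) (colimit.isColimit (RefPow.diagram F s))) q
    have hv' : RefHull.stalkMapₗ (colimit.ι (RefPow.diagram F s) n) x v = q := hv
    subst hv'
    rw [happ n v] at hq
    by_cases hη : genericPoint ↥X ∈ U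
    · exact (congrArg (RefHull.stalkMapₗ (colimit.ι (RefPow.diagram F s) n) x)
        ((stalk_powLeg_injective hF hU hη n x) (hq.trans (map_zero _).symm))).trans (map_zero _)
    · have hw : RefPow.mulBy s n ≫ colimit.ι (RefPow.diagram F s) (n + 1) =
          colimit.ι (RefPow.diagram F s) n := by
        rw [← RefPow.diagram_map]
        exact colimit.w (RefPow.diagram F s) (homOfLE (Nat.le_succ n))
      rw [← hw]
      refine (stalkMapₗ_comp (RefPow.mulBy s n) (colimit.ι (RefPow.diagram F s) (n + 1)) x v).trans ?_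
      rw [stalkMapₗ_mulBy_eq_zero hF (fun h' => hη (hU.symm.subset h')), map_zero]
  · obtain ⟨V, hx, g, rfl⟩ := exists_germ (funOn U) x q
    obtain ⟨⟨W, hW⟩, hxW, hle⟩ := Divisors.exists_affine_le x V hx
    obtain ⟨n, m, hm⟩ := powLeg_surjective hX hF hU hW (res (funOn U) hle g)
    refine ⟨RefHull.stalkMapₗ (colimit.ι (RefPow.diagram F s) n) x (germ _ x hxW m), ?_⟩
    rw [happ n]
    refine (RefHull.stalkMapₗ_germ _ x hxW m).trans ?_
    exact (congrArg (germ (funOn U) x hxW) hm).trans (germ_res _ hle x hxW g)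

end Groth.RefRank
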