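import Groth.Agent.PicAux.MeroRegular
import Groth.Agent.RelTwist.BaseFun
import Groth.Agent.RelTwist.Exist
import Groth.Agent.QCohMod.Stalk
import Groth.Agent.Misc13.FlatBC
import Groth.Prelude.Def_FlatMod2
import Mathlib.RingTheory.Flat.EquationalCriterion
import Mathlib.RingTheory.Flat.Localization

/-!
# Flatness of relative twisting sheaves
-/

universe u

open CategoryTheory CategoryTheory.Limits AlgebraicGeometry Opposite TopologicalSpace
open scoped HomogeneousIdeal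

set_option backward.isDefEq.respectTransparency.types false

namespace Groth.RefRank.RelTwistFlat

open Groth.PicAux Groth.RelTw

section Graded

variable {A σ : Type u} [CommRing A] [SetLike σ A] [AddSubgroupClass σ A] {𝒜 : ℕ → σ} [GradedRing 𝒜]

theorem exists_homogeneous_pos_notMem (y : ProjectiveSpectrum 𝒜) :
    ∃ (e : ℕ) (f : A), 0 < e ∧ f ∈ 𝒜 e ∧ f ∉ y.asHomogeneousIdeal := by
  by_contra hc
  push Not at hc
  exact y.not_irrelevant_le ((HomogeneousIdeal.toIdeal_irrelevant_le _).mpr fun d hd a ha => hc d a hd ha)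

theorem exists_component_notMem (y : ProjectiveSpectrum 𝒜) {t : A} (ht : t ∉ y.asHomogeneousIdeal) :
    ∃ k : ℕ, (DirectSum.decompose 𝒜 t k : A) ∉ y.asHomogeneousIdeal := by
  classical
  by_contra hc
  push Not at hc
  apply ht
  rw [← DirectSum.sum_support_decompose 𝒜 t]
  exact Ideal.sum_mem _ fun k _ => hc k

/-- A homogeneous annihilator of a homogeneous element outside a point. -/
theorem exists_homogeneous_annihilator (y : ProjectiveSpectrum 𝒜) {t c : A} {D : ℕ}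
    (ht : t ∉ y.asHomogeneousIdeal) (hc : c ∈ 𝒜 D) (h : t * c = 0) :
    ∃ (k : ℕ) (t' : A), t' ∈ 𝒜 k ∧ t' ∉ y.asHomogeneousIdeal ∧ t' * c = 0 := by
  obtain ⟨k, hk⟩ := exists_component_notMem y ht
  refine ⟨k, _, (DirectSum.decompose 𝒜 t k).2, hk, ?_⟩
  rw [← DirectSum.coe_decompose_mul_add_of_right_mem 𝒜 hc (a := t) (i := k), h, DirectSum.decompose_zero]
  rfl

end Graded

theorem bijective_smul_germ {X : Scheme.{u}} {L : X.Modules} {W : X.Opens} {e : Γ(L, W)} (he : Gen L W e)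
    {x : X} (hx : x ∈ W) :
    Function.Bijective (fun r : X.presheaf.stalk x => r • L.presheaf.germ W x hx e) := by
  constructor
  · intro r r' h
    have h2 : (r - r') • L.presheaf.germ W x hx e = 0 := by rw [sub_smul, sub_eq_zero]; exact h
    exact sub_eq_zero.1 (germ_smul_eq_zero he hx h2)
  · intro z
    obtain ⟨V, hxV, w, rfl⟩ := TopCat.Presheaf.exists_germ_eq L.presheaf z
    obtain ⟨c, hc⟩ := he.exists_coeff (inf_le_left : W ⊓ V ≤ W) (res L inf_le_right w)
    refine ⟨X.presheaf.germ (W ⊓ V) x ⟨hx, hxV⟩ c, ?_⟩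
    have h1 := congrArg (Groth.QCohMod.germ L x (show x ∈ W ⊓ V from ⟨hx, hxV⟩)) hc
    rw [Groth.QCohMod.germ_smul] at h1
    refine Eq.trans ?_ (h1.symm.trans (TopCat.Presheaf.germ_res_apply L.presheaf (homOfLE inf_le_right) x _ w))
    exact congrArg (X.presheaf.germ (W ⊓ V) x ⟨hx, hxV⟩ c • ·)
      (TopCat.Presheaf.germ_res_apply L.presheaf (homOfLE inf_le_left) x _ e).symm

variable {S P : Scheme.{u}} {𝒮 : RelProj.QCGrAlg S} {p : P ⟶ S}
  {chart : ∀ (U : S.Opens) (hU : IsAffineOpen U), (((p ⁻¹ᵁ U : P.Opens) : Scheme.{u}) ≅ Proj (𝒮.deg U hU))}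
  {n : ℤ} {L : P.Modules}
  (lam : ∀ (U : S.Opens) (hU : IsAffineOpen U),
    L ⟶ (Scheme.Modules.pushforward (RelProj.emb p chart U hU)).obj (GrTwist.twist (𝒮.deg U hU) n))
  (hP : RelProj.IsRelProj 𝒮 p chart) (hL : RelProj.IsRelTwist 𝒮 p chart n L lam)

theorem pv_add (U : S.Opens) (hU : IsAffineOpen U) {W : P.Opens} (s t : Γ(L, W))
    (y : ProjectiveSpectrum (𝒮.deg U hU)) (hy : RelProj.emb p chart U hU y ∈ W) :
    pv lam U hU (s + t) y hy = pv lam U hU s y hy + pv lam U hU t y hy := by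
  rw [pv, ((lam U hU).app W).hom.map_add]
  rfl

theorem pv_sum (U : S.Opens) (hU : IsAffineOpen U) {W : P.Opens} {ι : Type*} (F : Finset ι) (s : ι → Γ(L, W))
    (y : ProjectiveSpectrum (𝒮.deg U hU)) (hy : RelProj.emb p chart U hU y ∈ W) :
    pv lam U hU (∑ i ∈ F, s i) y hy = ∑ i ∈ F, pv lam U hU (s i) y hy := by
  classical
  induction F using Finset.induction_on with
  | empty => rw [Finset.sum_empty, Finset.sum_empty, pv_zero]
  | insert a F ha ih => rw [Finset.sum_insert ha, Finset.sum_insert ha, pv_add, ih]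

include hP in
theorem pv_base_smul (U : S.Opens) (hU : IsAffineOpen U) {W : P.Opens} (hW : W ≤ p ⁻¹ᵁ U) (r : Γ(S, U))
    (s : Γ(L, W)) (y : ProjectiveSpectrum (𝒮.deg U hU)) (hy : RelProj.emb p chart U hU y ∈ W) :
    pv lam U hU (resX P hW (p.app U r) • s) y hy =
      algebraMap (𝒮.presheaf.obj (op U)) (GrTwist.Loc (𝒮.deg U hU) y) ((𝒮.str.app (op U)).hom r) *
        pv lam U hU s y hy := by
  rw [pv_smul]
  congr 1
  refine Eq.trans ?_ (val_app_base hP U hU r y (hW hy))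
  have := congr(($((RelProj.emb p chart U hU).naturality (homOfLE hW).op)).hom (p.app U r))
  exact congrArg (fun z => (z.1 ⟨y, hy⟩).val) this

/-- The flatness hypothesis on the pieces of high degree. -/
def EvFlat (𝒮 : RelProj.QCGrAlg S) : Prop :=
  ∃ d₀ : ℕ, ∀ d : ℕ, d₀ ≤ d → ∀ (U : S.Opens) (hU : IsAffineOpen U),
    letI := (𝒮.str.app (op U)).hom.toAlgebra
    Module.Flat Γ(S, U) ↥(Submodule.span Γ(S, U) (𝒮.deg U hU d : Set (𝒮.presheaf.obj (op U))))

include hP hL in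
theorem isFlatOverAt (hflat : EvFlat 𝒮) (x : P) : FlatMod.IsFlatOverAt p L x := by
  classical
  obtain ⟨d₀, hflat⟩ := hflat
  obtain ⟨U, hU, hzU, -⟩ := exists_isAffineOpen_mem_and_subset (x := p x) (U := (⊤ : S.Opens)) trivial
  obtain ⟨y, rfl⟩ := exists_emb_eq (chart := chart) U hU hzU
  let x := RelProj.emb p chart U hU y
  letI := FlatMod.moduleStalkOver p L x
  letI : Algebra Γ(S, U) (S.presheaf.stalk (p x)) :=
    TopCat.Presheaf.algebra_section_stalk S.presheaf ⟨p x, hzU⟩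
  haveI : IsLocalization.AtPrime (S.presheaf.stalk (p x)) (hU.primeIdealOf ⟨p x, hzU⟩).asIdeal :=
    hU.isLocalization_stalk ⟨p x, hzU⟩
  letI : Module Γ(S, U) (L.presheaf.stalk x) :=
    Module.compHom _ (S.presheaf.germ U (p x) hzU).hom
  haveI : IsScalarTower Γ(S, U) (S.presheaf.stalk (p x)) (L.presheaf.stalk x) :=
    IsScalarTower.of_compHom _ _ _
  change Module.Flat (S.presheaf.stalk (p x)) (L.presheaf.stalk x)
  rw [Module.flat_iff_of_isLocalization (S := S.presheaf.stalk (p x))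
    (p := (hU.primeIdealOf ⟨p x, hzU⟩).asIdeal.primeCompl), Module.Flat.iff_forall_isTrivialRelation]
  intro l r m hrel
  have hsmul : ∀ {W : P.Opens} (hW : W ≤ p ⁻¹ᵁ U) (hxW : x ∈ W) (a : Γ(S, U)) (w : Γ(L, W)),
      a • Groth.QCohMod.germ L x hxW w = Groth.QCohMod.germ L x hxW (resX P hW (p.app U a) • w) := by
    intro W hW hxW a w
    rw [Groth.QCohMod.germ_smul]
    refine congrArg (· • Groth.QCohMod.germ L x hxW w) ((Scheme.Hom.germ_stalkMap_apply p U x hzU a).trans ?_)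
    exact (TopCat.Presheaf.germ_res_apply P.presheaf (homOfLE hW) x hxW _).symm
  -- representatives on a common neighbourhood
  choose W₀ hxW₀ s₀ hs₀ using fun i => TopCat.Presheaf.exists_germ_eq L.presheaf (m i)
  let W : P.Opens := ⟨⋂ i, (W₀ i : Set P), isOpen_iInter_of_finite fun i => (W₀ i).isOpen⟩ ⊓ p ⁻¹ᵁ U
  have hxW : x ∈ W := ⟨Set.mem_iInter.2 hxW₀, hzU⟩
  have hWU : W ≤ p ⁻¹ᵁ U := inf_le_right
  have hW₀ : ∀ i, W ≤ W₀ i := fun i => inf_le_left.trans fun z hz => Set.mem_iInter.1 hz i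
  let s : Fin l → Γ(L, W) := fun i => res L (hW₀ i) (s₀ i)
  have hs : ∀ i, Groth.QCohMod.germ L x hxW (s i) = m i := fun i =>
    (TopCat.Presheaf.germ_res_apply L.presheaf (homOfLE (hW₀ i)) x hxW (s₀ i)).trans (hs₀ i)
  -- fractions
  have hfr : ∀ i, ∃ (V : (Proj (𝒮.deg U hU)).Opens) (I J : ℕ) (a h : 𝒮.presheaf.obj (op U)),
      y ∈ V ∧ a ∈ 𝒮.deg U hU I ∧ h ∈ 𝒮.deg U hU J ∧ ((I : ℤ) = J + n ∨ a = 0) ∧
      (∀ z, z ∈ V → RelProj.emb p chart U hU z ∈ W ∧ h ∉ z.asHomogeneousIdeal) ∧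
      ∀ z (hz : RelProj.emb p chart U hU z ∈ W) (hzh : h ∉ z.asHomogeneousIdeal), z ∈ V →
        pv lam U hU (s i) z hz = Localization.mk a ⟨h, hzh⟩ := by
    intro i
    obtain ⟨V, hyV, iV, I, J, a, h, hnin, hdeg, hval⟩ :=
      ((lam U hU).app W (s i) : GrTwist.sectN (𝒜 := 𝒮.deg U hU) n (op (RelProj.emb p chart U hU ⁻¹ᵁ W))).2
        ⟨y, hxW⟩
    exact ⟨V, I, J, a, h, hyV, a.2, h.2, hdeg, fun z hz => ⟨(iV ⟨z, hz⟩).2, hnin ⟨z, hz⟩⟩,
      fun z hz hzh hzV => hval ⟨z, hzV⟩⟩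
  choose V I J a h hyV ha hh hdeg hV hval using hfr
  obtain ⟨e, f, he, hf, hfy⟩ := exists_homogeneous_pos_notMem y
  let N : ℕ := d₀ + n.natAbs
  have hfN : f ^ N ∈ 𝒮.deg U hU (N * e) := by simpa using SetLike.pow_mem_graded N hf
  let JT : ℕ := ∑ i, J i
  let H : 𝒮.presheaf.obj (op U) := f ^ N * ∏ i, h i
  have hHdeg : H ∈ 𝒮.deg U hU (N * e + JT) :=
    SetLike.mul_mem_graded hfN (SetLike.prod_mem_graded _ (fun i => J i) _ fun i _ => hh i)
  let c : Fin l → 𝒮.presheaf.obj (op U) := fun i => f ^ N * (a i * ∏ k ∈ Finset.univ.erase i, h k)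
  have hNe : N ≤ N * e := Nat.le_mul_of_pos_right N he
  obtain ⟨D, hD⟩ : ∃ D : ℕ, (D : ℤ) = ((N * e + JT : ℕ) : ℤ) + n :=
    ⟨((((N * e + JT : ℕ) : ℤ) + n)).toNat, by omega⟩
  have hDd : d₀ ≤ D := by omega
  have hc : ∀ i, c i ∈ 𝒮.deg U hU D := by
    intro i
    rcases hdeg i with hd | h0
    · have hsum : ∑ k ∈ Finset.univ.erase i, J k + J i = JT := Finset.sum_erase_add _ _ (Finset.mem_univ i)
      have hD' : D = N * e + (I i + ∑ k ∈ Finset.univ.erase i, J k) := by omega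
      rw [hD']
      exact SetLike.mul_mem_graded hfN (SetLike.mul_mem_graded (ha i)
        (SetLike.prod_mem_graded _ (fun k => J k) _ fun k _ => hh k))
    · simp [c, h0, zero_mem]
  have hHy : ∀ z : ProjectiveSpectrum (𝒮.deg U hU), f ∉ z.asHomogeneousIdeal →
      (∀ i, h i ∉ z.asHomogeneousIdeal) → H ∉ z.asHomogeneousIdeal := fun z hfz hz hmem =>
    (z.isPrime.mem_or_mem hmem).elim (fun h' => hfz (z.isPrime.mem_of_pow_mem _ h')) fun h' => by
      obtain ⟨i, -, hi⟩ := (z.isPrime.prod_mem_iff).1 h'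
      exact hz i hi
  have hval' : ∀ i z (hz : RelProj.emb p chart U hU z ∈ W) (hzH : H ∉ z.asHomogeneousIdeal), z ∈ V i →
      pv lam U hU (s i) z hz = Localization.mk (c i) ⟨H, hzH⟩ := by
    intro i z hz hzH hzV
    rw [hval i z hz (hV i z hzV).2 hzV, Localization.mk_eq_mk_iff, Localization.r_iff_exists]
    refine ⟨1, ?_⟩
    simp only [OneMemClass.coe_one, one_mul, H, c]
    rw [← Finset.prod_erase_mul _ _ (Finset.mem_univ i)]
    ring
  -- the relation near the point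
  let T : Γ(L, W) := ∑ i, resX P hWU (p.app U (r i)) • s i
  have hT : Groth.QCohMod.germ L x hxW T = Groth.QCohMod.germ L x hxW 0 := by
    rw [map_zero, map_sum, ← hrel]
    exact Finset.sum_congr rfl fun i _ => by rw [← hsmul hWU hxW, hs]
  obtain ⟨W', hxW', i₁, i₂, hT'⟩ := TopCat.Presheaf.germ_eq L.presheaf x hxW hxW T 0 hT
  have hHy0 : H ∉ y.asHomogeneousIdeal := hHy y hfy fun i => (hV i y (hyV i)).2
  have h0 : pv lam U hU T y hxW = 0 := by
    rw [← pv_res lam U hU i₁.le T y hxW', show res L i₁.le T = 0 from hT'.trans (map_zero _), pv_zero]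
  let num : 𝒮.presheaf.obj (op U) := ∑ i, (𝒮.str.app (op U)).hom (r i) * c i
  have hnum0 : (Localization.mk num ⟨H, hHy0⟩ : GrTwist.Loc (𝒮.deg U hU) y) = 0 := by
    rw [← h0, pv_sum, Localization.mk_eq_mk', IsLocalization.mk'_eq_iff_eq_mul, Finset.sum_mul, map_sum]
    refine Finset.sum_congr rfl fun i _ => ?_
    rw [pv_base_smul lam hP U hU hWU, hval' i y hxW hHy0 (hyV i), map_mul, mul_assoc, Localization.mk_eq_mk']
    exact congrArg _ (IsLocalization.mk'_spec _ _ _).symm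
  rw [Localization.mk_eq_mk', IsLocalization.mk'_eq_zero_iff] at hnum0
  obtain ⟨t₀, ht₀⟩ := hnum0
  have hnumD : num ∈ 𝒮.deg U hU D := sum_mem fun i _ => by
    simpa using SetLike.mul_mem_graded (𝒮.str_mem U hU (r i)) (hc i)
  obtain ⟨k, t, htk, hty, ht⟩ := exists_homogeneous_annihilator y (t := t₀.1) t₀.2 hnumD ht₀
  -- flatness in degree `k + D`
  letI := (𝒮.str.app (op U)).hom.toAlgebra
  haveI := hflat (k + D) (by omega) U hU
  set M := Submodule.span Γ(S, U) (𝒮.deg U hU (k + D) : Set (𝒮.presheaf.obj (op U))) with hM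
  have hMdeg : ∀ z ∈ M, z ∈ 𝒮.deg U hU (k + D) := by
    intro z hz
    induction hz using Submodule.span_induction with
    | mem w hw => exact hw
    | zero => exact zero_mem _
    | add u v _ _ hu hv => exact add_mem hu hv
    | smul b u _ hu =>
      rw [Algebra.smul_def]
      have h := SetLike.mul_mem_graded (𝒮.str_mem U hU b) hu
      rw [zero_add] at h
      exact h
  let mM : Fin l → M := fun i => ⟨t * c i, Submodule.subset_span (SetLike.mul_mem_graded htk (hc i))⟩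
  have hrelM : ∑ i, r i • mM i = 0 := by
    refine Subtype.ext ?_
    rw [AddSubmonoidClass.coe_finsetSum, ZeroMemClass.coe_zero, ← ht, Finset.mul_sum]
    refine Finset.sum_congr rfl fun i _ => ?_
    rw [Submodule.coe_smul, Algebra.smul_def, mul_left_comm]
    rfl
  obtain ⟨k', A', z, hz, hsum⟩ := Module.Flat.isTrivialRelation_of_sum_smul_eq_zero hrelM
  let V' : (Proj (𝒮.deg U hU)).Opens := Proj.basicOpen (𝒮.deg U hU) (t * H)
  have hyV' : y ∈ V' := fun hm => (y.isPrime.mem_or_mem hm).elim hty hHy0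
  choose sz hsz _ using fun j => exists_sec lam hL U hU V'
    (frac (hMdeg _ (z j).2) (SetLike.mul_mem_graded htk hHdeg) (by omega) V' fun _ hz => hz)
  let W'' : P.Opens := W ⊓ RelProj.emb p chart U hU ''ᵁ
    (V' ⊓ (⟨⋂ i, (V i).carrier, isOpen_iInter_of_finite fun i => (V i).isOpen⟩ : (Proj (𝒮.deg U hU)).Opens))
  have hxW'' : x ∈ W'' := ⟨hxW, y, ⟨hyV', Set.mem_iInter.2 hyV⟩, rfl⟩
  have hW''U : W'' ≤ p ⁻¹ᵁ U := inf_le_left.trans hWU
  have hW''z : W'' ≤ RelProj.emb p chart U hU ''ᵁ V' :=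
    inf_le_right.trans ((RelProj.emb p chart U hU).image_mono inf_le_left)
  refine ⟨k', A', fun j => Groth.QCohMod.germ L x hxW'' (res L hW''z (sz j)), fun i => ?_, hsum⟩
  have hle : W'' ≤ W := inf_le_left
  have key : res L hle (s i) = ∑ j, resX P hW''U (p.app U (A' i j)) • res L hW''z (sz j) := by
    refine sec_ext lam hL hU hW''U fun w hw => ?_
    obtain ⟨w', ⟨hw'1, hw'2⟩, hww⟩ := hw.2
    obtain rfl := (RelProj.emb p chart U hU).isOpenEmbedding.injective hww
    have htH : t * H ∉ w'.asHomogeneousIdeal := hw'1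
    have hwH : H ∉ w'.asHomogeneousIdeal := fun hm => htH (Ideal.mul_mem_left _ _ hm)
    rw [pv_res, hval' i w' hw.1 hwH (Set.mem_iInter.1 hw'2 i), pv_sum]
    have e1 : (Localization.mk (c i) ⟨H, hwH⟩ : GrTwist.Loc (𝒮.deg U hU) w') =
        Localization.mk (t * c i) ⟨t * H, htH⟩ := by
      rw [Localization.mk_eq_mk_iff, Localization.r_iff_exists]
      exact ⟨1, by simp; ring⟩
    rw [e1, show t * c i = (mM i : 𝒮.presheaf.obj (op U)) from rfl, hz i, AddSubmonoidClass.coe_finsetSum,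
      Localization.mk_eq_mk', IsLocalization.mk'_eq_iff_eq_mul, Finset.sum_mul, map_sum]
    refine Finset.sum_congr rfl fun j _ => ?_
    rw [pv_base_smul lam hP U hU hW''U, pv_res, hsz j w' _ hw'1, gval_frac, Submodule.coe_smul,
      Algebra.smul_def, map_mul, mul_assoc, Localization.mk_eq_mk']
    exact congrArg _ (IsLocalization.mk'_spec _ _ _).symm
  refine (hs i).symm.trans ((TopCat.Presheaf.germ_res_apply L.presheaf (homOfLE hle) x hxW'' (s i)).symm.trans ?_)
  change Groth.QCohMod.germ L x hxW'' (res L hle (s i)) = _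
  rw [key, map_sum]
  exact Finset.sum_congr rfl fun j _ => (hsmul hW''U hxW'' _ _).symm

include hP in
/-- A relative Proj with eventually flat pieces is flat. -/
theorem flat (hflat : EvFlat 𝒮) : Flat p := by
  rw [Flat.iff_flat_stalkMap]
  intro x
  rw [← Groth.Misc13.FlatBC.flat_stalkMap_iff_structure]
  obtain ⟨U, hU, hzU, -⟩ := exists_isAffineOpen_mem_and_subset (x := p x) (U := (⊤ : S.Opens)) trivial
  obtain ⟨y, rfl⟩ := exists_emb_eq (chart := chart) U hU hzU
  let L₀ := relTwist hP 0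
  have hL₀ := isRelTwist_relTwist hP 0
  have h1 : (1 : 𝒮.presheaf.obj (op U)) ∈ 𝒮.deg U hU 0 := SetLike.one_mem_graded _
  have hn1 : ∀ z : ProjectiveSpectrum (𝒮.deg U hU), (1 : 𝒮.presheaf.obj (op U)) ∉ z.asHomogeneousIdeal :=
    fun z h => z.isPrime.ne_top ((Ideal.eq_top_iff_one _).2 h)
  obtain ⟨e, -, hgen⟩ := exists_sec (relLam hP 0) hL₀ U hU ⊤
    (frac h1 h1 (by norm_num) ⊤ fun z _ => hn1 z)
  have he := hgen (gen_frac h1 h1 _ ⊤ (fun z _ => hn1 z) fun z _ => hn1 z)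
  have hx : RelProj.emb p chart U hU y ∈ RelProj.emb p chart U hU ''ᵁ ⊤ := ⟨y, trivial, rfl⟩
  have hb := bijective_smul_germ he hx
  have hLflat := isFlatOverAt (relLam hP 0) hP hL₀ hflat (RelProj.emb p chart U hU y)
  let x := RelProj.emb p chart U hU y
  letI := FlatMod.moduleStalkOver p L₀ x
  letI := FlatMod.moduleStalkOver p (Coh.structureModule P) x
  letI := (p.stalkMap x).hom.toAlgebra
  haveI : IsScalarTower (S.presheaf.stalk (p x)) (P.presheaf.stalk x) (L₀.presheaf.stalk x) :=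
    .of_algebraMap_smul fun _ _ => rfl
  rw [Groth.Misc13.FlatBC.flat_stalkMap_iff_structure, RingHom.Flat]
  haveI : Module.Flat (S.presheaf.stalk (p x)) (L₀.presheaf.stalk x) := hLflat
  exact Module.Flat.of_linearEquiv
    ((LinearEquiv.ofBijective (LinearMap.toSpanSingleton (P.presheaf.stalk x) _
      (L₀.presheaf.germ _ x hx e)) hb).restrictScalars (S.presheaf.stalk (p x)))

end Groth.RefRank.RelTwistFlat
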