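import Groth.Agent.RefRank.OmegaEmbed
import Groth.Agent.RefRank.JacobianSmooth
import Groth.Agent.KoszulLCI.Kinds

/-!
# Fitting ideals of differentials and smoothness of local complete intersections
-/

set_option autoImplicit false
universe u

open CategoryTheory AlgebraicGeometry TopologicalSpace Groth.QCohMod Groth.OmegaSheaf

namespace Groth.RefRank.SmoothFitting

variable {X Y : Scheme.{u}} (f : X ⟶ Y) [QuasiSeparated f]

/-- Off the `p`-th Jacobian locus the differentials of any chart are spanned by `p` elements. -/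
theorem spans_chart_of_notMem [LocallyOfFiniteType f] (p : ℕ) (x : X)
    (hx : x ∉ (Fitt.sheafIdeal (Omega.sheaf f) p).support) {U : X.Opens} {V : Y.Opens}
    (hU : IsAffineOpen U) (hV : IsAffineOpen V) (e : U ≤ f ⁻¹ᵁ V) (hxU : x ∈ U) :
    letI := chartAlg f e
    ∃ w : Fin p → Ω[Γ(X, U)⁄Γ(Y, V)], ∀ z, ∃ s ∉ (hU.primeIdealOf ⟨x, hxU⟩).asIdeal,
      s • z ∈ Submodule.span Γ(X, U) (Set.range w) := by
  classical
  haveI : (Omega.sheaf f).IsQuasicoherent :=
    Groth.OmegaSheaf.isQCoh_of_isUniversal (isUniversal_dOmega f)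
  obtain ⟨g₁, hg₁⟩ := (FittSheaf.notMem_support_iff_spans _ (isFT_sheaf f) p x).1 hx
  letI := chartAlg f e
  letI := stalkModule (Omega.sheaf f) x hxU
  haveI := isLocalizedModule_germ (Omega.sheaf f) hU x hxU
  set S := (hU.primeIdealOf ⟨x, hxU⟩).asIdeal.primeCompl with hS
  choose ms hms using fun j => IsLocalizedModule.surj S (germₗ (Omega.sheaf f) x hxU) (g₁ j)
  let w : Fin p → Ω[Γ(X, U)⁄Γ(Y, V)] := fun j => (chartEquiv f e hV hU).symm (ms j).1
  refine ⟨w, fun z => ?_⟩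
  have hz : germₗ (Omega.sheaf f) x hxU (chartEquiv f e hV hU z) ∈
      Submodule.span (X.presheaf.stalk x) (Set.range g₁) := hg₁.ge trivial
  have key : ∀ y ∈ Submodule.span (X.presheaf.stalk x) (Set.range g₁), ∃ s : S,
      ∃ a ∈ Submodule.span Γ(X, U) (Set.range w),
        (s : Γ(X, U)) • y = germₗ (Omega.sheaf f) x hxU (chartEquiv f e hV hU a) := by
    intro y hy
    induction hy using Submodule.span_induction with
    | mem a ha =>
      obtain ⟨j, rfl⟩ := ha
      exact ⟨(ms j).2, w j, Submodule.subset_span ⟨j, rfl⟩, by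
        rw [LinearEquiv.apply_symm_apply]; exact hms j⟩
    | zero => exact ⟨1, 0, zero_mem _, by simp⟩
    | add a b _ _ ha hb =>
      obtain ⟨s, a', ha', ha''⟩ := ha
      obtain ⟨t, b', hb', hb''⟩ := hb
      refine ⟨s * t, (t : Γ(X, U)) • a' + (s : Γ(X, U)) • b',
        add_mem (Submodule.smul_mem _ _ ha') (Submodule.smul_mem _ _ hb'), ?_⟩
      rw [map_add, map_add, map_smul, map_smul, map_smul, map_smul, ← ha'', ← hb'', Submonoid.coe_mul,
        smul_add, ← mul_smul, ← mul_smul, mul_comm (t : Γ(X, U))]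
    | smul r a _ ha =>
      obtain ⟨s, a', ha', ha''⟩ := ha
      letI : Algebra Γ(X, U) (X.presheaf.stalk x) :=
        TopCat.Presheaf.algebra_section_stalk X.presheaf ⟨x, hxU⟩
      haveI : IsLocalization.AtPrime (X.presheaf.stalk x) (hU.primeIdealOf ⟨x, hxU⟩).asIdeal :=
        hU.isLocalization_stalk ⟨x, hxU⟩
      haveI : IsScalarTower Γ(X, U) (X.presheaf.stalk x) ((Omega.sheaf f).presheaf.stalk x) :=
        IsScalarTower.of_compHom _ _ _
      obtain ⟨⟨b, t⟩, hbt⟩ := IsLocalization.surj S r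
      refine ⟨t * s, b • a', Submodule.smul_mem _ _ ha', ?_⟩
      rw [map_smul, map_smul, ← ha'', Submonoid.coe_mul, ← algebraMap_smul (X.presheaf.stalk x),
        ← algebraMap_smul (X.presheaf.stalk x) b, ← algebraMap_smul (X.presheaf.stalk x) (s : Γ(X, U)),
        map_mul, ← mul_smul, ← mul_smul, mul_right_comm, mul_comm _ r, hbt]
  obtain ⟨s, a, ha, ha'⟩ := key _ hz
  rw [← map_smul, ← map_smul] at ha'
  obtain ⟨u, hu⟩ := (IsLocalizedModule.eq_iff_exists S (germₗ (Omega.sheaf f) x hxU)).1 ha'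
  refine ⟨(u * s : S).1, (u * s : S).2, ?_⟩
  have h2 : (chartEquiv f e hV hU) ((u * s : S).1 • z) = (chartEquiv f e hV hU) (u.1 • a) := by
    rw [map_smul, map_smul, Submonoid.coe_mul, mul_smul]
    rw [map_smul] at hu
    exact hu
  rw [(chartEquiv f e hV hU).injective h2]
  exact Submodule.smul_mem _ _ ha

/-- Spanning differentials on a chart give a point off the Jacobian locus. -/
theorem notMem_of_spans_chart [LocallyOfFiniteType f] (p : ℕ) (x : X) {U : X.Opens} {V : Y.Opens}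
    (hU : IsAffineOpen U) (hV : IsAffineOpen V) (e : U ≤ f ⁻¹ᵁ V) (hxU : x ∈ U) :
    letI := chartAlg f e
    ∀ w : Fin p → Ω[Γ(X, U)⁄Γ(Y, V)], (∀ z, ∃ s ∉ (hU.primeIdealOf ⟨x, hxU⟩).asIdeal,
      s • z ∈ Submodule.span Γ(X, U) (Set.range w)) →
    x ∉ (Fitt.sheafIdeal (Omega.sheaf f) p).support := by
  intro w hw
  haveI : (Omega.sheaf f).IsQuasicoherent :=
    Groth.OmegaSheaf.isQCoh_of_isUniversal (isUniversal_dOmega f)
  rw [FittSheaf.notMem_support_iff_spans _ (isFT_sheaf f)]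
  letI := chartAlg f e
  letI := stalkModule (Omega.sheaf f) x hxU
  haveI := isLocalizedModule_germ (Omega.sheaf f) hU x hxU
  let g := fun j => germₗ (Omega.sheaf f) x hxU (chartEquiv f e hV hU (w j))
  have hu : ∀ s ∉ (hU.primeIdealOf ⟨x, hxU⟩).asIdeal, IsUnit (X.presheaf.germ U x hxU s) := fun s hs =>
    (Scheme.mem_basicOpen X s x hxU).mp ((mem_basicOpen_iff_notMem_primeIdealOf hU s x hxU).mpr hs)
  refine ⟨g, eq_top_iff.2 ?_⟩
  rintro y -
  obtain ⟨⟨m, s⟩, hs⟩ := IsLocalizedModule.surj (hU.primeIdealOf ⟨x, hxU⟩).asIdeal.primeCompl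
    (germₗ (Omega.sheaf f) x hxU) y
  obtain ⟨z, rfl⟩ := (chartEquiv f e hV hU).surjective m
  obtain ⟨t, ht, hmem⟩ := hw z
  have hm : germₗ (Omega.sheaf f) x hxU (chartEquiv f e hV hU (t • z)) ∈
      Submodule.span (X.presheaf.stalk x) (Set.range g) := by
    clear hs
    generalize t • z = v at hmem ⊢
    induction hmem using Submodule.span_induction with
    | mem a ha => obtain ⟨j, rfl⟩ := ha; exact Submodule.subset_span ⟨j, rfl⟩
    | zero => simp
    | add a b _ _ ha hb => rw [map_add, map_add]; exact add_mem ha hb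
    | smul r a _ ha => rw [map_smul, map_smul]; exact Submodule.smul_mem _ _ ha
  rw [map_smul, map_smul, ← hs] at hm
  exact (Submodule.smul_mem_iff_of_isUnit _ (hu s.1 s.2)).1 ((Submodule.smul_mem_iff_of_isUnit _ (hu t ht)).1 hm)

/-- An affine chart of a factorisation `U ↪ P ⟶ Y` inside a prescribed neighbourhood: a standard smooth
algebra of the relative dimension of `P` with a surjection whose kernel is generated by a Koszul-regular sequence. -/
theorem exists_lci_chart (c d : ℕ) (y : X) (U : X.Opens) {P : Scheme.{u}} (i : (U : Scheme.{u}) ⟶ P)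
    (π : P ⟶ Y) (hyU : y ∈ U) (hi : RegImm.IsRegularImmersionOfCodim RegImm.Kind.koszul c i)
    [hπ : SmoothOfRelativeDimension d π] (hcomm : i ≫ π = U.ι ≫ f) (O : X.Opens) (hyO : y ∈ O) :
    ∃ (V : Y.Opens) (T : X.Opens) (hV : IsAffineOpen V) (hT : IsAffineOpen T) (e : T ≤ f ⁻¹ᵁ V)
      (C : Type u) (_ : CommRing C) (_ : Algebra Γ(Y, V) C),
      y ∈ T ∧ T ≤ O ∧ Algebra.IsStandardSmoothOfRelativeDimension d Γ(Y, V) C ∧
      letI := chartAlg f e
      ∃ (φ : C →ₐ[Γ(Y, V)] Γ(X, T)) (r : Fin c → C), Function.Surjective φ ∧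
        CAlgX.IsQuasiRegular r ∧ RingHom.ker φ = Ideal.span (Set.range r) := by
  classical
  haveI := hi.1
  obtain ⟨⟨U₁, hU₁⟩, hy₁, hci, rs, hlen, hrs, hker⟩ := hi.2 ⟨y, hyU⟩
  obtain ⟨V, hV, W₀, hW₀, hy₀, eW₀, hsm⟩ := hπ.exists_isStandardSmoothOfRelativeDimension (i ⟨y, hyU⟩)
  obtain ⟨OP, hOP, hOPeq⟩ := i.isEmbedding.isInducing.isOpen_iff.1
    (U.ι ⁻¹ᵁ O).isOpen
  have hyOP : i ⟨y, hyU⟩ ∈ OP := by
    have : (⟨y, hyU⟩ : (U : Scheme.{u})) ∈ i ⁻¹' OP := by rw [hOPeq]; exact hyO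
    exact this
  obtain ⟨g₁, hg₁le, hyg₁⟩ := hW₀.exists_basicOpen_le (V := U₁ ⊓ ⟨OP, hOP⟩) ⟨i ⟨y, hyU⟩, hy₁, hyOP⟩ hy₀
  obtain ⟨a, hale, hya⟩ := hU₁.exists_basicOpen_le (V := P.basicOpen g₁) ⟨i ⟨y, hyU⟩, hyg₁⟩ hy₁
  let a' := (P.presheaf.map (homOfLE (hg₁le.trans inf_le_left)).op).hom a
  let W : P.Opens := P.basicOpen a'
  have hWa : W = P.basicOpen a :=
    (P.basicOpen_res _ _).trans (inf_eq_right.mpr hale)
  have hW1 : W ≤ U₁ := hWa.le.trans (P.basicOpen_le a)
  obtain ⟨hWaff, hciW, hrsW, hkerW⟩ := Groth.KoszulReg.chart_basicOpen i hU₁ rs hrs hker a W hWa hW1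
  have eW : W ≤ π ⁻¹ᵁ V := (P.basicOpen_le a').trans ((P.basicOpen_le g₁).trans eW₀)
  have hsmW : RingHom.IsStandardSmoothOfRelativeDimension d (π.appLE V W eW).hom := by
    have e1 : π.appLE V W eW = π.appLE V W₀ eW₀ ≫ P.presheaf.map (homOfLE (P.basicOpen_le g₁)).op ≫
        P.presheaf.map (homOfLE (P.basicOpen_le a')).op := by
      rw [← Category.assoc, Scheme.Hom.appLE_map, Scheme.Hom.appLE_map]
    rw [e1, CommRingCat.hom_comp, CommRingCat.hom_comp]
    letI := (P.presheaf.map (homOfLE (P.basicOpen_le g₁)).op).hom.toAlgebra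
    letI := (P.presheaf.map (homOfLE (P.basicOpen_le a')).op).hom.toAlgebra
    haveI : IsLocalization.Away g₁ Γ(P, P.basicOpen g₁) := hW₀.isLocalization_basicOpen g₁
    haveI : IsLocalization.Away a' Γ(P, P.basicOpen a') := (hW₀.basicOpen g₁).isLocalization_basicOpen a'
    rw [RingHom.comp_assoc]
    exact (RingHom.isStandardSmoothOfRelativeDimension_stableUnderCompositionWithLocalizationAway d).right
      _ a' _ ((RingHom.isStandardSmoothOfRelativeDimension_stableUnderCompositionWithLocalizationAway d).right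
        _ g₁ _ hsm)
  haveI := hciW
  have hT' : IsAffineOpen (i ⁻¹ᵁ W) := Groth.KoszulReg.isAffineOpen_preimage i W hWaff
  let T : X.Opens := U.ι ''ᵁ (i ⁻¹ᵁ W)
  have eT : T ≤ f ⁻¹ᵁ V := by
    rintro _ ⟨z, hz, rfl⟩
    change (U.ι ≫ f) z ∈ V
    rw [← hcomm]
    exact eW hz
  letI := chartAlg f eT
  letI := (π.appLE V W eW).hom.toAlgebra
  have key : π.appLE V W eW ≫ (i.app W ≫ (U.ι.appIso (i ⁻¹ᵁ W)).inv) = f.appLE V T eT := by
    rw [← cancel_mono (U.ι.appIso (i ⁻¹ᵁ W)).hom, Category.assoc, Category.assoc, Iso.inv_hom_id,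
      Category.comp_id, Scheme.Hom.appIso_hom', Scheme.Hom.app_eq_appLE, Scheme.Hom.appLE_comp_appLE,
      Scheme.Hom.appLE_comp_appLE]
    simp only [hcomm]
  let φ : Γ(P, W) →ₐ[Γ(Y, V)] Γ(X, T) :=
    { (i.app W ≫ (U.ι.appIso (i ⁻¹ᵁ W)).inv).hom with
      commutes' := fun r => congr($(key) r) }
  have hiso := ConcreteCategory.bijective_of_isIso (U.ι.appIso (i ⁻¹ᵁ W)).inv
  refine ⟨V, T, hV, hT'.image_of_isOpenImmersion U.ι, eT, Γ(P, W), inferInstance, inferInstance,
    ⟨⟨y, hyU⟩, hWa.ge hya, rfl⟩, ?_, hsmW, φ, ?_⟩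
  · rintro _ ⟨z, hz, rfl⟩
    have hz' : i z ∈ OP := (hg₁le (hale (hWa.le hz))).2
    have : z ∈ i ⁻¹' OP := hz'
    rw [hOPeq] at this
    exact this
  · let l := rs.map (P.presheaf.map (homOfLE hW1).op).hom
    have hl : l.length = c := by rw [List.length_map, hlen]
    refine ⟨fun j => l.get (j.cast hl.symm), hiso.2.comp (Groth.KoszulReg.surjective_app i W hWaff), ?_, ?_⟩
    · exact Groth.KoszulLCI.cast_transfer (fun _ g => CAlgX.IsQuasiRegular g) hl.symm l.get
        (Groth.KoszulLCI.seq_quasi .koszul hrsW)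
    · have h1 : RingHom.ker φ = RingHom.ker (i.app W).hom := by
        ext z
        change (U.ι.appIso (i ⁻¹ᵁ W)).inv.hom ((i.app W).hom z) = 0 ↔ (i.app W).hom z = 0
        exact ⟨fun h => hiso.1 (h.trans (map_zero _).symm), fun h => by rw [h, map_zero]⟩
      have h2 : Set.range (fun j : Fin c => l.get (j.cast hl.symm)) = {x | x ∈ l} := by
        rw [← Set.range_list_get]
        exact (finCongr hl.symm).surjective.range_comp l.get
      rw [h1, hkerW, h2]

/-- Smoothness of a local complete intersection of virtual dimension `m` is read off the `m`-th Jacobian locus. -/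
theorem smooth_iff_notMem [LocallyOfFinitePresentation f] (m : ℕ) (y : X) (U : X.Opens) {P : Scheme.{u}}
    (i : (U : Scheme.{u}) ⟶ P) (π : P ⟶ Y) (c : ℕ) (hyU : y ∈ U)
    (hi : RegImm.IsRegularImmersionOfCodim RegImm.Kind.koszul c i)
    [SmoothOfRelativeDimension (m + c) π] (hcomm : i ≫ π = U.ι ≫ f) :
    (∃ V : X.Opens, y ∈ V ∧ Smooth (V.ι ≫ f)) ↔ y ∉ (Fitt.sheafIdeal (Omega.sheaf f) m).support := by
  constructor
  · rintro ⟨O, hyO, hsmO⟩
    obtain ⟨V, T, hV, hT, e, C, _, _, hyT, hTO, hC, φ, r, hφ, hr, hker⟩ :=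
      exists_lci_chart f c (m + c) y U i π hyU hi hcomm O hyO
    letI := chartAlg f e
    haveI : Algebra.FormallySmooth Γ(Y, V) Γ(X, T) := by
      have h1 : Smooth (T.ι ≫ f) := by
        rw [← X.homOfLE_ι hTO, Category.assoc]
        infer_instance
      haveI : IsAffine (T : Scheme.{u}) := hT
      have hle : (⊤ : (T : Scheme.{u}).Opens) ≤ T.ι ⁻¹ᵁ T := T.ι_preimage_self.ge
      have h2 := h1.smooth_appLE hV (isAffineOpen_top (T : Scheme.{u})) (hle.trans (T.ι.preimage_mono e))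
      rw [← Scheme.Hom.appLE_comp_appLE T.ι f V T ⊤ e hle, CommRingCat.hom_comp] at h2
      have hbij : Function.Bijective (T.ι.appLE T ⊤ hle).hom := by
        rw [show T.ι.appLE T ⊤ hle = T.topIso.inv from by simp [Scheme.Opens.ι_appLE]; rfl]
        exact ConcreteCategory.bijective_of_isIso T.topIso.inv
      have h3 : RingHom.Smooth (f.appLE V T e).hom := by
        have h4 := RingHom.Smooth.respectsIso.1 _ (RingEquiv.ofBijective _ hbij).symm h2
        convert h4 using 1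
        exact RingHom.ext fun z => ((RingEquiv.ofBijective _ hbij).symm_apply_apply _).symm
      haveI : Algebra.Smooth Γ(Y, V) Γ(X, T) := h3
      infer_instance
    obtain ⟨w, hw⟩ := JacobianSmooth.spans_of_formallySmooth rfl hC φ hφ r hr hker
      (hT.primeIdealOf ⟨y, hyT⟩).asIdeal
    exact notMem_of_spans_chart f m y hT hV e hyT w hw
  · intro hy
    obtain ⟨V, T, hV, hT, e, C, _, _, hyT, -, hC, φ, r, hφ, hr, hker⟩ :=
      exists_lci_chart f c (m + c) y U i π hyU hi hcomm ⊤ trivial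
    letI := chartAlg f e
    obtain ⟨w, hw⟩ := spans_chart_of_notMem f m y hy hT hV e hyT
    obtain ⟨g, hg, hsm⟩ := JacobianSmooth.exists_smooth_localization_of_quotient rfl hC φ hφ r hker
      (hT.primeIdealOf ⟨y, hyT⟩).asIdeal w hw
    let W : X.Opens := X.basicOpen g
    refine ⟨W, (mem_basicOpen_iff_notMem_primeIdealOf hT g y hyT).mpr hg, ?_⟩
    have e₁ : W ≤ f ⁻¹ᵁ V := (X.basicOpen_le g).trans e
    letI : Algebra Γ(Y, V) Γ(X, W) := (f.appLE V W e₁).hom.toAlgebra
    letI : Algebra Γ(X, T) Γ(X, W) := (X.presheaf.map (homOfLE (X.basicOpen_le g)).op).hom.toAlgebra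
    haveI : IsScalarTower Γ(Y, V) Γ(X, T) Γ(X, W) := IsScalarTower.of_algebraMap_eq fun r => by
      exact (congr($(Scheme.Hom.appLE_map (f := f) e (homOfLE (X.basicOpen_le g)).op) r)).symm
    haveI : IsLocalization.Away g Γ(X, W) := hT.isLocalization_basicOpen g
    let ε : Localization.Away g ≃ₐ[Γ(X, T)] Γ(X, W) := IsLocalization.algEquiv (Submonoid.powers g) _ _
    haveI := hsm
    have hsW : Algebra.IsStandardSmoothOfRelativeDimension m Γ(Y, V) Γ(X, W) :=
      Algebra.IsStandardSmoothOfRelativeDimension.of_algEquiv m (ε.restrictScalars Γ(Y, V))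
    haveI := Algebra.IsStandardSmoothOfRelativeDimension.isStandardSmooth (R := Γ(Y, V)) (S := Γ(X, W)) m
    have hsm' : RingHom.Smooth (f.appLE V W e₁).hom :=
      (inferInstance : Algebra.Smooth Γ(Y, V) Γ(X, W))
    have : Smooth (Spec.map (f.appLE V W e₁) ≫ hV.fromSpec) := by
      haveI : Smooth (Spec.map (f.appLE V W e₁)) := (HasRingHomProperty.Spec_iff (P := @Smooth)).2 hsm'
      infer_instance
    rw [IsAffineOpen.SpecMap_appLE_fromSpec f hV (hT.basicOpen g) e₁] at this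
    rw [← (hT.basicOpen g).isoSpec_hom_fromSpec, Category.assoc]
    infer_instance

end Groth.RefRank.SmoothFitting
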