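import Groth.Agent.LocFree.ExtPow
import Groth.Agent.RefRank.Gen

/-!
# Wedges of germs
-/

set_option autoImplicit false
universe u

open CategoryTheory AlgebraicGeometry TopologicalSpace Groth.QCohMod
open Groth.LocFree (extPow ESec ewedge extUnit wedge)

namespace Groth.RefRank.DetDiv

variable {X : Scheme.{u}} (r : ℕ) (E : X.Modules) [E.IsQuasicoherent]

/-- The wedge of germs is an alternating map with spanning image. -/
theorem exists_stalkWedge (x : X) :
    ∃ w : E.presheaf.stalk x [⋀^Fin r]→ₗ[X.presheaf.stalk x] (extPow r E).presheaf.stalk x,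
      (∀ (V : X.Opens) (hx : x ∈ V) (e : Fin r → Γ(E, V)),
        w (fun j => germ E x hx (e j)) = germ (extPow r E) x hx (wedge r E e)) ∧
      Submodule.span (X.presheaf.stalk x) (Set.range w) = ⊤ := by
  haveI := LocFree.isQCoh_extPow r E
  obtain ⟨_, ⟨U, hU, rfl⟩, hxU, -⟩ :=
    X.isBasis_affineOpens.exists_subset_of_mem_open (Set.mem_univ x) isOpen_univ
  let T := (hU.primeIdealOf ⟨x, hxU⟩).asIdeal.primeCompl
  letI : Algebra Γ(X, U) (X.presheaf.stalk x) :=
    TopCat.Presheaf.algebra_section_stalk X.presheaf ⟨x, hxU⟩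
  haveI : IsLocalization T (X.presheaf.stalk x) := hU.isLocalization_stalk ⟨x, hxU⟩
  letI := stalkModule E x hxU
  letI := stalkModule (extPow r E) x hxU
  haveI : IsScalarTower Γ(X, U) (X.presheaf.stalk x) (E.presheaf.stalk x) :=
    ⟨fun a b m => mul_smul (X.presheaf.germ U x hxU a) b m⟩
  haveI : IsScalarTower Γ(X, U) (X.presheaf.stalk x) ((extPow r E).presheaf.stalk x) :=
    ⟨fun a b m => mul_smul (X.presheaf.germ U x hxU a) b m⟩
  haveI := isLocalizedModule_germ E hU x hxU
  haveI := isLocalizedModule_germ (extPow r E) hU x hxU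
  haveI : IsLocalizedModule T (LocFree.extMap (S := X.presheaf.stalk x) r (germₗ E x hxU)) :=
    LocFree.extMap_isLocalizedModule r _ T
  let B := LinearEquiv.ofBijective (extUnit r E U) (LocFree.extUnit_bijective r E hU)
  haveI : IsLocalizedModule T (germₗ (extPow r E) x hxU ∘ₗ B.toLinearMap) :=
    IsLocalizedModule.of_linearEquiv_right T _ B
  let e₀ := IsLocalizedModule.linearEquiv T (LocFree.extMap (S := X.presheaf.stalk x) r (germₗ E x hxU))
    (germₗ (extPow r E) x hxU ∘ₗ B.toLinearMap)
  let e₁ := LinearEquiv.extendScalarsOfIsLocalization T (X.presheaf.stalk x) e₀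
  let w := e₁.toLinearMap.compAlternatingMap (exteriorPower.ιMulti (X.presheaf.stalk x) r)
  have hw : ∀ f : Fin r → Γ(E, U),
      w (fun j => germ E x hxU (f j)) = germ (extPow r E) x hxU (wedge r E f) := fun f => by
    have h := IsLocalizedModule.linearEquiv_apply T
      (LocFree.extMap (S := X.presheaf.stalk x) r (germₗ E x hxU))
      (germₗ (extPow r E) x hxU ∘ₗ B.toLinearMap) (ewedge r E f)
    rw [LocFree.extMap_ιMulti] at h
    exact h
  refine ⟨w, fun V hx e => ?_, ?_⟩
  · choose a f ha hf using fun j => exists_smul_germ_eq E hU x hxU (germ E x hx (e j))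
    have hau : ∀ j, IsUnit (X.presheaf.germ U x hxU (a j)) := fun j =>
      (Scheme.mem_basicOpen X (a j) x hxU).mp (ha j)
    refine ((IsUnit.prod_iff (s := Finset.univ)).2 fun j _ => hau j).smul_left_cancel.mp ?_
    rw [← AlternatingMap.map_smul_univ, funext hf, hw f]
    have heq : ∀ j, ∃ W : X.Opens, x ∈ W ∧ ∃ (h₁ : W ≤ U) (h₂ : W ≤ V),
        resFun X h₁ (a j) • res E h₂ (e j) = res E h₁ (f j) := fun j => by
      have h0 : germ E x (show x ∈ U ⊓ V from ⟨hxU, hx⟩)
          (resFun X (inf_le_left : U ⊓ V ≤ U) (a j) • res E inf_le_right (e j)) =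
          germ E x hxU (f j) := by
        rw [germ_smul, germ_res]
        erw [TopCat.Presheaf.germ_res_apply]
        exact hf j
      obtain ⟨W, hxW, i, i', hW⟩ := TopCat.Presheaf.germ_eq E.presheaf x _ _ _ _ h0
      refine ⟨W, hxW, i'.le, i.le.trans inf_le_right, ?_⟩
      have hW' : res E i.le (resFun X (inf_le_left : U ⊓ V ≤ U) (a j) • res E inf_le_right (e j)) =
          res E i'.le (f j) := hW
      rw [res_smul, resFun_resFun, res_res] at hW'
      exact hW'
    choose W hxW h₁ h₂ hW using heq
    let Ω : X.Opens := (U ⊓ V) ⊓ Finset.univ.inf W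
    have hΩ : ∀ j, Ω ≤ W j := fun j => inf_le_right.trans (Finset.inf_le (Finset.mem_univ j))
    have hxΩ : x ∈ Ω := ⟨⟨hxU, hx⟩, by rw [TopologicalSpace.Opens.coe_finset_inf, Finset.inf_set_eq_iInter]; exact Set.mem_iInter₂.2 fun j _ => hxW j⟩
    have hΩU : Ω ≤ U := inf_le_left.trans inf_le_left
    have hΩV : Ω ≤ V := inf_le_left.trans inf_le_right
    have hkey : (fun j => res E hΩU (f j)) = fun j => resFun X hΩU (a j) • res E hΩV (e j) := by
      funext j
      have h := congrArg (res E (hΩ j)) (hW j)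
      rw [res_smul, resFun_resFun, res_res, res_res] at h
      exact h.symm
    rw [← germ_res (extPow r E) hΩU x hxΩ (wedge r E f), ← germ_res (extPow r E) hΩV x hxΩ (wedge r E e),
      show res (extPow r E) hΩU (wedge r E f) = wedge r E (fun j => res E hΩU (f j)) from
        LocFree.res_wedge r E hΩU f,
      show res (extPow r E) hΩV (wedge r E e) = wedge r E (fun j => res E hΩV (e j)) from
        LocFree.res_wedge r E hΩV e, hkey, wedge, wedge]
    change germ _ x hxΩ (extUnit r E Ω (exteriorPower.ιMulti Γ(X, Ω) r _)) = _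
    rw [AlternatingMap.map_smul_univ, map_smul, germ_smul, map_prod]
    congr 1
    exact Finset.prod_congr rfl fun j _ => TopCat.Presheaf.germ_res_apply X.presheaf _ x hxΩ (a j)
  · refine top_le_iff.1 ?_
    rintro v -
    obtain ⟨y, rfl⟩ := e₁.surjective v
    have hy := (exteriorPower.ιMulti_span (X.presheaf.stalk x) r (E.presheaf.stalk x)).ge
      (Submodule.mem_top : y ∈ ⊤)
    induction hy using Submodule.span_induction with
    | mem y hy => obtain ⟨f, rfl⟩ := hy; exact Submodule.subset_span ⟨f, rfl⟩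
    | zero => rw [map_zero]; exact Submodule.zero_mem _
    | add a b _ _ ha hb => rw [map_add]; exact Submodule.add_mem _ ha hb
    | smul c y _ hy => rw [map_smul]; exact Submodule.smul_mem _ _ hy

/-- The wedge of germs. -/
noncomputable def stalkWedge (x : X) :
    E.presheaf.stalk x [⋀^Fin r]→ₗ[X.presheaf.stalk x] (extPow r E).presheaf.stalk x :=
  (exists_stalkWedge r E x).choose

theorem stalkWedge_germ {x : X} {V : X.Opens} (hx : x ∈ V) (e : Fin r → Γ(E, V)) :
    stalkWedge r E x (fun j => germ E x hx (e j)) = germ (extPow r E) x hx (wedge r E e) :=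
  (exists_stalkWedge r E x).choose_spec.1 V hx e

theorem span_stalkWedge (x : X) :
    Submodule.span (X.presheaf.stalk x) (Set.range (stalkWedge r E x)) = ⊤ :=
  (exists_stalkWedge r E x).choose_spec.2

theorem mspec_stalkWedge {x y : X} (h : y ⤳ x) (v : Fin r → E.presheaf.stalk x) :
    mspec (extPow r E) h (stalkWedge r E x v) = stalkWedge r E y (fun j => mspec E h (v j)) := by
  obtain ⟨_, ⟨U, hU, rfl⟩, hxU, -⟩ :=
    X.isBasis_affineOpens.exists_subset_of_mem_open (Set.mem_univ x) isOpen_univ
  choose a f ha hf using fun j => exists_smul_germ_eq E hU x hxU (v j)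
  have hau : ∀ j, IsUnit (rspec h (X.presheaf.germ U x hxU (a j))) := fun j =>
    ((Scheme.mem_basicOpen X (a j) x hxU).mp (ha j)).map _
  refine ((IsUnit.prod_iff (s := Finset.univ)).2 fun j _ => hau j).smul_left_cancel.mp ?_
  rw [← map_prod, ← mspec_smul, ← AlternatingMap.map_smul_univ, funext hf, stalkWedge_germ,
    mspec_germ, map_prod, ← AlternatingMap.map_smul_univ]
  have e : (fun j => rspec h (X.presheaf.germ U x hxU (a j)) • mspec E h (v j)) =
      fun j => germ E y (h.mem_open U.2 hxU) (f j) := funext fun j => by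
    rw [← mspec_smul, hf, mspec_germ]
  rw [e, stalkWedge_germ]

end Groth.RefRank.DetDiv
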