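import Groth.Agent.RefRank.StrictSheaf
import Groth.Prelude.Def_FlatMod2

/-!
# Strict transforms of modules that are flat along the centre
-/

set_option autoImplicit false
universe u

open CategoryTheory CategoryTheory.Limits AlgebraicGeometry TopologicalSpace Groth.QCohMod
open scoped TensorProduct

namespace Groth.RefRank.StrictSheaf

theorem smul_eq_zero_of_flat {R A : Type u} [CommRing R] [CommRing A] [Algebra R A] {M : Type u}
    [AddCommGroup M] [Module R M] [Module.Flat R M] {τ : A} (hτ : τ ∈ nonZeroDivisors A)
    {z : A ⊗[R] M} (h : τ • z = 0) : z = 0 := by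
  have hinj : Function.Injective ((LinearMap.mulLeft R τ).rTensor M) :=
    Module.Flat.rTensor_preserves_injective_linearMap _
      (fun a b hab => mul_cancel_left_mem_nonZeroDivisors hτ |>.1 hab)
  refine hinj ?_
  rw [map_zero, ← h]
  clear h
  induction z using TensorProduct.induction_on with
  | zero => simp
  | tmul a m => rw [LinearMap.rTensor_tmul, LinearMap.mulLeft_apply, TensorProduct.smul_tmul', smul_eq_mul]
  | add z w hz hw => rw [map_add, smul_add, hz, hw]

variable {S' S : Scheme.{u}} {b : S' ⟶ S} {I : S.IdealSheafData} (F : S.Modules) [F.IsQuasicoherent]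

/-- The pullback is its own strict transform if the module is flat along the centre. -/
theorem isStrictTransform_id_of_flat (hE : BlowUp.IsEffCartierIdeal (I.comap b))
    (hflat : ∀ s : S, s ∈ I.support → FlatMod.IsFlatAt F s) :
    BlowUp.IsStrictTransform b I F ((Scheme.Modules.pullback b).obj F) (𝟙 _) := by
  refine ⟨inferInstance, fun V m => ⟨fun h => ?_, fun hk => ?_⟩⟩
  · refine ⟨0, fun a _ => ?_⟩
    rw [show m = 0 from h, smul_zero]
  obtain ⟨n, hn⟩ := hk
  show m = 0
  let P := (Scheme.Modules.pullback b).obj F
  refine TopCat.Presheaf.section_ext ⟨P.presheaf, P.isSheaf⟩ V.1 m 0 fun z hz => ?_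
  rw [map_zero]
  obtain ⟨W, hzW, -, t, ht, hI⟩ := Divisors.exists_generator hE z ⊤ trivial
  set τ := S'.presheaf.germ W.1 z hzW t
  have hτ : ((I.comap b).ideal V).map (S'.presheaf.germ V.1 z hz).hom = Ideal.span {τ} := by
    rw [EffCartierLocal.map_germ_eq _ hz hzW, hI, Ideal.map_span, Set.image_singleton]
  have hkill : τ ^ n • germ P z hz m = 0 := by
    have hmem : τ ^ n ∈ (((I.comap b) ^ n).ideal V).map (S'.presheaf.germ V.1 z hz).hom := by
      rw [Scheme.IdealSheafData.ideal_pow, Pi.pow_apply, Ideal.map_pow, hτ, Ideal.span_singleton_pow]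
      exact Ideal.mem_span_singleton_self _
    generalize τ ^ n = y at hmem ⊢
    induction hmem using Submodule.span_induction with
    | mem y hy =>
      obtain ⟨a, ha, rfl⟩ := hy
      exact (germ_smul P z hz a m).symm.trans (by rw [hn a ha, map_zero])
    | zero => exact zero_smul _ _
    | add y y' _ _ h h' => rw [add_smul, h, h', add_zero]
    | smul c y _ h => rw [smul_eq_mul, mul_smul, h, smul_zero]
  show germ P z hz m = 0
  by_cases hs : b z ∈ I.support
  · haveI : Module.Flat (S.presheaf.stalk (b z)) (F.presheaf.stalk (b z)) := hflat _ hs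
    letI := stalkAlg b z
    obtain ⟨w, hw⟩ := (pullStalkEquiv b F z).surjective (germ P z hz m)
    rw [← hw, ← map_smul, LinearEquiv.map_eq_zero_iff] at hkill
    rw [← hw, smul_eq_zero_of_flat (pow_mem (ht z hzW) n) hkill, map_zero]
  · rw [← mem_support_comap_iff, EffCartierLocal.mem_support_iff_map_germ_ne_top _ hz, not_not, hτ,
      Ideal.span_singleton_eq_top] at hs
    exact (hs.pow n).smul_eq_zero.1 hkill

end Groth.RefRank.StrictSheaf
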